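import Mathlib

/-!
# Covering a group by the conjugates of two proper subgroups: general facts
-/

set_option autoImplicit false

namespace Cfsg.Agent.Lib.CoverTwo

/-- every element is conjugate into one of two proper subgroups -/
def Covered (G : Type*) [Group G] : Prop :=
  ∃ H K : Subgroup G, H ≠ ⊤ ∧ K ≠ ⊤ ∧ ∀ g : G, ∃ x : G, x * g * x⁻¹ ∈ H ∨ x * g * x⁻¹ ∈ K

theorem map_mk_ne_top {G : Type*} [Group G] {Z : Subgroup G} [Z.Normal] {H : Subgroup G}
    (hH : Z ≤ H) (hne : H ≠ ⊤) : H.map (QuotientGroup.mk' Z) ≠ ⊤ := by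
  intro h
  apply hne
  have h' := congrArg (Subgroup.comap (QuotientGroup.mk' Z)) h
  rw [Subgroup.comap_map_eq, QuotientGroup.ker_mk', sup_eq_left.2 hH, Subgroup.comap_top] at h'
  exact h'

/-- a covering passes to a quotient by a subgroup contained in both members -/
theorem covered_quotient {G : Type*} [Group G] {Z : Subgroup G} [Z.Normal] {H K : Subgroup G}
    (hH : Z ≤ H) (hK : Z ≤ K) (hH' : H ≠ ⊤) (hK' : K ≠ ⊤)
    (h : ∀ g : G, ∃ x : G, x * g * x⁻¹ ∈ H ∨ x * g * x⁻¹ ∈ K) : Covered (G ⧸ Z) := by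
  refine ⟨_, _, map_mk_ne_top hH hH', map_mk_ne_top hK hK', fun g => ?_⟩
  obtain ⟨g, rfl⟩ := QuotientGroup.mk'_surjective Z g
  obtain ⟨x, hx⟩ := h g
  refine ⟨QuotientGroup.mk' Z x, ?_⟩
  rw [← map_inv, ← map_mul, ← map_mul]
  exact hx.imp (Subgroup.mem_map_of_mem _) (Subgroup.mem_map_of_mem _)

end Cfsg.Agent.Lib.CoverTwo
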