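import Mathlib
import Cfsg.Agent.Lib.CoverTwo.Basic
import Cfsg.Agent.Lib.ZornG2.Idem

/-!
# `G₂(q)`, `q` even: every element fixes a two-dimensional non-degenerate unital subalgebra
-/

set_option autoImplicit false

namespace Cfsg.Agent.Lib.CoverTwo

open Matrix Cfsg.Lie ZornG2

variable {F : Type*} [Field F]

/-- trace on Zorn's algebra -/
def zT (x : Fin 8 → F) : F := x 0 + x 7

/-- norm on Zorn's algebra -/
def zN (x : Fin 8 → F) : F := x 0 * x 7 - dot3 (zA F x) (zB F x)

theorem zornMul_self (x : Fin 8 → F) : zornMul x x = zT x • x - zN x • zOne F := by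
  funext i
  fin_cases i <;> simp [zornMul, zT, zN, zOne, mkZ, zA, zB, dot3, cross3] <;> ring

/-- the action as a linear map -/
def actL (g : ↥(Cfsg.Lie.G2 F)) : Module.End F (Fin 8 → F) :=
  Matrix.mulVecLin (((g : GL (Fin 8) F)) : Matrix (Fin 8) (Fin 8) F)

theorem actL_apply (g : ↥(Cfsg.Lie.G2 F)) (x : Fin 8 → F) : actL g x = act g x := rfl

theorem act_add_one (g : ↥(Cfsg.Lie.G2 F)) (x : Fin 8 → F) (c : F) :
    act g (x + c • zOne F) = act g x + c • zOne F := by
  rw [← actL_apply, map_add, map_smul, actL_apply, actL_apply, act_zOne]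

theorem act_T_N (g : ↥(Cfsg.Lie.G2 F)) (x : Fin 8 → F) :
    zT (act g x) = zT x ∧ zN (act g x) = zN x := by
  by_cases hx : ∃ c : F, x = c • zOne F
  · obtain ⟨c, rfl⟩ := hx
    have h : act g (c • zOne F) = c • zOne F := by rw [← actL_apply, map_smul, actL_apply, act_zOne]
    exact ⟨by rw [h], by rw [h]⟩
  · have h : zT (act g x) • act g x - zN (act g x) • zOne F = zT x • act g x - zN x • zOne F := by
      rw [← zornMul_self, ← act_zornMul, zornMul_self]
      conv_lhs => rw [← actL_apply, map_sub, map_smul, map_smul, actL_apply, actL_apply, act_zOne]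
    have hT : zT (act g x) = zT x := by
      by_contra hne
      apply hx
      refine ⟨(zT (act g x) - zT x)⁻¹ * (zN (act g x) - zN x), act_injective g ?_⟩
      rw [← actL_apply g ((_ * _) • zOne F), map_smul, actL_apply, act_zOne]
      have h' : (zT (act g x) - zT x) • act g x = (zN (act g x) - zN x) • zOne F := by
        funext i
        have := congrFun h i
        simp only [Pi.sub_apply, Pi.smul_apply, smul_eq_mul] at this ⊢
        linear_combination this
      rw [mul_smul, ← h', inv_smul_smul₀ (sub_ne_zero.2 hne)]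
    refine ⟨hT, ?_⟩
    rw [hT] at h
    have := congrFun h 0
    simp only [Pi.sub_apply, Pi.smul_apply, smul_eq_mul, zOne, mkZ] at this
    simp at this
    linear_combination this

/-- stabiliser of a vector modulo the unit -/
def modStab (z : Fin 8 → F) : Subgroup ↥(Cfsg.Lie.G2 F) where
  carrier := {g | ∃ c : F, act g z = z + c • zOne F}
  one_mem' := ⟨0, by rw [act_one, zero_smul, add_zero]⟩
  mul_mem' {a b} := by
    rintro ⟨c, hc⟩ ⟨d, hd⟩
    exact ⟨c + d, by rw [act_mul, hd, act_add_one, hc, add_smul, add_assoc]⟩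
  inv_mem' {a} := by
    rintro ⟨c, hc⟩
    refine ⟨-c, act_injective a ?_⟩
    rw [← act_mul, mul_inv_cancel, act_one, act_add_one, hc, add_assoc, ← add_smul, add_neg_cancel,
      zero_smul, add_zero]

variable [Fintype F] [CharP F 2]

/-- the polar form of the norm, characteristic two -/
def zB2 (u v : Fin 8 → F) : F :=
  u 0 * v 7 + u 7 * v 0 + (u 1 * v 4 + u 4 * v 1) + (u 2 * v 5 + u 5 * v 2) + (u 3 * v 6 + u 6 * v 3)

omit [Fintype F] in
theorem zN_add (u v : Fin 8 → F) : zN (u + v) = zN u + zN v + zB2 u v := by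
  simp only [zN, zB2, zA, zB, dot3, Pi.add_apply, CharTwo.sub_eq_add]
  simp
  ring

/-- some element of trace one is fixed modulo the unit -/
theorem exists_fixed_mod (g : ↥(Cfsg.Lie.G2 F)) :
    ∃ x, zT x = 1 ∧ g ∈ modStab x := by
  by_contra hc
  push Not at hc
  let U : Submodule F (Fin 8 → F) := F ∙ zOne F
  let Ψ : (Fin 8 → F) →ₗ[F] (Fin 8 → F) ⧸ U := U.mkQ.comp (actL g - LinearMap.id)
  let T : (Fin 8 → F) →ₗ[F] F :=
    { toFun := zT
      map_add' := fun u v => by simp [zT]; ring
      map_smul' := fun c u => by simp [zT]; ring }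
  have hker : ∀ x ∈ LinearMap.ker Ψ, T x = 0 := by
    intro x hx
    by_contra hne
    have hx' : act g x - x ∈ U := by
      rw [← Submodule.Quotient.mk_eq_zero, Submodule.Quotient.mk_sub]
      simpa [Ψ, actL_apply] using hx
    obtain ⟨c, hc'⟩ := Submodule.mem_span_singleton.1 hx'
    refine hc ((zT x)⁻¹ • x) ?_ ⟨(zT x)⁻¹ * c, ?_⟩
    · show T ((zT x)⁻¹ • x) = 1
      rw [map_smul, smul_eq_mul]
      exact inv_mul_cancel₀ hne
    · rw [← actL_apply, map_smul, actL_apply, mul_smul, hc', ← smul_add, add_sub_cancel]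
  have hmem : T ∈ LinearMap.range Ψ.dualMap := by
    rw [LinearMap.range_dualMap_eq_dualAnnihilator_ker, Submodule.mem_dualAnnihilator]
    exact hker
  obtain ⟨ψ, hψ⟩ := hmem
  let φ : (Fin 8 → F) →ₗ[F] F := ψ.comp U.mkQ
  let e : Fin 8 → (Fin 8 → F) := fun i => Pi.single i 1
  let w : Fin 8 → F := ![φ (e 7), φ (e 4), φ (e 5), φ (e 6), φ (e 1), φ (e 2), φ (e 3), φ (e 0)]
  have hw : ∀ x, φ x = zB2 w x := by
    intro x
    have hx : x = ∑ i, x i • e i := by
      funext k; simp [e, Finset.sum_apply, Pi.single_apply]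
    conv_lhs => rw [hx, map_sum]
    simp [Fin.sum_univ_eight, zB2, w, smul_eq_mul]
    ring
  have hTw : zT w = 0 := by
    have h1 : φ (zOne F) = 0 := by
      show ψ (U.mkQ (zOne F)) = 0
      rw [show U.mkQ (zOne F) = 0 from (Submodule.Quotient.mk_eq_zero U).2 (Submodule.mem_span_singleton_self _),
        map_zero]
    rw [hw] at h1
    simpa [zB2, zT, zOne, mkZ] using h1
  have hkey : ∀ x, zB2 w (act g x) = zB2 w x + zT x := by
    intro x
    have := LinearMap.congr_fun hψ x
    have h2 : φ (act g x - x) = zT x := this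
    rw [map_sub, hw, hw] at h2
    linear_combination h2
  have hinv : ∀ u v, zB2 (act g u) (act g v) = zB2 u v := by
    intro u v
    have h1 := zN_add (act g u) (act g v)
    rw [show act g u + act g v = act g (u + v) from (map_add (actL g) u v).symm, (act_T_N g _).2,
      (act_T_N g _).2, (act_T_N g _).2, zN_add] at h1
    linear_combination -h1
  set w' := act g⁻¹ w with hw'
  have hgw : act g w' = w := by rw [hw', ← act_mul, mul_inv_cancel, act_one]
  have hsub : ∀ x, zB2 (w' + (w + zOne F)) x = 0 := by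
    intro x
    have h1 : zB2 w' x = zB2 w x + zT x := by
      rw [← hkey x]
      conv_rhs => rw [← hgw, hinv]
    have h2 : zB2 (w' + (w + zOne F)) x = zB2 w' x + (zB2 w x + zT x) := by
      simp only [zB2, zT, Pi.add_apply]
      simp [zOne, mkZ]
      ring
    rw [h2, h1, CharTwo.add_self_eq_zero]
  have hzero : w' + (w + zOne F) = 0 := by
    funext i
    fin_cases i
    · simpa [zB2, e] using hsub (e 7)
    · simpa [zB2, e] using hsub (e 4)
    · simpa [zB2, e] using hsub (e 5)
    · simpa [zB2, e] using hsub (e 6)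
    · simpa [zB2, e] using hsub (e 1)
    · simpa [zB2, e] using hsub (e 2)
    · simpa [zB2, e] using hsub (e 3)
    · simpa [zB2, e] using hsub (e 0)
  have hw1 : w' = w + zOne F := by
    funext i
    have := congrFun hzero i
    simp only [Pi.add_apply, Pi.zero_apply] at this ⊢
    exact CharTwo.add_eq_zero.1 this
  have h := (act_T_N g w').2
  rw [hgw, hw1, zN_add] at h
  have h1 : zN (zOne F) = 1 := by simp [zN, zOne, mkZ, dot3, zA, zB]
  have h2 : zB2 w (zOne F) = zT w := by simp [zB2, zT, zOne, mkZ]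
  rw [h1, h2, hTw, add_zero] at h
  exact one_ne_zero (add_eq_left.1 h.symm)

/-- a standard element of trace one and norm `δ` -/
def zInert (δ : F) : Fin 8 → F := mkZ 0 ![1, 0, 0] ![-δ, 0, 0] 1

omit [Fintype F] [CharP F 2] in
theorem exists_move_inert {x : Fin 8 → F} {δ : F} (hT : zT x = 1) (hN : zN x = δ)
    (hirr : ∀ s : F, s - s * s ≠ δ) : ∃ k : ↥(Cfsg.Lie.G2 F), act k x = zInert δ := by
  have h7 : x 7 = 1 - x 0 := eq_sub_of_add_eq' hT
  have hd : dot3 (zA F x) (zB F x) = x 0 - x 0 * x 0 - δ := by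
    unfold zN at hN
    linear_combination -hN + (x 0) * h7
  have ha : zA F x ≠ 0 := by
    intro e
    rw [e] at hd
    apply hirr (x 0)
    simp [dot3] at hd
    linear_combination -hd
  obtain ⟨M, hM⟩ := exists_move_vec (zA F x) ha
  set b := M.1.adjugateᵀ *ᵥ zB F x with hb
  have he : act (sl3Hom F M) x = mkZ (x 0) ![1, 0, 0] b (x 7) := by
    rw [act_sl3Hom]
    conv_lhs => rw [← mkZ_eta x, sl3Lin_mkZ, hM]
  have hb0 : b 0 = x 0 - x 0 * x 0 - δ := by
    rw [← hd, ← dot3_mulVec M.1 M.2, hM, ← hb]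
    simp [dot3]
  have hbne : b 0 ≠ 0 := fun e => hirr (x 0) (by linear_combination e - hb0)
  let N : Matrix (Fin 3) (Fin 3) F := !![1, b 1 / b 0, b 2 / b 0; 0, 1, 0; 0, 0, 1]
  have hN' : N.det = 1 := by simp [N, Matrix.det_fin_three]
  have he' : act (sl3Hom F ⟨N, hN'⟩) (mkZ (x 0) ![1, 0, 0] b (x 7)) =
      mkZ (x 0) ![1, 0, 0] ![b 0, 0, 0] (x 7) := by
    rw [show act (sl3Hom F ⟨N, hN'⟩) (mkZ (x 0) ![1, 0, 0] b (x 7)) =
      sl3Lin N (mkZ (x 0) ![1, 0, 0] b (x 7)) from act_sl3Hom _ _, sl3Lin_mkZ]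
    congr 1
    · funext i; fin_cases i <;> simp [N, Matrix.mulVec, dotProduct, Fin.sum_univ_three]
    · funext i
      fin_cases i <;>
        simp [N, Matrix.mulVec, dotProduct, Fin.sum_univ_three, Matrix.adjugate_fin_three] <;>
        field_simp <;> ring
  let P : Matrix (Fin 2) (Fin 2) F := !![1, 0; x 0, 1]
  have hP : P.det ≠ 0 := by simp [P, Matrix.det_fin_two]
  let Pu : GL (Fin 2) F := Matrix.GeneralLinearGroup.mkOfDetNeZero P hP
  have hinv : ((Pu⁻¹ : GL (Fin 2) F) : Matrix (Fin 2) (Fin 2) F) = !![1, 0; -(x 0), 1] := by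
    rw [Matrix.coe_units_inv]
    refine Matrix.inv_eq_right_inv ?_
    show P * _ = 1
    ext i j; fin_cases i <;> fin_cases j <;> simp [P, Matrix.mul_apply, Fin.sum_univ_two]
  refine ⟨pairHom F (diagPair Pu) * sl3Hom F ⟨N, hN'⟩ * sl3Hom F M, ?_⟩
  rw [act_mul, act_mul, he, he', act_diagPair]
  refine pair_ext ?_ ?_
  · rw [quat_pairLin, hinv, show (Pu : Matrix (Fin 2) (Fin 2) F) = P from rfl]
    ext i j
    fin_cases i <;> fin_cases j <;>
      simp [P, quat, zInert, mkZ, Matrix.mul_apply, Fin.sum_univ_two, h7] <;>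
      linear_combination hb0
  · rw [perp_pairLin]
    have hp : perp (mkZ (x 0) ![1, 0, 0] ![b 0, 0, 0] (x 7)) = 0 := by
      ext i j; fin_cases i <;> fin_cases j <;> simp [perp, mkZ]
    rw [hp, Matrix.mul_zero, Matrix.zero_mul]
    ext i j; fin_cases i <;> fin_cases j <;> simp [perp, zInert, mkZ]

theorem exists_artin_schreier_shift {δ δ₀ : F} (hδ : ∀ r : F, r * r + r ≠ δ)
    (hδ₀ : ∀ r : F, r * r + r ≠ δ₀) : ∃ r : F, r * r + r = δ + δ₀ := by
  classical
  let f : F →+ F :=
    { toFun := fun r => r * r + r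
      map_zero' := by ring
      map_add' := fun a b => by
        linear_combination (a * b) * (CharTwo.two_eq_zero : (2 : F) = 0) }
  have hker : Nat.card f.ker = 2 := by
    have : (f.ker : Set F) = {0, 1} := by
      ext r
      constructor
      · intro hr
        have hr' : r * (r + 1) = 0 := by
          have : r * r + r = 0 := hr
          linear_combination this
        rcases mul_eq_zero.1 hr' with e | e
        · exact Or.inl e
        · exact Or.inr (CharTwo.add_eq_zero.1 e)
      · rintro (rfl | rfl)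
        · exact f.map_zero
        · show (1 : F) * 1 + 1 = 0
          rw [one_mul, CharTwo.add_self_eq_zero]
    rw [← SetLike.coe_sort_coe, this, Nat.card_coe_set_eq, Set.ncard_pair zero_ne_one]
  have hidx : f.range.index = 2 := by
    have h1 := AddSubgroup.card_mul_index f.range
    have h2 := AddSubgroup.card_mul_index f.ker
    rw [AddSubgroup.index_ker, hker] at h2
    have hpos : 0 < Nat.card f.range := Nat.card_pos
    exact Nat.eq_of_mul_eq_mul_left hpos (by rw [h1, mul_comm, h2])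
  have h := (AddSubgroup.add_mem_iff_of_index_two hidx (a := δ) (b := δ₀)).2
    ⟨fun ⟨r, hr⟩ => absurd hr (hδ r), fun ⟨r, hr⟩ => absurd hr (hδ₀ r)⟩
  exact h

theorem covered_g2_even : Covered ↥(Cfsg.Lie.G2 F) := by
  classical
  obtain ⟨δ₀, hδ₀⟩ : ∃ δ₀ : F, ∀ r : F, r * r + r ≠ δ₀ := by
    by_contra hc
    push Not at hc
    have hinj := (Finite.injective_iff_surjective (f := fun r : F => r * r + r)).2 hc
    exact zero_ne_one (hinj (a₁ := 0) (a₂ := 1) (by
      simp [CharTwo.add_self_eq_zero]))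
  refine ⟨modStab (zE F), modStab (zInert δ₀), ?_, ?_, fun g => ?_⟩
  · intro h
    let P : Matrix (Fin 2) (Fin 2) F := !![1, 1; 0, 1]
    have hP : P.det ≠ 0 := by simp [P, Matrix.det_fin_two]
    let Pu : GL (Fin 2) F := Matrix.GeneralLinearGroup.mkOfDetNeZero P hP
    obtain ⟨c, hc⟩ := (h ▸ Subgroup.mem_top _ : pairHom F (diagPair Pu) ∈ modStab (zE F))
    rw [act_diagPair] at hc
    have h1 := congrArg quat hc
    rw [quat_pairLin] at h1
    have h2 : quat (zE F + c • zOne F) * P = P * quat (zE F) := by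
      rw [← h1, show (Pu : Matrix (Fin 2) (Fin 2) F) = P from rfl, Matrix.mul_assoc]
      rw [show ((Pu⁻¹ : GL (Fin 2) F) : Matrix (Fin 2) (Fin 2) F) * P = 1 from Units.inv_mul Pu,
        Matrix.mul_one]
    have h3 := congrFun (congrFun h2 0) 0
    have h4 := congrFun (congrFun h2 0) 1
    simp [P, quat, zE, zOne, mkZ, Matrix.mul_apply, Fin.sum_univ_two] at h3 h4
    rw [h3] at h4
    simp at h4
  · intro h
    let M : SpecialLinearGroup (Fin 3) F :=
      ⟨Matrix.transvection 1 0 1, det_transvection_of_ne (1 : Fin 3) 0 (by decide) 1⟩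
    obtain ⟨c, hc⟩ := (h ▸ Subgroup.mem_top _ : sl3Hom F M ∈ modStab (zInert δ₀))
    rw [act_sl3Hom, zInert, sl3Lin_mkZ] at hc
    have h2 := congrFun hc 2
    simp [mkZ, zOne, M, Matrix.transvection, Matrix.mulVec, dotProduct, Fin.sum_univ_three,
      Matrix.single] at h2
  · obtain ⟨x, hT, c, hc⟩ := exists_fixed_mod g
    have hshift : ∀ r : F, zT (x + r • zOne F) = 1 ∧ zN (x + r • zOne F) = zN x + (r * r + r) ∧
        g ∈ modStab (x + r • zOne F) := by
      intro r
      refine ⟨?_, ?_, c, by rw [act_add_one, hc, add_right_comm]⟩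
      · simp [zT, zOne, mkZ] at hT ⊢
        linear_combination hT + r * (CharTwo.two_eq_zero : (2 : F) = 0)
      · rw [zN_add]
        unfold zT at hT
        simp [zN, zB2, zOne, mkZ, zA, zB, dot3]
        linear_combination r * hT
    have conj : ∀ y z, g ∈ modStab y → ∀ k : ↥(Cfsg.Lie.G2 F), act k y = z → k * g * k⁻¹ ∈ modStab z := by
      rintro y z ⟨d, hd⟩ k rfl
      refine ⟨d, ?_⟩
      rw [act_mul, act_mul, ← act_mul k⁻¹ k, inv_mul_cancel, act_one, hd, act_add_one]
    by_cases hr : ∃ r : F, r * r + r = zN x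
    · obtain ⟨r, hr⟩ := hr
      obtain ⟨h1, h2, h3⟩ := hshift r
      rw [← hr, CharTwo.add_self_eq_zero] at h2
      set y := x + r • zOne F
      have hy : y ∈ ZornG2.idem F := by
        refine (mem_idem_iff y).2 ⟨eq_sub_of_add_eq' h1, ?_⟩
        unfold zN at h2
        unfold zT at h1
        linear_combination -h2 + (y 0) * h1
      obtain ⟨k, hk⟩ := exists_move hy
      exact ⟨k, Or.inl (conj y _ h3 k hk)⟩
    · push Not at hr
      obtain ⟨r, hr'⟩ := exists_artin_schreier_shift hr hδ₀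
      obtain ⟨h1, h2, h3⟩ := hshift r
      rw [hr', ← add_assoc, CharTwo.add_self_eq_zero, zero_add] at h2
      obtain ⟨k, hk⟩ := exists_move_inert h1 h2 (fun s e => hδ₀ s (by
        rw [← e]; linear_combination (s * s) * (CharTwo.two_eq_zero : (2 : F) = 0)))
      exact ⟨k, Or.inr (conj _ _ h3 k hk)⟩

end Cfsg.Agent.Lib.CoverTwo
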