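import Mathlib

/-!
# Roots of an irreducible polynomial inside a finite commutative algebra, and modules over them
-/

set_option autoImplicit false

namespace Cfsg.Agent.Lib.CoverTwo

open Polynomial

variable {F : Type*} [Field F] [Fintype F]

theorem aeval_pow_card_pow {R : Type*} [CommRing R] [Algebra F R] (h : F[X]) (r : R) (k : ℕ) :
    aeval (r ^ (Fintype.card F ^ k)) h = (aeval r h) ^ (Fintype.card F ^ k) := by
  induction k generalizing r with
  | zero => simp
  | succ k ih =>
    rw [pow_succ, pow_mul, pow_mul, ← ih, ← map_pow, ← FiniteField.expand_card h, expand_aeval]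

/-- a root modulo the nilradical gives a root -/
theorem exists_root_of_nilpotent {R : Type*} [CommRing R] [Algebra F R] {h : F[X]} {r : R}
    (hr : IsNilpotent (aeval r h)) : ∃ J : R, aeval J h = 0 := by
  obtain ⟨n, hn⟩ := hr
  refine ⟨r ^ (Fintype.card F ^ n), ?_⟩
  rw [aeval_pow_card_pow]
  exact pow_eq_zero_of_le (Nat.lt_pow_self Fintype.one_lt_card).le hn

/-- if the degree of `h` divides the degree of every irreducible factor of the minimal
polynomial of a generator, the algebra contains a root of `h` -/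
theorem exists_root_of_adjoin {R : Type*} [CommRing R] [Algebra F R] [Finite R] {a : R}
    (ha : Algebra.adjoin F {a} = ⊤) {h : F[X]} (hh : Irreducible h)
    (hdiv : ∀ q : F[X], Irreducible q → q ∣ minpoly F a → h.natDegree ∣ q.natDegree) :
    ∃ J : R, aeval J h = 0 := by
  classical
  haveI : IsArtinianRing R := inferInstance
  have key : ∀ I : MaximalSpectrum R, ∃ r : R ⧸ I.asIdeal, aeval r h = 0 := by
    intro I
    letI := Ideal.Quotient.field I.asIdeal
    haveI : Finite (R ⧸ I.asIdeal) := Finite.of_surjective _ Ideal.Quotient.mk_surjective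
    haveI : Fact (Irreducible h) := ⟨hh⟩
    set π : R →ₐ[F] R ⧸ I.asIdeal := Ideal.Quotient.mkₐ F I.asIdeal
    have hint : IsIntegral F (π a) := IsIntegral.of_finite F _
    have hq : Irreducible (minpoly F (π a)) := minpoly.irreducible hint
    have hdvd : minpoly F (π a) ∣ minpoly F a := by
      apply minpoly.dvd
      rw [aeval_algHom_apply, minpoly.aeval, map_zero]
    have htop : Algebra.adjoin F {π a} = ⊤ := by
      rw [show ({π a} : Set (R ⧸ I.asIdeal)) = π '' {a} by simp, ← AlgHom.map_adjoin, ha,
        Algebra.map_top, AlgHom.range_eq_top]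
      exact Ideal.Quotient.mkₐ_surjective F I.asIdeal
    have hfr : Module.finrank F (R ⧸ I.asIdeal) = (minpoly F (π a)).natDegree := by
      rw [← ((Algebra.adjoin.powerBasis hint).map
        ((Subalgebra.equivOfEq _ _ htop).trans Subalgebra.topEquiv)).finrank.symm]
      rfl
    obtain ⟨ψ⟩ : Nonempty (AdjoinRoot h →ₐ[F] R ⧸ I.asIdeal) := by
      refine FiniteField.nonempty_algHom_of_finrank_dvd ?_
      rw [hfr, (AdjoinRoot.powerBasis hh.ne_zero).finrank, AdjoinRoot.powerBasis_dim]
      exact hdiv _ hq hdvd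
    exact ⟨ψ (AdjoinRoot.root h), by rw [aeval_algHom_apply, AdjoinRoot.aeval_eq, AdjoinRoot.mk_self,
      map_zero]⟩
  choose r hr using key
  obtain ⟨s, hs⟩ := (IsArtinianRing.quotNilradicalEquivPi R).surjective r
  obtain ⟨t, rfl⟩ := Ideal.Quotient.mk_surjective s
  refine exists_root_of_nilpotent (r := t) ?_
  rw [← mem_nilradical, IsArtinianRing.nilradical_eq_iInf, Ideal.mem_iInf]
  intro I
  rw [← Ideal.Quotient.eq_zero_iff_mem, ← Ideal.Quotient.mkₐ_eq_mk F, ← aeval_algHom_apply]
  have e : (Ideal.Quotient.mkₐ F I.asIdeal) t = r I := by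
    rw [← hs]
    rfl
  rw [e]
  exact hr I

/-- a matrix with no irreducible minimal factor of degree prime to `deg h` commutes with a root of `h` -/
theorem exists_root_commute {n : Type*} [Fintype n] [DecidableEq n] (M : Matrix n n F) {h : F[X]}
    (hh : Irreducible h)
    (hdiv : ∀ q : F[X], Irreducible q → q ∣ minpoly F M → h.natDegree ∣ q.natDegree) :
    ∃ J : Matrix n n F, aeval J h = 0 ∧ Commute J M := by
  classical
  let S := Algebra.adjoin F {M}
  letI : CommRing S := { (inferInstance : Ring S) with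
    mul_comm := (Algebra.adjoinCommRingOfComm F (s := {M}) (by simp)).mul_comm }
  haveI : Finite S := inferInstance
  let a : S := ⟨M, Algebra.self_mem_adjoin_singleton F M⟩
  have hmin : minpoly F a = minpoly F M :=
    (minpoly.algHom_eq S.val Subtype.val_injective a).symm
  have htop : Algebra.adjoin F {a} = ⊤ := by
    refine Subalgebra.map_injective (f := S.val) Subtype.val_injective ?_
    rw [AlgHom.map_adjoin, Algebra.map_top, Subalgebra.range_val, Set.image_singleton]
    rfl
  obtain ⟨J, hJ⟩ := exists_root_of_adjoin htop hh (fun q hq hd => hdiv q hq (hmin ▸ hd))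
  refine ⟨J.1, ?_, congrArg Subtype.val (mul_comm J a)⟩
  have := aeval_algHom_apply S.val J h
  rw [hJ, map_zero] at this
  exact this

theorem exists_irreducible_degree {d : ℕ} (hd : d ≠ 0) :
    ∃ h : F[X], Irreducible h ∧ h.natDegree = d := by
  obtain ⟨p, hp⟩ := CharP.exists F
  haveI : Fact p.Prime := ⟨CharP.char_is_prime F p⟩
  haveI : NeZero d := ⟨hd⟩
  let K := FiniteField.Extension F p d
  obtain ⟨α, hα⟩ := Field.exists_primitive_element F K
  refine ⟨minpoly F α, minpoly.irreducible (IsIntegral.of_finite F α), ?_⟩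
  rw [← IntermediateField.adjoin.finrank (IsIntegral.of_finite F α), hα,
    IntermediateField.finrank_top', FiniteField.finrank_extension]

theorem exists_algHom_of_root {E : Type*} [Ring E] [Algebra F E] (h : F[X]) [Fact (Irreducible h)]
    {J : E} (hJ : aeval J h = 0) : ∃ φ : AdjoinRoot h →ₐ[F] E, φ (AdjoinRoot.root h) = J := by
  refine ⟨Ideal.Quotient.liftₐ (Ideal.span {h}) (aeval J) fun a ha => ?_, ?_⟩
  · obtain ⟨c, rfl⟩ := Ideal.mem_span_singleton'.1 ha
    rw [map_mul, hJ, mul_zero]
  · exact aeval_X J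

/-- two vector spaces of one dimension over a common extension field -/
theorem exists_equiv_of_hom {K : Type*} [Field K] [Algebra F K] [Module.Finite F K]
    {V W : Type*} [AddCommGroup V] [Module F V] [FiniteDimensional F V] [AddCommGroup W] [Module F W]
    [FiniteDimensional F W] (φ : K →ₐ[F] Module.End F V) (ψ : K →ₐ[F] Module.End F W)
    (hdim : Module.finrank F V = Module.finrank F W) :
    ∃ e : V ≃ₗ[F] W, ∀ (k : K) (v : V), e (φ k v) = ψ k (e v) := by
  letI : Module K V := Module.compHom V φ.toRingHom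
  letI : Module K W := Module.compHom W ψ.toRingHom
  haveI : IsScalarTower F K V := ⟨fun a k v => by
    show φ (a • k) v = a • φ k v
    rw [map_smul, LinearMap.smul_apply]⟩
  haveI : IsScalarTower F K W := ⟨fun a k v => by
    show ψ (a • k) v = a • ψ k v
    rw [map_smul, LinearMap.smul_apply]⟩
  haveI : Module.Finite K V := Module.Finite.of_restrictScalars_finite F K V
  haveI : Module.Finite K W := Module.Finite.of_restrictScalars_finite F K W
  have h3 : Module.finrank K V = Module.finrank K W :=
    Nat.eq_of_mul_eq_mul_left (Module.finrank_pos (R := F) (M := K))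
      ((Module.finrank_mul_finrank F K V).trans
        (hdim.trans (Module.finrank_mul_finrank F K W).symm))
  let e := LinearEquiv.ofFinrankEq V W h3
  exact ⟨e.restrictScalars F, fun k v => e.map_smul k v⟩

/-- intertwiners of two structures over the same field extension, of any determinant -/
theorem exists_intertwiner {V : Type*} [AddCommGroup V] [Module F V] [FiniteDimensional F V]
    [Nontrivial V] {h : F[X]} (hh : Irreducible h) {A B : Module.End F V} (hA : aeval A h = 0)
    (hB : aeval B h = 0) :
    ∀ c : F, c ≠ 0 → ∃ e : V ≃ₗ[F] V,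
      (∀ v, e (A v) = B (e v)) ∧ LinearMap.det (e : V →ₗ[F] V) = c := by
  classical
  haveI : Fact (Irreducible h) := ⟨hh⟩
  let K := AdjoinRoot h
  haveI : Module.Finite F K := (AdjoinRoot.powerBasis hh.ne_zero).finite
  haveI : Finite K := Module.finite_of_finite F
  obtain ⟨φA, hφA⟩ := exists_algHom_of_root h hA
  obtain ⟨φB, hφB⟩ := exists_algHom_of_root h hB
  obtain ⟨e₀, he₀⟩ : ∃ e₀ : V ≃ₗ[F] V, ∀ v, e₀ (A v) = B (e₀ v) := by
    obtain ⟨e, he⟩ := exists_equiv_of_hom (V := V) (W := V) φA φB rfl
    exact ⟨e, fun v => by rw [← hφA, ← hφB]; exact he _ v⟩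
  intro c hc
  obtain ⟨f, hf, hdet⟩ : ∃ f : V →ₗ[F] V, (∀ v, f (A v) = A (f v)) ∧
      LinearMap.det f = c * (LinearMap.det (e₀ : V →ₗ[F] V))⁻¹ := by
    letI : Module K V := Module.compHom V φA.toRingHom
    haveI : IsScalarTower F K V := ⟨fun a k v => by
      show φA (a • k) v = a • φA k v
      rw [map_smul, LinearMap.smul_apply]⟩
    haveI : Module.Finite K V := Module.Finite.of_restrictScalars_finite F K V
    let b := Module.finBasis K V
    haveI : NeZero (Module.finrank K V) := ⟨Module.finrank_pos.ne'⟩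
    obtain ⟨x, hx⟩ := FiniteField.norm_surjective F K (c * (LinearMap.det (e₀ : V →ₗ[F] V))⁻¹)
    let g : V →ₗ[K] V := Matrix.toLin b b (Matrix.diagonal (Function.update 1 0 x))
    refine ⟨g.restrictScalars F, fun v => ?_, ?_⟩
    · rw [← hφA]
      exact g.map_smul (AdjoinRoot.root h) v
    · rw [LinearMap.det_restrictScalars, LinearMap.det_toLin, Matrix.det_diagonal,
        Finset.prod_update_of_mem (Finset.mem_univ _)]
      simp [hx]
  have hne : LinearMap.det (e₀ : V →ₗ[F] V) ≠ 0 := e₀.isUnit_det'.ne_zero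
  let f' : V ≃ₗ[F] V := LinearMap.equivOfDetNeZero f (by rw [hdet]; exact mul_ne_zero hc (inv_ne_zero hne))
  refine ⟨f'.trans e₀, fun v => ?_, ?_⟩
  · show e₀ (f (A v)) = B (e₀ (f v))
    rw [hf, he₀]
  · show LinearMap.det ((e₀ : V →ₗ[F] V) ∘ₗ f) = c
    rw [LinearMap.det_comp, hdet]
    field_simp

end Cfsg.Agent.Lib.CoverTwo
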