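import Mathlib
import Cfsg.Agent.Lib.CoverTwo.Basic
import Cfsg.Agent.Lib.CoverTwo.PolyRoot

/-!
# `PSL_n`, `n = 2, 3, 4`: line stabilisers and centralisers of field extensions
-/

set_option autoImplicit false

namespace Cfsg.Agent.Lib.CoverTwo

open Matrix Polynomial

variable {F : Type*} [Field F] [Fintype F] {n : ℕ}

/-- the matrix of an element of `SL`, as a monoid homomorphism -/
def toM : SpecialLinearGroup (Fin n) F →* Matrix (Fin n) (Fin n) F where
  toFun x := x.1
  map_one' := rfl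
  map_mul' _ _ := rfl

theorem toM_mk (A : Matrix (Fin n) (Fin n) F) (hA : A.det = 1) : toM ⟨A, hA⟩ = A := rfl

/-- stabiliser of the line of a vector -/
def lineStab (v : Fin n → F) (hv : v ≠ 0) : Subgroup (SpecialLinearGroup (Fin n) F) where
  carrier := {x | ∃ c : F, (toM x) *ᵥ v = c • v}
  one_mem' := ⟨1, by simp⟩
  mul_mem' {x y} := by
    rintro ⟨a, ha⟩ ⟨b, hb⟩
    refine ⟨b * a, ?_⟩
    rw [map_mul, ← mulVec_mulVec, hb, mulVec_smul, ha, smul_smul]
  inv_mem' {x} := by
    rintro ⟨a, ha⟩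
    have h : (toM x⁻¹) *ᵥ
        ((toM x) *ᵥ v) = v := by
      rw [mulVec_mulVec, ← map_mul, inv_mul_cancel, map_one,
        one_mulVec]
    rw [ha, mulVec_smul] at h
    have ha0 : a ≠ 0 := by
      rintro rfl
      rw [zero_smul] at h
      exact hv h.symm
    exact ⟨a⁻¹, by
      conv_rhs => rw [← h, smul_smul, inv_mul_cancel₀ ha0, one_smul]⟩

/-- centraliser of a matrix inside `SL` -/
def commStab (J : Matrix (Fin n) (Fin n) F) : Subgroup (SpecialLinearGroup (Fin n) F) where
  carrier := {x | Commute (toM x) J}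
  one_mem' := Commute.one_left J
  mul_mem' {x y} hx hy := by
    show Commute _ J
    rw [map_mul]
    exact hx.mul_left hy
  inv_mem' {x} hx := by
    have h1 : (toM x⁻¹) *
        (toM x) = 1 := by
      rw [← map_mul, inv_mul_cancel, map_one]
    have h2 : (toM x) *
        (toM x⁻¹) = 1 := by
      rw [← map_mul, mul_inv_cancel, map_one]
    have hxJ : (toM x) * J = J * (toM x) := hx
    show _ * J = J * _
    calc _ = (toM x⁻¹) * (J *
          ((toM x) *
            (toM x⁻¹))) := by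
          rw [h2, mul_one]
      _ = _ := by
          rw [← Matrix.mul_assoc J, ← hxJ, Matrix.mul_assoc (toM x),
            ← Matrix.mul_assoc _ (toM x), h1, Matrix.one_mul]

theorem center_le_lineStab (v : Fin n → F) (hv : v ≠ 0) :
    Subgroup.center (SpecialLinearGroup (Fin n) F) ≤ lineStab v hv := by
  intro x hx
  obtain ⟨r, -, hr⟩ := Matrix.SpecialLinearGroup.mem_center_iff.1 hx
  exact ⟨r, by
    show x.1 *ᵥ v = r • v
    rw [← hr, scalar_apply]; ext i; simp [mulVec_diagonal]⟩

theorem center_le_commStab (J : Matrix (Fin n) (Fin n) F) :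
    Subgroup.center (SpecialLinearGroup (Fin n) F) ≤ commStab J := by
  intro x hx
  obtain ⟨r, -, hr⟩ := Matrix.SpecialLinearGroup.mem_center_iff.1 hx
  show Commute x.1 J
  rw [← hr]
  exact scalar_commute r (Commute.all r) J

theorem lineStab_ne_top (i j : Fin n) (hij : i ≠ j) :
    lineStab (Pi.single i (1 : F)) (by simp) ≠ ⊤ := by
  intro h
  obtain ⟨c, hc⟩ := (h ▸ Subgroup.mem_top _ :
    (⟨Matrix.transvection j i 1, by rw [det_transvection_of_ne _ _ (Ne.symm hij)]⟩ :
      SpecialLinearGroup (Fin n) F) ∈ lineStab (Pi.single i (1 : F)) (by simp))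
  rw [toM_mk] at hc
  have := congrFun hc j
  simp [Matrix.transvection, Matrix.add_mulVec, Ne.symm hij, Matrix.single] at this

theorem commStab_ne_top {h : F[X]} (hh : Irreducible h) (hd : h.natDegree ≠ 1) [NeZero n]
    {J : Matrix (Fin n) (Fin n) F} (hJ : aeval J h = 0) : commStab J ≠ ⊤ := by
  intro htop
  obtain ⟨r, hr⟩ := Matrix.mem_range_scalar_of_commute_transvectionStruct (M := J) fun t => by
    let y : SpecialLinearGroup (Fin n) F := ⟨t.toMatrix, by simp⟩
    have : y ∈ commStab J := htop ▸ Subgroup.mem_top y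
    exact this
  have h0 : aeval r h = 0 := by
    rw [← hr, show scalar (Fin n) r = Matrix.scalarAlgHom (Fin n) F r from rfl,
      aeval_algHom_apply] at hJ
    have := congrFun (congrFun hJ 0) 0
    simpa using this
  exact hd ((natDegree_eq_of_degree_eq_some
    (degree_eq_one_of_irreducible_of_root hh (x := r) (by simpa using h0))))

theorem exists_map_single (v : Fin n → F) (hv : v ≠ 0) (i₀ j₀ : Fin n) (hne : i₀ ≠ j₀) :
    ∃ (x : SpecialLinearGroup (Fin n) F) (c : F),
      (toM x) *ᵥ (Pi.single i₀ (1 : F)) = c • v := by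
  obtain ⟨i, hi⟩ := Function.ne_iff.1 hv
  simp only [Pi.zero_apply] at hi
  let P : Matrix (Fin n) (Fin n) F := (1 : Matrix (Fin n) (Fin n) F).updateCol i v
  let Q : Matrix (Fin n) (Fin n) F := P.submatrix id (Equiv.swap i i₀)
  have hP : P.det ≠ 0 := by
    have : P.det = v i := by
      rw [← Matrix.cramer_apply, Matrix.cramer_one]
      rfl
    rw [this]; exact hi
  have hQ : Q.det ≠ 0 := by
    rw [show Q = P.submatrix id (Equiv.swap i i₀) from rfl, Matrix.det_permute']
    refine mul_ne_zero ?_ hP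
    rcases Int.units_eq_one_or (Equiv.Perm.sign (Equiv.swap i i₀)) with e | e <;> simp [e]
  let R : Matrix (Fin n) (Fin n) F := Q.updateCol i₀ (Q.det⁻¹ • fun k => Q k i₀)
  have hR : R.det = 1 := by
    rw [show R = Q.updateCol i₀ (Q.det⁻¹ • fun k => Q k i₀) from rfl, det_updateCol_smul,
      show Q.updateCol i₀ (fun k => Q k i₀) = Q from updateCol_eq_self Q i₀, inv_mul_cancel₀ hQ]
  refine ⟨⟨R, hR⟩, Q.det⁻¹, ?_⟩
  funext k
  rw [toM_mk]
  simp [R, Q, P, mulVec_single, updateCol_apply]

theorem degree_factor {M : Matrix (Fin n) (Fin n) F}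
    (hne : ∀ (v : Fin n → F) (c : F), v ≠ 0 → M *ᵥ v ≠ c • v) {q : F[X]} (hq : Irreducible q)
    (hd : q ∣ minpoly F M) : q.natDegree ≠ 1 ∧ q.natDegree + 1 ≠ n ∧ q.natDegree ≤ n := by
  have hdvd : q ∣ M.charpoly := hd.trans (Matrix.minpoly_dvd_charpoly M)
  have hroot : ∀ c : F, ¬ M.charpoly.IsRoot c := by
    intro c hc
    have hdet : (scalar (Fin n) c - M).det = 0 := by
      have := hc
      rwa [Polynomial.IsRoot.def, Matrix.eval_charpoly] at this
    obtain ⟨v, hv, hv'⟩ := Matrix.exists_mulVec_eq_zero_iff.2 hdet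
    refine hne v c hv ?_
    rw [sub_mulVec, sub_eq_zero] at hv'
    rw [← hv', scalar_apply]
    funext k
    simp [mulVec_diagonal]
  have hdeg : M.charpoly.natDegree = n := by rw [Matrix.charpoly_natDegree_eq_dim, Fintype.card_fin]
  have hlin : ∀ r : F[X], r ∣ M.charpoly → r.natDegree ≠ 1 := by
    intro r hr h1
    obtain ⟨c, hc⟩ := Polynomial.exists_root_of_degree_eq_one (degree_eq_iff_natDegree_eq_of_pos one_pos |>.2 h1)
    exact hroot c (hc.dvd hr)
  refine ⟨hlin q hdvd, ?_, ?_⟩
  · intro h1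
    obtain ⟨r, hr⟩ := hdvd
    refine hlin r ⟨q, by rw [hr, mul_comm]⟩ ?_
    have hr0 : r ≠ 0 := by
      rintro rfl
      rw [mul_zero] at hr
      exact M.charpoly_monic.ne_zero hr
    rw [hr, natDegree_mul hq.ne_zero hr0] at hdeg
    omega
  · exact (natDegree_le_of_dvd hdvd M.charpoly_monic.ne_zero).trans hdeg.le

/-- the covering of `SL_n` for `n` = 2, 3, 4 -/
theorem covered_psl_of_degree (hn : 2 ≤ n) {d : ℕ} (hd : 2 ≤ d) (hdn : d ∣ n)
    (hfac : ∀ e, e ≠ 1 → e + 1 ≠ n → e ≤ n → 0 < e → d ∣ e) :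
    Covered (ProjectiveSpecialLinearGroup (Fin n) F) := by
  classical
  obtain ⟨h, hh, hdeg⟩ := exists_irreducible_degree (F := F) (d := d) (by omega)
  obtain ⟨J₀, hJ₀⟩ : ∃ J₀ : Matrix (Fin n) (Fin n) F, aeval J₀ h = 0 := by
    haveI : Fact (Irreducible h) := ⟨hh⟩
    let pb := AdjoinRoot.powerBasis hh.ne_zero
    obtain ⟨m, rfl⟩ := hdn
    let J := Algebra.leftMulMatrix pb.basis (AdjoinRoot.root h)
    have hJ : aeval J h = 0 := by
      rw [aeval_algHom_apply, AdjoinRoot.aeval_eq, AdjoinRoot.mk_self, map_zero]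
    let φ : Matrix (Fin pb.dim) (Fin pb.dim) F →ₐ[F] Matrix (Fin (d * m)) (Fin (d * m)) F :=
      (Matrix.reindexAlgEquiv F F (show (Fin pb.dim × Fin m) ≃ Fin (d * m) from
        finProdFinEquiv.trans (finCongr (by
          show h.natDegree * m = d * m
          rw [hdeg])))).toAlgHom.comp
        { toFun := fun A => Matrix.blockDiagonal fun _ : Fin m => A
          map_one' := Matrix.blockDiagonal_one
          map_mul' := fun A B => Matrix.blockDiagonal_mul (fun _ => A) (fun _ => B)
          map_zero' := Matrix.blockDiagonal_zero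
          map_add' := fun A B => Matrix.blockDiagonal_add (fun _ => A) (fun _ => B)
          commutes' := fun r => by
            ext i j
            simp [Matrix.algebraMap_matrix_apply, Matrix.blockDiagonal_apply, Prod.ext_iff]
            split_ifs <;> simp_all }
    exact ⟨φ J, by rw [aeval_algHom_apply, hJ, map_zero]⟩
  haveI : NeZero n := ⟨by omega⟩
  let i₀ : Fin n := ⟨0, by omega⟩
  let j₀ : Fin n := ⟨1, by omega⟩
  have hij : i₀ ≠ j₀ := by simp [i₀, j₀, Fin.ext_iff]
  refine covered_quotient (center_le_lineStab (Pi.single i₀ 1) (by simp)) (center_le_commStab J₀)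
    (lineStab_ne_top i₀ j₀ hij) (commStab_ne_top hh (by omega) hJ₀) fun g => ?_
  by_cases hev : ∃ (v : Fin n → F) (c : F), v ≠ 0 ∧ (toM g) *ᵥ v = c • v
  · obtain ⟨v, c, hv, hgv⟩ := hev
    obtain ⟨x, a, hx⟩ := exists_map_single v hv i₀ j₀ hij
    refine ⟨x⁻¹, Or.inl ⟨c, ?_⟩⟩
    rw [inv_inv, map_mul, map_mul, ← mulVec_mulVec, hx,
      mulVec_smul, ← mulVec_mulVec, hgv, mulVec_smul, smul_smul, mul_comm, ← smul_smul, ← mulVec_smul,
      ← hx, mulVec_mulVec, ← map_mul, inv_mul_cancel, map_one,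
      one_mulVec]
  · push Not at hev
    obtain ⟨J, hJ, hJg⟩ := exists_root_commute (toM g) hh (fun q hq hqd => by
      obtain ⟨h1, h2, h3⟩ := degree_factor (fun v c hv => hev v c hv) hq hqd
      rw [hdeg]
      exact hfac _ h1 h2 h3 hq.natDegree_pos)
    let L := Matrix.toLinAlgEquiv' (R := F) (n := Fin n)
    obtain ⟨e, he, hdet⟩ := exists_intertwiner (V := Fin n → F) hh (A := L J) (B := L J₀)
      (by rw [aeval_algHom_apply, hJ, map_zero]) (by rw [aeval_algHom_apply, hJ₀, map_zero]) 1 one_ne_zero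
    let x : SpecialLinearGroup (Fin n) F :=
      ⟨LinearMap.toMatrix' (e : (Fin n → F) →ₗ[F] (Fin n → F)), by rw [LinearMap.det_toMatrix', hdet]⟩
    have hxJ : (toM x) * J = J₀ * (toM x) := by
      apply L.injective
      refine LinearMap.ext fun v => ?_
      rw [toM_mk, map_mul, map_mul, Module.End.mul_apply, Module.End.mul_apply]
      simpa [L, Matrix.toLinAlgEquiv'_apply, LinearMap.toMatrix'_mulVec, ← Matrix.mulVec_mulVec] using he v
    refine ⟨x, Or.inr ?_⟩
    show Commute _ J₀
    have hxi : (toM x⁻¹) * J₀ =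
        J * (toM x⁻¹) := by
      have h2 : (toM x) *
          (toM x⁻¹) = 1 := by
        rw [← map_mul, mul_inv_cancel, map_one]
      have h1 : (toM x⁻¹) *
          (toM x) = 1 := by
        rw [← map_mul, inv_mul_cancel, map_one]
      calc _ = (toM x⁻¹) *
            (J₀ * (toM x)) *
            (toM x⁻¹) := by
            rw [Matrix.mul_assoc, Matrix.mul_assoc J₀, h2, Matrix.mul_one]
        _ = _ := by rw [← hxJ, ← Matrix.mul_assoc, h1, Matrix.one_mul]
    rw [map_mul, map_mul]
    show _ * J₀ = J₀ * _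
    rw [Matrix.mul_assoc, hxi, ← Matrix.mul_assoc, Matrix.mul_assoc (toM x),
      ← hJg.eq, ← Matrix.mul_assoc, hxJ]
    simp only [Matrix.mul_assoc]

theorem covered_psl_two : Covered (ProjectiveSpecialLinearGroup (Fin 2) F) :=
  covered_psl_of_degree le_rfl (d := 2) le_rfl (dvd_refl 2) fun e h1 _ h3 h4 => by
    rw [show e = 2 by omega]

theorem covered_psl_three : Covered (ProjectiveSpecialLinearGroup (Fin 3) F) :=
  covered_psl_of_degree (by norm_num) (d := 3) (by norm_num) (dvd_refl 3) fun e h1 h2 h3 h4 => by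
    rw [show e = 3 by omega]

theorem covered_psl_four : Covered (ProjectiveSpecialLinearGroup (Fin 4) F) :=
  covered_psl_of_degree (by norm_num) (d := 2) le_rfl (by norm_num) fun e h1 h2 h3 h4 => by
    rcases (show e = 2 ∨ e = 4 by omega) with rfl | rfl <;> norm_num

end Cfsg.Agent.Lib.CoverTwo
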