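import Mathlib
import Cfsg.Agent.Lib.Forms.Basic
import Cfsg.Agent.Lib.CoverTwo.PolyRoot

/-!
# Isometries of a six-dimensional alternating space: invariant planes and cubic fields
-/

set_option autoImplicit false

namespace Cfsg.Agent.Lib.CoverTwo

open Polynomial

variable {F V : Type*} [Field F] [AddCommGroup V] [Module F V] [FiniteDimensional F V]
  {B : LinearMap.BilinForm F V}

/-- a symplectic space of dimension six in odd characteristic, with an isometry -/
structure SixSpace (B : LinearMap.BilinForm F V) (T : V ≃ₗ[F] V) : Prop where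
  two_ne : (2 : F) ≠ 0
  good : Forms.IsGoodForm (σ := RingHom.id F) B (-1)
  self : ∀ x, B x x = 0
  dim : Module.finrank F V = 6
  pres : ∀ x y, B (T x) (T y) = B x y

/-- the self-adjoint companion `T + T⁻¹` -/
def spZ (T : V ≃ₗ[F] V) : Module.End F V := T.toLinearMap + T.symm.toLinearMap

/-- an invariant hyperbolic plane -/
def HasHypPlane (B : LinearMap.BilinForm F V) (T : V ≃ₗ[F] V) : Prop :=
  ∃ x y, B x y = 1 ∧ T x ∈ Submodule.span F ({x, y} : Set V) ∧ T y ∈ Submodule.span F ({x, y} : Set V)

/-- a normalised self-adjoint field -/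
def HasField (E : Type*) [Field E] [Algebra F E] (B : LinearMap.BilinForm F V) (T : V ≃ₗ[F] V) : Prop :=
  ∃ φ : E →ₐ[F] Module.End F V, (∀ r x y, B (φ r x) y = B x (φ r y)) ∧
    ∃ ψ : E ≃+* E, ∀ r x, T (φ r x) = φ (ψ r) (T x)

/-- an isometry with a cyclic normal vector for the eigenvalue `a` of `T + T⁻¹` -/
def CycNormal (B : LinearMap.BilinForm F V) (T : V ≃ₗ[F] V) (a : F) : Prop :=
  ∃ n : Module.End F V, (∀ x, n x = T x + T.symm x - a • x) ∧ (∀ x, n (n (n x)) = 0) ∧
    ∃ v, B v (T v) = 0 ∧ B v (n (T v)) = 0 ∧ B v (n (n (T v))) ≠ 0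

/-- an isometry with a normal pair of nilpotency three -/
def PairNormal (B : LinearMap.BilinForm F V) (T : V ≃ₗ[F] V) (e : F) : Prop :=
  ∃ N : Module.End F V, (∀ x, N x = T x - e • x) ∧ (∀ x, N (N (N x)) = 0) ∧
    ∃ v w, B v (N (N w)) = 1 ∧ B v (N v) = 0 ∧ B w (N w) = 0 ∧ B v w = 0 ∧ B v (N w) = 0

namespace SixSpace

variable {T : V ≃ₗ[F] V} (H : SixSpace B T)
include H

theorem skew (x y : V) : B y x = -B x y := by
  have := H.good.herm x y
  simpa using this

theorem pres_symm (x y : V) : B (T.symm x) (T.symm y) = B x y := by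
  conv_rhs => rw [← T.apply_symm_apply x, ← T.apply_symm_apply y, H.pres]

theorem adj (x y : V) : B (T x) y = B x (T.symm y) := by
  conv_lhs => rw [← T.apply_symm_apply y, H.pres]

theorem adj' (x y : V) : B (T.symm x) y = B x (T y) := by
  conv_lhs => rw [← T.symm_apply_apply y, H.pres_symm]

theorem spZ_adj (x y : V) : B (spZ T x) y = B x (spZ T y) := by
  simp only [spZ, LinearMap.add_apply, LinearEquiv.coe_coe, map_add]
  rw [H.adj, H.adj', add_comm]

theorem aeval_adj (p : F[X]) (x y : V) : B (aeval (spZ T) p x) y = B x (aeval (spZ T) p y) := by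
  induction p using Polynomial.induction_on' generalizing x y with
  | add a b ha hb => simp only [map_add, LinearMap.add_apply, ha, hb]
  | monomial k c =>
    simp only [aeval_monomial, Module.End.mul_apply, Module.algebraMap_end_apply, map_smul,
      LinearMap.smul_apply]
    congr 1
    induction k generalizing x y with
    | zero => simp
    | succ k ih =>
      conv_lhs => rw [pow_succ, Module.End.mul_apply, ih, H.spZ_adj]
      rw [pow_succ', Module.End.mul_apply]

theorem self_adj_zero {m : Module.End F V} (hm : ∀ x y, B (m x) y = B x (m y)) (x : V) : B x (m x) = 0 := by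
  have h1 : B x (m x) = -B x (m x) := by
    conv_lhs => rw [← hm, H.skew]
  have h2 : (2 : F) * B x (m x) = 0 := by linear_combination h1
  exact (mul_eq_zero.1 h2).resolve_left H.two_ne

theorem cyclic_isotropic (p r : F[X]) (v : V) : B (aeval (spZ T) p v) (aeval (spZ T) r v) = 0 := by
  rw [H.aeval_adj, ← Module.End.mul_apply, ← map_mul]
  exact H.self_adj_zero (H.aeval_adj _) v

theorem spZ_comm (x : V) : spZ T (T x) = T (spZ T x) := by
  simp [spZ]

theorem aeval_comm (p : F[X]) (x : V) : aeval (spZ T) p (T x) = T (aeval (spZ T) p x) := by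
  induction p using Polynomial.induction_on' generalizing x with
  | add a b ha hb => simp only [map_add, LinearMap.add_apply, ha, hb]
  | monomial k c =>
    simp only [aeval_monomial, Module.End.mul_apply, Module.algebraMap_end_apply, map_smul]
    congr 1
    induction k generalizing x with
    | zero => simp
    | succ k ih => rw [pow_succ, Module.End.mul_apply, H.spZ_comm, ih, Module.End.mul_apply]

/-- there is no totally isotropic family of more than three independent vectors -/
theorem finrank_le_three {ι : Type*} [Fintype ι] {f : (ι → F) →ₗ[F] V} (hinj : Function.Injective f)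
    (hiso : ∀ c d, B (f c) (f d) = 0) : Fintype.card ι ≤ 3 := by
  have h1 : LinearMap.range f ≤ Forms.perp B (LinearMap.range f) := by
    rintro _ ⟨c, rfl⟩ _ ⟨d, rfl⟩
    exact hiso d c
  have h2 := Submodule.finrank_mono h1
  have h3 := H.good.finrank_add_finrank_perp (LinearMap.range f)
  rw [H.dim] at h3
  rw [LinearMap.finrank_range_of_inj hinj, Module.finrank_fintype_fun_eq_card] at h2 h3
  omega

theorem exists_pair {x : V} (hx : x ≠ 0) : ∃ y, B x y = 1 := by
  obtain ⟨a, ha⟩ : ∃ a, B x a ≠ 0 := by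
    by_contra hc
    push Not at hc
    exact hx (H.good.nondeg x hc)
  exact ⟨(B x a)⁻¹ • a, by rw [map_smul, smul_eq_mul, inv_mul_cancel₀ ha]⟩

/-- an invariant non-degenerate proper subspace yields an invariant plane -/
theorem plane_of_invariant {W : Submodule F V} (hinv : ∀ x ∈ W, T x ∈ W)
    (hnd : W ⊓ Forms.perp B W = ⊥) (hbot : W ≠ ⊥) (htop : W ≠ ⊤) : HasHypPlane B T := by
  classical
  suffices key : ∀ W : Submodule F V, (∀ x ∈ W, T x ∈ W) → W ⊓ Forms.perp B W = ⊥ → W ≠ ⊥ →
      Module.finrank F W ≤ 3 → HasHypPlane B T by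
    by_cases h3 : Module.finrank F W ≤ 3
    · exact key W hinv hnd hbot h3
    have hsum := H.good.finrank_add_finrank_perp W
    rw [H.dim] at hsum
    have hTW : W.map T.toLinearMap = W := Submodule.eq_of_le_of_finrank_le
      (by rintro _ ⟨x, hx, rfl⟩; exact hinv x hx) (le_of_eq (T.submoduleMap W).finrank_eq)
    refine key (Forms.perp B W) (fun y hy x hx => ?_) ?_ ?_ (by omega)
    · rw [← hTW] at hx
      obtain ⟨x, hx, rfl⟩ := hx
      show B (T x) (T y) = 0
      rw [H.pres]; exact hy x hx
    · rw [H.good.perp_perp, inf_comm]; exact hnd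
    · intro h
      apply htop
      have := congrArg (Forms.perp B) h
      rw [H.good.perp_perp] at this
      rw [this]
      exact eq_top_iff.2 fun x _ y hy => by rw [(Submodule.mem_bot F).1 hy]; simp
  intro W hinv hnd hbot h3
  have hrad : ∀ u ∈ W, (∀ w ∈ W, B w u = 0) → u = 0 := fun u hu hh => by
    have : u ∈ W ⊓ Forms.perp B W := ⟨hu, hh⟩
    rw [hnd] at this
    exact this
  obtain ⟨x, hxW, hx0⟩ := Submodule.exists_mem_ne_zero_of_ne_bot hbot
  obtain ⟨y', hy', hxy⟩ : ∃ y ∈ W, B y x ≠ 0 := by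
    by_contra hc
    push Not at hc
    exact hx0 (hrad x hxW hc)
  obtain ⟨y, hy⟩ : ∃ y, y = (B x y')⁻¹ • y' := ⟨_, rfl⟩
  have hxy0 : B x y' ≠ 0 := by rw [H.skew y' x]; exact neg_ne_zero.2 hxy
  have hyW : y ∈ W := hy ▸ W.smul_mem _ hy'
  have h1 : B x y = 1 := by rw [hy, map_smul, smul_eq_mul, inv_mul_cancel₀ hxy0]
  have hle : Submodule.span F ({x, y} : Set V) ≤ W :=
    Submodule.span_le.2 (Set.insert_subset hxW (Set.singleton_subset_iff.2 hyW))
  suffices heq : Submodule.span F ({x, y} : Set V) = W from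
    ⟨x, y, h1, heq.symm ▸ hinv x hxW, heq.symm ▸ hinv y hyW⟩
  by_contra hne
  obtain ⟨u₀, hu₀, hu₀'⟩ := SetLike.exists_of_lt (lt_of_le_of_ne hle hne)
  have h1' : B y x = -1 := by rw [H.skew, h1]
  obtain ⟨u, hu⟩ : ∃ u, u = u₀ + (B y u₀) • x - (B x u₀) • y := ⟨_, rfl⟩
  have huW : u ∈ W := hu ▸ W.sub_mem (W.add_mem hu₀ (W.smul_mem _ hxW)) (W.smul_mem _ hyW)
  have hxu : B x u = 0 := by
    rw [hu, map_sub, map_add, map_smul, map_smul, H.self, h1, smul_eq_mul, smul_eq_mul]; ring
  have hyu : B y u = 0 := by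
    rw [hu, map_sub, map_add, map_smul, map_smul, H.self, h1', smul_eq_mul, smul_eq_mul]; ring
  have hu0 : u ≠ 0 := fun h => hu₀' (by
    have e : u₀ = u - (B y u₀) • x + (B x u₀) • y := by rw [hu]; abel
    rw [e, h]
    exact add_mem (sub_mem (zero_mem _) (Submodule.smul_mem _ _ (Submodule.subset_span (Set.mem_insert _ _))))
      (Submodule.smul_mem _ _ (Submodule.subset_span (Set.mem_insert_of_mem _ rfl))))
  have hli : LinearIndependent F ![x, y, u] := by
    rw [Fintype.linearIndependent_iff]
    intro c hc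
    rw [Fin.sum_univ_three] at hc
    simp only [Matrix.cons_val_zero, Matrix.cons_val_one, Matrix.cons_val_two, Matrix.tail_cons,
      Matrix.head_cons] at hc
    have hc1 : c 1 = 0 := by
      have := congrArg (B x) hc
      simpa [H.self, h1, hxu] using this
    have hc0 : c 0 = 0 := by
      have := congrArg (B y) hc
      simpa [H.self, h1', hyu] using this
    rw [hc0, hc1, zero_smul, zero_smul, zero_add, zero_add, smul_eq_zero] at hc
    intro i; fin_cases i
    exacts [hc0, hc1, hc.resolve_right hu0]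
  have hWeq : Submodule.span F (Set.range ![x, y, u]) = W := by
    refine Submodule.eq_of_le_of_finrank_le (Submodule.span_le.2 ?_) ?_
    · rintro _ ⟨i, rfl⟩; fin_cases i
      exacts [hxW, hyW, huW]
    · rw [finrank_span_eq_card hli, Fintype.card_fin]; exact h3
  refine hu0 (hrad u huW fun w hw => ?_)
  rw [← hWeq] at hw
  obtain ⟨c, rfl⟩ := (Submodule.mem_span_range_iff_exists_fun F).1 hw
  rw [Fin.sum_univ_three]
  simp [hxu, hyu, H.self]

/-- the generalised kernel of a factor is non-degenerate -/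
theorem ker_nondeg (p : F[X]) :
    LinearMap.ker (aeval (spZ T) (p ^ 6)) ⊓ Forms.perp B (LinearMap.ker (aeval (spZ T) (p ^ 6))) = ⊥ := by
  set M := aeval (spZ T) (p ^ 6) with hM
  have hle : LinearMap.range M ≤ Forms.perp B (LinearMap.ker M) := by
    rintro _ ⟨x, rfl⟩ y hy
    rw [← H.aeval_adj, LinearMap.mem_ker.1 hy, map_zero, LinearMap.zero_apply]
  have hr := LinearMap.finrank_range_add_finrank_ker M
  have hp := H.good.finrank_add_finrank_perp (LinearMap.ker M)
  have heq : LinearMap.range M = Forms.perp B (LinearMap.ker M) :=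
    Submodule.eq_of_le_of_finrank_le hle (by omega)
  rw [← heq, eq_bot_iff]
  rintro _ ⟨hy, x, rfl⟩
  have e : ∀ k, (aeval (spZ T) p) ^ k = aeval (spZ T) (p ^ k) := fun k => (map_pow _ p k).symm
  have h12 : x ∈ LinearMap.ker ((aeval (spZ T) p) ^ 12) := by
    rw [LinearMap.mem_ker, e, show 12 = 6 + 6 from rfl, pow_add, map_mul, Module.End.mul_apply]
    exact LinearMap.mem_ker.1 hy
  rw [Module.End.ker_pow_eq_ker_pow_finrank_of_le (by rw [H.dim]; norm_num), H.dim, e] at h12
  exact h12

theorem aeval_eq_zero_of_coprime {p r : F[X]} (hco : IsCoprime p r) {v : V}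
    (hp : aeval (spZ T) p v = 0) (hr : aeval (spZ T) r v = 0) : v = 0 := by
  obtain ⟨a, b, hab⟩ := hco
  have := LinearMap.congr_fun (congrArg (aeval (spZ T)) hab) v
  simp [map_add, map_mul, Module.End.mul_apply, hp, hr] at this
  exact this.symm

theorem no_long_chain {v : V} (hinj : ∀ P : F[X], P.degree < 4 → aeval (spZ T) P v = 0 → P = 0) : False := by
  classical
  let f : (Fin 4 → F) →ₗ[F] V := (((LinearMap.applyₗ v).comp (aeval (spZ T)).toLinearMap).comp
      ((Polynomial.degreeLT F 4).subtype.comp (Polynomial.degreeLTEquiv F 4).symm.toLinearMap))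
  have hf : ∀ c, f c = aeval (spZ T) ((Polynomial.degreeLTEquiv F 4).symm c : F[X]) v := fun _ => rfl
  have h : Function.Injective f := by
    rw [← LinearMap.ker_eq_bot, LinearMap.ker_eq_bot']
    intro c hc
    rw [hf] at hc
    have h0 := hinj _ (Polynomial.mem_degreeLT.1 ((Polynomial.degreeLTEquiv F 4).symm c).2) hc
    exact (LinearEquiv.map_eq_zero_iff (Polynomial.degreeLTEquiv F 4).symm).1 (Subtype.ext h0)
  have := H.finrank_le_three h fun c d => by rw [hf, hf]; exact H.cyclic_isotropic _ _ v
  simp at this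

theorem root_case {a : F} (h6 : ∀ v, aeval (spZ T) ((X - C a) ^ 6) v = 0) (v : V) :
    aeval (spZ T) ((X - C a) ^ 3) v = 0 := by
  by_contra hne
  refine H.no_long_chain (v := v) fun P hP hPv => ?_
  by_contra hP0
  obtain ⟨r, hr, hndvd⟩ := Polynomial.exists_eq_pow_rootMultiplicity_mul_and_not_dvd P hP0 a
  set j := P.rootMultiplicity a
  have hj : j ≤ 3 := by
    have h1 := natDegree_le_of_dvd (⟨r, hr⟩ : (X - C a) ^ j ∣ P) hP0
    rw [natDegree_pow, natDegree_X_sub_C, mul_one] at h1
    have h2 : P.natDegree < 4 := (natDegree_lt_iff_degree_lt hP0).2 hP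
    omega
  apply hne
  have hw : aeval (spZ T) ((X - C a) ^ j) v = 0 := by
    refine H.aeval_eq_zero_of_coprime (p := r) (r := (X - C a) ^ 6) ?_ ?_ (h6 _)
    · exact (((irreducible_X_sub_C a).coprime_iff_not_dvd.2 hndvd).symm).pow_right
    · rw [← Module.End.mul_apply, ← map_mul, mul_comm, ← hr]; exact hPv
  rw [← Nat.sub_add_cancel hj, pow_add, map_mul, Module.End.mul_apply, hw, map_zero]

theorem irreducible_case {h : F[X]} (hh : Irreducible h) (hd : 2 ≤ h.natDegree)
    (h6 : ∀ v, aeval (spZ T) (h ^ 6) v = 0) : h.natDegree ≤ 3 ∧ ∀ v, aeval (spZ T) h v = 0 := by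
  have hcop : ∀ P : F[X], P ≠ 0 → P.natDegree < h.natDegree → IsCoprime P (h ^ 6) := fun P hP hlt =>
    ((hh.coprime_iff_not_dvd.2 fun hdvd => absurd (natDegree_le_of_dvd hdvd hP) (by omega)).symm).pow_right
  refine ⟨?_, ?_⟩
  · by_contra hgt
    obtain ⟨v, hv⟩ : ∃ v : V, v ≠ 0 := by
      haveI : Nontrivial V := Module.nontrivial_of_finrank_pos (R := F) (by rw [H.dim]; norm_num)
      exact exists_ne 0
    refine H.no_long_chain (v := v) fun P hP hPv => ?_
    by_contra hP0
    have h2 : P.natDegree < 4 := (natDegree_lt_iff_degree_lt hP0).2 hP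
    exact hv (H.aeval_eq_zero_of_coprime (hcop P hP0 (by omega)) hPv (h6 v))
  · intro v
    by_contra hne
    refine H.no_long_chain (v := v) fun P hP hPv => ?_
    by_contra hP0
    have h2 : P.natDegree < 4 := (natDegree_lt_iff_degree_lt hP0).2 hP
    by_cases hdvd : h ∣ P
    · obtain ⟨r, rfl⟩ := hdvd
      have hr0 : r ≠ 0 := right_ne_zero_of_mul hP0
      rw [natDegree_mul hh.ne_zero hr0] at h2
      refine hne (H.aeval_eq_zero_of_coprime (hcop r hr0 (by omega)) ?_ (h6 _))
      rw [← Module.End.mul_apply, ← map_mul, mul_comm]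
      exact hPv
    · exact hne (by
        rw [H.aeval_eq_zero_of_coprime ((hh.coprime_iff_not_dvd.2 hdvd).symm.pow_right) hPv (h6 v),
          map_zero])

theorem no_quadratic {h : F[X]} (hh : Irreducible h) (hm : h.Monic) (hd : h.natDegree = 2)
    (h0 : ∀ v, aeval (spZ T) h v = 0) : False := by
  classical
  set Z := spZ T with hZ
  have hc0 : h.coeff 0 ≠ 0 := by
    intro e
    have : h.IsRoot 0 := by rw [IsRoot, ← coeff_zero_eq_eval_zero, e]
    have := Polynomial.degree_eq_one_of_irreducible_of_root hh this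
    rw [degree_eq_natDegree hh.ne_zero, hd] at this
    norm_cast at this
  have hsq : ∀ x, Z (Z x) = -(h.coeff 1 • Z x + h.coeff 0 • x) := fun x => by
    have h1 := h0 x
    have hc2 : h.coeff 2 = 1 := by rw [← hd]; exact hm.coeff_natDegree
    rw [h.as_sum_range_C_mul_X_pow, hd] at h1
    simp [Finset.sum_range_succ, Module.End.mul_apply, sq, hc2] at h1
    linear_combination (norm := module) h1
  haveI : Nontrivial V := Module.nontrivial_of_finrank_pos (R := F) (by rw [H.dim]; norm_num)
  obtain ⟨v, hv⟩ := exists_ne (0 : V)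
  have hnot : ∀ c : F, c • v ≠ Z v := by
    intro c hc
    have := hsq v
    rw [← hc, map_smul, ← hc, ← sub_eq_zero, sub_neg_eq_add] at this
    simp only [smul_smul, ← add_smul, smul_eq_zero, hv, or_false] at this
    have hroot : h.IsRoot c := by
      rw [IsRoot, h.as_sum_range_C_mul_X_pow, hd]
      simp [Finset.sum_range_succ, show h.coeff 2 = 1 by rw [← hd]; exact hm.coeff_natDegree]
      linear_combination this
    have := Polynomial.degree_eq_one_of_irreducible_of_root hh hroot
    rw [degree_eq_natDegree hh.ne_zero, hd] at this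
    norm_cast at this
  have hnotmem : v ∉ F ∙ Z v := by
    intro hm'
    obtain ⟨c, hc⟩ := Submodule.mem_span_singleton.1 hm'
    refine hnot c⁻¹ ?_
    have hc0' : c ≠ 0 := fun e => hv (by rw [← hc, e, zero_smul])
    conv_lhs => rw [← hc, smul_smul, inv_mul_cancel₀ hc0', one_smul]
  obtain ⟨u, hu, -, huv⟩ := H.good.exists_sep hnotmem
  have huZ : B u (Z v) = 0 := hu _ (Submodule.mem_span_singleton_self _)
  have hvu : B v u = -1 := by rw [H.skew, huv]
  have hZvu : B (Z v) u = 0 := by rw [H.skew, huZ, neg_zero]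
  have hvv : B v (Z v) = 0 := H.self_adj_zero H.spZ_adj v
  have huu : B u (Z u) = 0 := H.self_adj_zero H.spZ_adj u
  have hvZu : B v (Z u) = 0 := by rw [← H.spZ_adj, hZvu]
  have hZZ : B (Z v) (Z u) = h.coeff 0 := by
    rw [H.spZ_adj, hsq, map_neg, map_add, map_smul, map_smul, hvZu, hvu, smul_eq_mul, smul_eq_mul]
    ring
  let L : (Fin 4 → F) →ₗ[F] V := Fintype.linearCombination F ![v, Z v, u, Z u]
  have hL : ∀ c, L c = c 0 • v + c 1 • Z v + c 2 • u + c 3 • Z u := fun c => by
    simp [L, Fintype.linearCombination_apply, Fin.sum_univ_four]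
  have hrad : ∀ c, (∀ d, B (L d) (L c) = 0) → c = 0 := by
    intro c hc
    have e0 := hc ![1, 0, 0, 0]
    have e1 := hc ![0, 1, 0, 0]
    have e2 := hc ![0, 0, 1, 0]
    have e3 := hc ![0, 0, 0, 1]
    rw [hL, hL] at e0 e1 e2 e3
    simp [H.self, hvv, hvu, hvZu, hZvu, hZZ, huu, H.skew v (Z v), huv, huZ, H.skew v (Z u),
      H.skew (Z v) (Z u), H.skew u (Z u), hc0] at e0 e1 e2 e3
    funext i; fin_cases i
    exacts [e2, e3, e0, e1]
  set W := LinearMap.range L
  have hinj : Function.Injective L := by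
    rw [← LinearMap.ker_eq_bot, LinearMap.ker_eq_bot']
    exact fun c hc => hrad c fun d => by rw [hc, map_zero]
  have hWZ : ∀ x ∈ W, Z x ∈ W := by
    rintro _ ⟨c, rfl⟩
    refine ⟨![-(c 1 * h.coeff 0), c 0 - c 1 * h.coeff 1, -(c 3 * h.coeff 0), c 2 - c 3 * h.coeff 1], ?_⟩
    rw [hL, hL, map_add, map_add, map_add, map_smul, map_smul, map_smul, map_smul, hsq, hsq]
    simp
    module
  have hdim : Module.finrank F (Forms.perp B W) = 2 := by
    have := H.good.finrank_add_finrank_perp W
    rw [H.dim, LinearMap.finrank_range_of_inj hinj, Module.finrank_fin_fun] at this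
    omega
  obtain ⟨w, hwP, hw0⟩ := Submodule.exists_mem_ne_zero_of_ne_bot
    (show Forms.perp B W ≠ ⊥ by intro e; rw [e, finrank_bot] at hdim; omega)
  have hZw : Z w ∈ Forms.perp B W := fun x hx => by rw [← H.spZ_adj]; exact hwP _ (hWZ x hx)
  have hnotw : ∀ c : F, c • w ≠ Z w := by
    intro c hc
    have := hsq w
    rw [← hc, map_smul, ← hc, ← sub_eq_zero, sub_neg_eq_add] at this
    simp only [smul_smul, ← add_smul, smul_eq_zero, hw0, or_false] at this
    have hroot : h.IsRoot c := by
      rw [IsRoot, h.as_sum_range_C_mul_X_pow, hd]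
      simp [Finset.sum_range_succ, show h.coeff 2 = 1 by rw [← hd]; exact hm.coeff_natDegree]
      linear_combination this
    have := Polynomial.degree_eq_one_of_irreducible_of_root hh hroot
    rw [degree_eq_natDegree hh.ne_zero, hd] at this
    norm_cast at this
  have hli : LinearIndependent F ![w, Z w] := (LinearIndependent.pair_iff' hw0).2 hnotw
  have hspan : Submodule.span F (Set.range ![w, Z w]) = Forms.perp B W := by
    refine Submodule.eq_of_le_of_finrank_le (Submodule.span_le.2 ?_) ?_
    · rintro _ ⟨i, rfl⟩; fin_cases i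
      exacts [hwP, hZw]
    · rw [finrank_span_eq_card hli, hdim, Fintype.card_fin]
  have hw : w ∈ Forms.perp B (Forms.perp B W) := by
    intro x hx
    rw [← hspan] at hx
    obtain ⟨c, rfl⟩ := (Submodule.mem_span_range_iff_exists_fun F).1 hx
    simp [Fin.sum_univ_two, H.self, H.skew w (Z w)]
    exact Or.inr (H.self_adj_zero H.spZ_adj w)
  rw [H.good.perp_perp] at hw
  obtain ⟨c, hc⟩ := hw
  apply hw0
  rw [← hc, hrad c (fun d => by rw [hc]; exact hwP _ ⟨d, rfl⟩), map_zero]

/-- polarisation: a self-adjoint endomorphism orthogonal to the graph of `T` -/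
theorem graph_null {m : Module.End F V} (hm : ∀ x y, B (m x) y = B x (m y))
    (hcomm : ∀ x, m (T.symm x) = T.symm (m x)) (h : ∀ v, B v (m (T v)) = 0) (w : V) :
    m (T w) = m (T.symm w) := by
  refine sub_eq_zero.1 (H.good.nondeg_right _ fun v => ?_)
  have h1 := h (v + w)
  simp only [map_add, LinearMap.add_apply, h v, h w] at h1
  have h2 : B w (m (T v)) = -B v (m (T.symm w)) := by
    rw [← hm, ← H.adj', ← hcomm, H.skew]
  rw [map_sub]
  linear_combination h1 - h2

/-- normalisation of a cyclic vector -/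
theorem cycNormal_of_exists (n : Module.End F V) {a : F} (hn : ∀ x, n x = T x + T.symm x - a • x)
    (h3 : ∀ x, n (n (n x)) = 0) (h : ∃ v, B v (n (n (T v))) ≠ 0) : CycNormal B T a := by
  have hcomm : ∀ x, n (T x) = T (n x) := fun x => by
    rw [hn, hn, map_sub, map_add, map_smul, T.apply_symm_apply, T.symm_apply_apply]
  have hadj : ∀ x y, B (n x) y = B x (n y) := fun x y => by
    rw [hn, hn, map_sub, map_add, map_smul, LinearMap.sub_apply, LinearMap.add_apply,
      LinearMap.smul_apply, map_sub, map_add, map_smul, H.adj, H.adj']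
    ring
  obtain ⟨v, hv⟩ := h
  set x0 := B v (T v)
  set x1 := B v (n (T v))
  set x2 := B v (n (n (T v)))
  obtain ⟨c1, hc1⟩ : ∃ c, x1 + 2 * c * x2 = 0 := ⟨-x1 / (2 * x2), by field_simp [H.two_ne, hv]; ring⟩
  obtain ⟨c2, hc2⟩ : ∃ c, x0 + 2 * c1 * x1 + (c1 * c1 + 2 * c) * x2 = 0 :=
    ⟨-(x0 + 2 * c1 * x1 + c1 * c1 * x2) / (2 * x2), by field_simp [H.two_ne, hv]; ring⟩
  refine ⟨n, hn, h3, v + c1 • n v + c2 • n (n v), ?_, ?_, ?_⟩
  · simp only [map_add, map_smul, LinearMap.add_apply, LinearMap.smul_apply, smul_eq_mul, hadj,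
      ← hcomm, h3, map_zero]
    linear_combination hc2
  · simp only [map_add, map_smul, LinearMap.add_apply, LinearMap.smul_apply, smul_eq_mul, hadj,
      ← hcomm, h3, map_zero]
    linear_combination hc1
  · simp only [map_add, map_smul, LinearMap.add_apply, LinearMap.smul_apply, smul_eq_mul, hadj,
      ← hcomm, h3, map_zero, mul_zero, add_zero]
    exact hv

/-- normalisation of a pair of nilpotency three -/
theorem pairNormal_of_null (n : Module.End F V) {e : F} (hn : ∀ x, n x = T x + T.symm x - (2 * e) • x)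
    (hk : ∀ x, n (n x) = 0) (hn1 : ∀ x, n (T x) = e • n x) (hne : ∃ x, n x ≠ 0) :
    e * e = 1 ∧ PairNormal B T e := by
  have hcomm : ∀ x, n (T x) = T (n x) := fun x => by
    rw [hn, hn, map_sub, map_add, map_smul, T.apply_symm_apply, T.symm_apply_apply]
  have hadj : ∀ x y, B (n x) y = B x (n y) := fun x y => by
    rw [hn, hn, map_sub, map_add, map_smul, LinearMap.sub_apply, LinearMap.add_apply,
      LinearMap.smul_apply, map_sub, map_add, map_smul, H.adj, H.adj']
    ring
  have hTT : ∀ x, T (T x) = (2 * e) • T x + T (n x) - x := fun x => by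
    rw [hn, map_sub, map_add, map_smul, T.apply_symm_apply]; abel
  obtain ⟨x₀, hx₀⟩ := hne
  have he1 : e * e = 1 := by
    have h1 : n (T (T x₀)) = (e * e) • n x₀ := by rw [hn1, hn1, smul_smul]
    have h2 : ((e * e) - 1) • n x₀ = 0 := by
      rw [sub_smul, one_smul, sub_eq_zero]
      have h4 : n (T (n x₀)) = 0 := by rw [← hcomm, hk]
      have h5 := congrArg n (hTT x₀)
      simp only [map_sub, map_add, map_smul, h4, h1, hn1, add_zero] at h5
      linear_combination (norm := module) (-1 : F) • h5
    exact sub_eq_zero.1 ((smul_eq_zero.1 h2).resolve_right hx₀)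
  let N : Module.End F V := T.toLinearMap - e • LinearMap.id
  have hN : ∀ x, N x = T x - e • x := fun _ => rfl
  have hN2 : ∀ x, N (N x) = e • n x := fun x => by
    simp only [← hn1, hcomm, hN, map_sub, map_smul, hTT, smul_sub, smul_smul, he1, one_smul]
    module
  have hNn : ∀ x, n (N x) = 0 := fun x => by rw [hN, map_sub, map_smul, hn1, sub_self]
  have hN3 : ∀ x, N (N (N x)) = 0 := fun x => by rw [hN2, hNn, smul_zero]
  refine ⟨he1, N, hN, hN3, ?_⟩
  have hA : ∀ x y, B (N x) y = -B x (N y) + e * B x (N (N y)) := fun x y => by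
    have hS : T.symm y = n y + (2 * e) • y - T y := by rw [hn]; abel
    rw [hN x, map_sub, map_smul, LinearMap.sub_apply, LinearMap.smul_apply, H.adj, hS, hN2 y, hN y]
    simp only [map_sub, map_add, map_smul, smul_eq_mul]
    linear_combination -B x (n y) * he1
  have hA2 : ∀ x y, B (N (N x)) y = B x (N (N y)) := fun x y => by
    rw [hN2, hN2, map_smul, map_smul, LinearMap.smul_apply, hadj]
  have hNN : ∀ x y, B (N x) (N y) = -B x (N (N y)) := fun x y => by rw [hA, hN3, map_zero]; ring
  have hNN2 : ∀ x y, B (N x) (N (N y)) = 0 := fun x y => by rw [hA, hN3, map_zero]; simp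
  obtain ⟨y₁, hy₁⟩ : ∃ y, B y (N (N x₀)) ≠ 0 := by
    by_contra hc
    push Not at hc
    have hnx := H.good.nondeg_right _ hc
    rw [hN2, smul_eq_zero] at hnx
    rcases hnx with hnx | hnx
    · rw [hnx, zero_mul] at he1; exact zero_ne_one he1
    · exact hx₀ hnx
  set w₁ := (B y₁ (N (N x₀)))⁻¹ • x₀
  have hw₁ : B y₁ (N (N w₁)) = 1 := by
    simp only [w₁, map_smul, smul_eq_mul]; exact inv_mul_cancel₀ hy₁
  have hw₁' : B w₁ (N (N y₁)) = -1 := by rw [← hA2, H.skew, hw₁]
  set v := y₁ + (-(B y₁ (N y₁)) / 2) • N w₁ with hv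
  have hv2 : B v (N (N w₁)) = 1 := by
    simp [hv, hNN2, hw₁]
  have hv1 : B v (N v) = 0 := by
    simp [hv, map_add, map_smul, hNN, hNN2, hw₁, hw₁', hN3]
    field_simp [H.two_ne]
    ring
  have hwv : B w₁ (N (N v)) = -1 := by rw [← hA2, H.skew, hv2]
  set w₂ := w₁ + (B w₁ (N w₁) / 2) • N v with hw₂
  have hw22 : B v (N (N w₂)) = 1 := by
    simp [hw₂, hN3, hv2]
  have hw21 : B w₂ (N w₂) = 0 := by
    simp [hw₂, hNN, hNN2, hwv, hv2, hN3]
    field_simp [H.two_ne]
    ring
  set s := -B v (N w₂)
  set r := -(B v w₂ + s * B v (N w₂))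
  refine ⟨v, w₂ + s • N w₂ + r • N (N w₂), ?_, hv1, ?_, ?_, ?_⟩
  · simp [hN3, hw22]
  · have g : B w₂ (N (N w₂)) = 0 := by
      rw [hN2, map_smul, H.self_adj_zero hadj, smul_zero]
    have g' : B (N (N w₂)) (N w₂) = 0 := by rw [H.skew, hNN2, neg_zero]
    simp [hN3, hNN, hNN2, g, g', hw21, H.self]
  · simp [hw22, r]
  · simp [hN3, hw22, s]

/-- the split analysis for a single eigenvalue of `T + T⁻¹` -/
theorem eigen_case (n : Module.End F V) {a : F} (hn : ∀ x, n x = T x + T.symm x - a • x)
    (h3 : ∀ x, n (n (n x)) = 0) :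
    HasHypPlane B T ∨ CycNormal B T a ∨ ∃ e, e * e = 1 ∧ PairNormal B T e := by
  classical
  have hcomm : ∀ x, n (T x) = T (n x) := fun x => by
    rw [hn, hn, map_sub, map_add, map_smul, T.apply_symm_apply, T.symm_apply_apply]
  have hcomm' : ∀ x, n (T.symm x) = T.symm (n x) := fun x => by
    rw [hn, hn, map_sub, map_add, map_smul, T.apply_symm_apply, T.symm_apply_apply]
  have hadj : ∀ x y, B (n x) y = B x (n y) := fun x y => by
    rw [hn, hn, map_sub, map_add, map_smul, LinearMap.sub_apply, LinearMap.add_apply,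
      LinearMap.smul_apply, map_sub, map_add, map_smul, H.adj, H.adj']
    ring
  have hTT : ∀ x, T (T x) = a • T x + T (n x) - x := fun x => by
    rw [hn, map_sub, map_add, map_smul, T.apply_symm_apply]; abel
  by_cases hI : ∃ v, B v (n (n (T v))) ≠ 0
  · exact Or.inr (Or.inl (H.cycNormal_of_exists n hn h3 hI))
  push Not at hI
  have hadj2 : ∀ x y, B ((n * n) x) y = B x ((n * n) y) := fun x y => by
    rw [Module.End.mul_apply, Module.End.mul_apply, hadj, hadj]
  have key2 := H.graph_null hadj2 (fun x => by simp only [Module.End.mul_apply, hcomm']) hI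
  have hhalf : ∃ e : F, 2 * e = a := ⟨a / 2, by field_simp [H.two_ne]⟩
  obtain ⟨e, he⟩ := hhalf
  subst he
  have hn2 : ∀ x, n (n (T x)) = e • n (n x) := fun x => by
    have h1 := key2 x
    have h2 : n (n (T x)) + n (n (T.symm x)) = (2 * e) • n (n x) := by
      rw [← map_add, ← map_add, show T x + T.symm x = n x + (2 * e) • x by rw [hn]; abel, map_add,
        map_add, map_smul, map_smul, h3, zero_add]
    simp only [Module.End.mul_apply] at h1
    rw [← h1, mul_smul, ← two_smul F (n (n (T x)))] at h2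
    exact smul_right_injective V H.two_ne h2
  have hk : ∀ x, n (n x) = 0 := by
    by_contra hc
    push Not at hc
    obtain ⟨x₀, hx₀⟩ := hc
    have he1 : e * e = 1 := by
      have h1 : n (n (T (T x₀))) = (e * e) • n (n x₀) := by rw [hn2, hn2, smul_smul]
      have h2 : ((e * e) - 1) • n (n x₀) = 0 := by
        rw [sub_smul, one_smul, sub_eq_zero]
        have h4 : n (n (T (n x₀))) = 0 := by rw [hn2, h3, smul_zero]
        have h5 := congrArg (fun z => n (n z)) (hTT x₀)
        simp only [map_sub, map_add, map_smul, h4, h1, hn2, add_zero] at h5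
        linear_combination (norm := module) (-1 : F) • h5
      exact sub_eq_zero.1 ((smul_eq_zero.1 h2).resolve_right hx₀)
    let N : Module.End F V := T.toLinearMap - e • LinearMap.id
    have hN : ∀ x, N x = T x - e • x := fun _ => rfl
    have hN2 : ∀ x, N (N x) = T (n x) := fun x => by
      simp only [hN, map_sub, map_smul, hTT, smul_sub, smul_smul, he1, one_smul]
      module
    have hN5 : ∀ x, N (N (N (N (N x)))) = 0 := fun x => by
      have h' : n (n (N x)) = 0 := by rw [hN, map_sub, map_sub, map_smul, map_smul, hn2, sub_self]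
      rw [hN2, hN2, hcomm, h', map_zero, map_zero]
    -- two independent vectors in the image of `n²`
    obtain ⟨x₁, x₂, hind⟩ : ∃ x₁ x₂, ∀ s t : F, s • n (n x₁) + t • n (n x₂) = 0 → s = 0 ∧ t = 0 := by
      by_contra hno
      push Not at hno
      have hline : ∀ x, ∃ c : F, c • n (n x₀) = n (n x) := fun x => by
        obtain ⟨s, t, hst, hne⟩ := hno x₀ x
        by_cases ht : t = 0
        · subst ht
          rw [zero_smul, add_zero] at hst
          exact absurd rfl (hne ((smul_eq_zero.1 hst).resolve_right hx₀))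
        · refine ⟨-s / t, ?_⟩
          have h1 : t • n (n x) = -(s • n (n x₀)) := eq_neg_of_add_eq_zero_right hst
          have h2 := congrArg (fun z => t⁻¹ • z) h1
          simp only [smul_smul, inv_mul_cancel₀ ht, one_smul, smul_neg, ← neg_smul] at h2
          rw [h2]
          congr 1
          ring
      obtain ⟨y, hy⟩ : ∃ y, B y (n (n x₀)) ≠ 0 := by
        by_contra hc'
        push Not at hc'
        exact hx₀ (H.good.nondeg_right _ hc')
      have hz : ∀ x, n (n x) = 0 ∨ B x (n (n x₀)) = 0 := fun x => by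
        obtain ⟨c, hc⟩ := hline x
        have h1 := H.self_adj_zero hadj2 x
        rw [Module.End.mul_apply, ← hc, map_smul, smul_eq_mul] at h1
        rcases mul_eq_zero.1 h1 with h1 | h1
        · left; rw [← hc, h1, zero_smul]
        · exact Or.inr h1
      have hy0 : n (n y) = 0 := (hz y).resolve_right hy
      rcases hz (x₀ + y) with h1 | h1
      · exact hx₀ (by simpa [hy0] using h1)
      · have h4 := H.self_adj_zero hadj2 x₀
        rw [Module.End.mul_apply] at h4
        rw [map_add, LinearMap.add_apply, h4, zero_add] at h1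
        exact hy h1
    let L : (Fin 4 → F × F) →ₗ[F] V :=
      ∑ i : Fin 4, (N ^ (i : ℕ)).comp
        ((LinearMap.coprod (LinearMap.toSpanSingleton F V x₁) (LinearMap.toSpanSingleton F V x₂)).comp
          (LinearMap.proj i))
    have hL : ∀ c, L c = (c 0).1 • x₁ + (c 0).2 • x₂ + N ((c 1).1 • x₁ + (c 1).2 • x₂) +
        N (N ((c 2).1 • x₁ + (c 2).2 • x₂)) + N (N (N ((c 3).1 • x₁ + (c 3).2 • x₂))) := fun c => by
      simp [L, Fin.sum_univ_four, pow_succ, Module.End.mul_apply]
    have htop : ∀ s t : F, N (N (N (N (s • x₁ + t • x₂)))) = 0 → s = 0 ∧ t = 0 := fun s t hst => by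
      refine hind s t ?_
      rw [hN2, hN2, hcomm, map_eq_zero_iff _ T.injective, map_eq_zero_iff _ T.injective] at hst
      simpa using hst
    have hinj : Function.Injective L := by
      rw [← LinearMap.ker_eq_bot, LinearMap.ker_eq_bot']
      intro c hc
      rw [hL] at hc
      have k0 := congrArg (fun z => N (N (N (N z)))) hc
      simp only [map_add, map_zero, hN5, add_zero] at k0
      obtain ⟨a0, b0⟩ := htop (c 0).1 (c 0).2 (by simpa using k0)
      rw [a0, b0, zero_smul, zero_smul, add_zero, zero_add] at hc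
      have k1 := congrArg (fun z => N (N (N z))) hc
      simp only [map_add, map_zero, hN5, add_zero] at k1
      obtain ⟨a1, b1⟩ := htop (c 1).1 (c 1).2 (by simpa using k1)
      rw [a1, b1, zero_smul, zero_smul, add_zero, map_zero, zero_add] at hc
      have k2 := congrArg (fun z => N (N z)) hc
      simp only [map_add, map_zero, hN5, add_zero] at k2
      obtain ⟨a2, b2⟩ := htop (c 2).1 (c 2).2 (by simpa using k2)
      rw [a2, b2, zero_smul, zero_smul, add_zero, map_zero, map_zero, zero_add] at hc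
      obtain ⟨a3, b3⟩ := htop (c 3).1 (c 3).2 (by rw [hc, map_zero])
      funext i; fin_cases i
      exacts [Prod.ext a0 b0, Prod.ext a1 b1, Prod.ext a2 b2, Prod.ext a3 b3]
    have := LinearMap.finrank_le_finrank_of_injective hinj
    rw [H.dim] at this
    simp [Module.finrank_pi_fintype] at this
  by_cases hIII : ∃ v, B v (n (T v)) ≠ 0
  · obtain ⟨v, hv⟩ := hIII
    left
    let L : (Fin 4 → F) →ₗ[F] V := Fintype.linearCombination F ![v, T v, n v, n (T v)]
    have hL : ∀ c, L c = c 0 • v + c 1 • T v + c 2 • n v + c 3 • n (T v) := fun c => by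
      simp [L, Fintype.linearCombination_apply, Fin.sum_univ_four]
    have hrad : ∀ c, (∀ d, B (L d) (L c) = 0) → c = 0 := by
      intro c hc
      have e0 := hc ![1, 0, 0, 0]
      have e1 := hc ![0, 1, 0, 0]
      have e2 := hc ![0, 0, 1, 0]
      have e3 := hc ![0, 0, 0, 1]
      rw [hL, hL] at e0 e1 e2 e3
      have g1 : B v (n v) = 0 := H.self_adj_zero hadj v
      have g2 : B (T v) (n (T v)) = 0 := H.self_adj_zero hadj (T v)
      have g3 : B (n (T v)) v = -B v (n (T v)) := H.skew _ _
      simp [hadj, hk, H.self, g1, g2, H.skew v (T v)] at e0 e1 e2 e3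
      simp [← hadj (T v) v, g3, hadj (T v)] at e0 e1 e2 e3
      rcases e3 with e3 | e3
      swap; · exact absurd e3 hv
      rcases e2 with e2 | e2
      swap; · exact absurd e2 hv
      rw [e2] at e0
      rw [e3] at e1
      simp [hv] at e0 e1
      funext i; fin_cases i
      exacts [e3, e2, e1, e0]
    have hinj : Function.Injective L := by
      rw [← LinearMap.ker_eq_bot, LinearMap.ker_eq_bot']
      exact fun c hc => hrad c fun d => by rw [hc, map_zero]
    have hdim : Module.finrank F (LinearMap.range L) = 4 := by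
      rw [LinearMap.finrank_range_of_inj hinj, Module.finrank_fin_fun]
    refine H.plane_of_invariant (W := LinearMap.range L) ?_ ?_ ?_ ?_
    · rintro _ ⟨c, rfl⟩
      refine ⟨![-c 1, c 0 + 2 * e * c 1, -c 3, c 1 + c 2 + 2 * e * c 3], ?_⟩
      rw [hL, hL]
      have e1 : T (n (T v)) = (2 * e) • n (T v) - n v := by
        rw [← hcomm, hTT, map_sub, map_add, map_smul, hcomm (n v), hk, map_zero, add_zero]
      simp only [map_add, map_smul, hTT, e1, ← hcomm v]
      simp
      module
    · rw [eq_bot_iff]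
      rintro _ ⟨⟨c, rfl⟩, hperp⟩
      rw [Submodule.mem_bot, hrad c (fun d => hperp _ ⟨d, rfl⟩), map_zero]
    · intro h; rw [h, finrank_bot] at hdim; omega
    · intro h; rw [h, finrank_top, H.dim] at hdim; omega
  push Not at hIII
  have key1 := H.graph_null hadj hcomm' hIII
  have hn1 : ∀ x, n (T x) = e • n x := fun x => by
    have h1 := key1 x
    have h2 : n (T x) + n (T.symm x) = (2 * e) • n x := by
      rw [← map_add, show T x + T.symm x = n x + (2 * e) • x by rw [hn]; abel, map_add, map_smul, hk,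
        zero_add]
    rw [← h1, mul_smul, ← two_smul F (n (T x))] at h2
    exact smul_right_injective V H.two_ne h2
  by_cases hn0 : ∀ x, n x = 0
  · left
    by_cases h0 : ∃ v, B v (T v) ≠ 0
    · obtain ⟨v, hv⟩ := h0
      refine ⟨v, (B v (T v))⁻¹ • T v, by rw [map_smul, smul_eq_mul, inv_mul_cancel₀ hv], ?_, ?_⟩
      · have h1 : (B v (T v))⁻¹ • T v ∈ Submodule.span F ({v, (B v (T v))⁻¹ • T v} : Set V) :=
          Submodule.subset_span (Set.mem_insert_of_mem _ rfl)
        have h2 := Submodule.smul_mem _ (B v (T v)) h1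
        rwa [smul_smul, mul_inv_cancel₀ hv, one_smul] at h2
      · rw [map_smul, hTT, hn0, map_zero, add_zero, smul_sub, smul_comm]
        exact sub_mem (Submodule.smul_mem _ _ (Submodule.subset_span (Set.mem_insert_of_mem _ rfl)))
          (Submodule.smul_mem _ _ (Submodule.subset_span (Set.mem_insert _ _)))
    push Not at h0
    have key0 := H.graph_null (m := LinearMap.id) (fun _ _ => rfl) (fun _ => rfl) h0
    have hsc : ∀ x, T x = e • x := fun x => by
      refine smul_right_injective V H.two_ne ?_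
      show (2 : F) • T x = (2 : F) • e • x
      rw [two_smul, smul_smul, ← sub_eq_zero, ← hn0 x, hn]
      congr 2
      exact key0 x
    haveI : Nontrivial V := Module.nontrivial_of_finrank_pos (R := F) (by rw [H.dim]; norm_num)
    obtain ⟨x, hx⟩ := exists_ne (0 : V)
    obtain ⟨y, hy⟩ := H.exists_pair hx
    exact ⟨x, y, hy, hsc x ▸ Submodule.smul_mem _ _ (Submodule.subset_span (Set.mem_insert _ _)),
      hsc y ▸ Submodule.smul_mem _ _ (Submodule.subset_span (Set.mem_insert_of_mem _ rfl))⟩
  push Not at hn0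
  exact Or.inr (Or.inr ⟨e, H.pairNormal_of_null n hn hk hn1 hn0⟩)

/-- the main dichotomy -/
theorem classify [Fintype F] {E : Type*} [Field E] [Algebra F E] (hE : Module.finrank F E = 3) :
    HasHypPlane B T ∨ HasField E B T ∨ (∃ a, CycNormal B T a) ∨ ∃ e, e * e = 1 ∧ PairNormal B T e := by
  classical
  haveI : Nontrivial V := Module.nontrivial_of_finrank_pos (R := F) (by rw [H.dim]; norm_num)
  set Z := spZ T with hZ
  have hint : IsIntegral F Z := IsIntegral.of_finite F Z
  have hμ0 := minpoly.ne_zero hint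
  obtain ⟨h, hm, hh, hdvd⟩ := Polynomial.exists_monic_irreducible_factor (minpoly F Z)
    (minpoly.not_isUnit F Z)
  set W := LinearMap.ker (aeval Z (h ^ 6))
  have hbot : W ≠ ⊥ := by
    intro hb
    have hinj : Function.Injective (aeval Z h) := by
      rw [← LinearMap.ker_eq_bot, LinearMap.ker_eq_bot']
      intro x hx
      have : x ∈ W := by
        rw [LinearMap.mem_ker, pow_succ, map_mul, Module.End.mul_apply, hx, map_zero]
      rwa [hb] at this
    obtain ⟨r, hr⟩ := hdvd
    have hr0 : r ≠ 0 := by rintro rfl; exact hμ0 (by rw [hr, mul_zero])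
    have hrz : aeval Z r = 0 := LinearMap.ext fun x => hinj (by
      rw [← Module.End.mul_apply, ← map_mul, ← hr, minpoly.aeval, LinearMap.zero_apply,
        map_zero])
    have h1 := natDegree_le_of_dvd (minpoly.dvd F Z hrz) hr0
    rw [hr, natDegree_mul hh.ne_zero hr0] at h1
    have := hh.natDegree_pos
    omega
  by_cases htop : W = ⊤
  swap
  · exact Or.inl (H.plane_of_invariant (fun x hx => by
      rw [LinearMap.mem_ker] at hx ⊢
      rw [H.aeval_comm, hx, map_zero]) (H.ker_nondeg h) hbot htop)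
  have h6 : ∀ v, aeval Z (h ^ 6) v = 0 := fun v => LinearMap.mem_ker.1 (htop ▸ Submodule.mem_top : v ∈ W)
  rcases Nat.lt_or_ge h.natDegree 2 with hd | hd
  · have hd1 : h.natDegree = 1 := le_antisymm (by omega) hh.natDegree_pos
    set a := -h.coeff 0 with ha
    have hX : h = X - C a := by
      rw [ha, map_neg, sub_neg_eq_add]; exact hm.eq_X_add_C hd1
    rw [hX] at h6
    have h3 := H.root_case h6
    set n : Module.End F V := Z - a • LinearMap.id with hn'
    have hn : ∀ x, n x = T x + T.symm x - a • x := fun _ => rfl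
    have hnp : aeval Z (X - C a) = n := by
      refine LinearMap.ext fun x => ?_
      rw [map_sub, aeval_X, aeval_C, LinearMap.sub_apply, Module.algebraMap_end_apply]
      rfl
    have h3' : ∀ x, n (n (n x)) = 0 := fun x => by
      have h1 := h3 x
      rw [map_pow, hnp, pow_succ, sq, Module.End.mul_apply, Module.End.mul_apply] at h1
      exact h1
    rcases H.eigen_case n hn h3' with h1 | h1 | h1
    exacts [Or.inl h1, Or.inr (Or.inr (Or.inl ⟨a, h1⟩)), Or.inr (Or.inr (Or.inr h1))]
  obtain ⟨hle, h0⟩ := H.irreducible_case hh hd h6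
  have hd3 : h.natDegree = 3 := by
    by_contra hne
    exact H.no_quadratic hh hm (by omega) h0
  haveI := Fact.mk hh
  haveI : Module.Finite F (AdjoinRoot h) := (AdjoinRoot.powerBasis hh.ne_zero).finite
  haveI : FiniteDimensional F E := Module.finite_of_finrank_pos (by omega)
  haveI : Finite (AdjoinRoot h) := Module.finite_of_finite F
  obtain ⟨ι⟩ := FiniteField.nonempty_algHom_of_finrank_dvd (F := F) (K := E) (L := AdjoinRoot h)
    (by rw [hE, (AdjoinRoot.powerBasis hh.ne_zero).finrank, AdjoinRoot.powerBasis_dim, hd3])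
  obtain ⟨φ, hφ⟩ := exists_algHom_of_root h (E := Module.End F V) (J := Z) (LinearMap.ext h0)
  have hP : ∀ r : E, ∃ P : F[X], φ (ι r) = aeval Z P := fun r => by
    obtain ⟨P, hP⟩ := AdjoinRoot.mk_surjective (ι r)
    exact ⟨P, by rw [← hP, ← AdjoinRoot.aeval_eq, ← aeval_algHom_apply, hφ]⟩
  refine Or.inr (Or.inl ⟨φ.comp ι, fun r x y => ?_, RingEquiv.refl E, fun r x => ?_⟩)
  · obtain ⟨P, hP⟩ := hP r
    show B (φ (ι r) x) y = B x (φ (ι r) y)
    rw [hP, H.aeval_adj]
  · obtain ⟨P, hP⟩ := hP r
    show T (φ (ι r) x) = φ (ι r) (T x)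
    rw [hP, H.aeval_comm]

end SixSpace

end Cfsg.Agent.Lib.CoverTwo
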