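import Mathlib
import Cfsg.Agent.Lib.CoverTwo.SpGeom

/-!
# Models of isometries normalising a cubic field, and transfer by normal forms
-/

set_option autoImplicit false

namespace Cfsg.Agent.Lib.CoverTwo

variable {F V : Type*} [Field F] [AddCommGroup V] [Module F V] [FiniteDimensional F V]
  {B : LinearMap.BilinForm F V} {T : V ≃ₗ[F] V}

section Coordinates

/-- Gram form of a cyclic normal basis -/
def cycGram (c d : Fin 6 → F) : F :=
  c 0 * d 5 + c 1 * d 4 + c 2 * d 3 - c 3 * d 2 - c 4 * d 1 - c 5 * d 0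

/-- action in a cyclic normal basis -/
def cycAct (a : F) (c : Fin 6 → F) : Fin 6 → F :=
  ![-c 3, -c 4, -c 5, c 0 + a * c 3, c 1 + a * c 4 + c 3, c 2 + a * c 5 + c 4]

/-- Gram form of a normal pair basis -/
def pairGram (e : F) (c d : Fin 6 → F) : F :=
  c 0 * d 5 + c 2 * d 3 - c 1 * d 4 + e * c 1 * d 3 - c 5 * d 0 - c 3 * d 2 + c 4 * d 1 - e * c 3 * d 1

/-- action in a normal pair basis -/
def pairAct (e : F) (c : Fin 6 → F) : Fin 6 → F :=
  ![e * c 0, e * c 1 + c 0, e * c 2 + c 1, e * c 3, e * c 4 + c 3, e * c 5 + c 4]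

theorem exists_coords (H : SixSpace B T) (f : Fin 6 → V) (G : (Fin 6 → F) → (Fin 6 → F) → F)
    (A : (Fin 6 → F) → (Fin 6 → F)) {x : F}
    (hG : ∀ c d, B (∑ i, c i • f i) (∑ i, d i • f i) = x * G c d)
    (hA : ∀ c, T (∑ i, c i • f i) = ∑ i, A c i • f i)
    (hnd : ∀ c, (∀ d, x * G c d = 0) → c = 0) :
    ∃ L : (Fin 6 → F) ≃ₗ[F] V, (∀ c d, B (L c) (L d) = x * G c d) ∧ ∀ c, T (L c) = L (A c) := by
  have h : ∀ c, Fintype.linearCombination F f c = ∑ i, c i • f i := fun c => rfl
  have hinj : Function.Injective (Fintype.linearCombination F f) := by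
    rw [← LinearMap.ker_eq_bot, LinearMap.ker_eq_bot']
    intro c hc
    refine hnd c fun d => ?_
    rw [← hG, ← h c, hc, map_zero, LinearMap.zero_apply]
  refine ⟨LinearEquiv.ofBijective _ ⟨hinj, (LinearMap.injective_iff_surjective_of_finrank_eq_finrank
    (by rw [H.dim, Module.finrank_fin_fun])).1 hinj⟩, fun c d => ?_, fun c => ?_⟩
  · exact hG c d
  · exact hA c

theorem cyc_coords (H : SixSpace B T) {a : F} (h : CycNormal B T a) :
    ∃ (x : F) (L : (Fin 6 → F) ≃ₗ[F] V), x ≠ 0 ∧ (∀ c d, B (L c) (L d) = x * cycGram c d) ∧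
      ∀ c, T (L c) = L (cycAct a c) := by
  obtain ⟨n, hn, h3, v, h0, h1, h2⟩ := h
  have hcomm : ∀ x, n (T x) = T (n x) := fun x => by
    rw [hn, hn, map_sub, map_add, map_smul, T.apply_symm_apply, T.symm_apply_apply]
  have hadj : ∀ x y, B (n x) y = B x (n y) := fun x y => by
    rw [hn, hn, map_sub, map_add, map_smul, LinearMap.sub_apply, LinearMap.add_apply,
      LinearMap.smul_apply, map_sub, map_add, map_smul, H.adj, H.adj']
    ring
  have hTT : ∀ x, T (T x) = a • T x + T (n x) - x := fun x => by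
    rw [hn, map_sub, map_add, map_smul, T.apply_symm_apply]; abel
  have hadj2 : ∀ x y, B (n (n x)) y = B x (n (n y)) := fun x y => by rw [hadj, hadj]
  have p1 : B v (n v) = 0 := H.self_adj_zero hadj v
  have p2 : B v (n (n v)) = 0 := H.self_adj_zero (m := n * n) hadj2 v
  have q1 : B (T v) (n (T v)) = 0 := H.self_adj_zero hadj _
  have q2 : B (T v) (n (n (T v))) = 0 := H.self_adj_zero (m := n * n) hadj2 _
  have r0 : B (T v) v = 0 := by rw [H.skew, h0, neg_zero]
  have r1 : B (T v) (n v) = 0 := by rw [← hadj, H.skew, h1, neg_zero]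
  have r2 : B (T v) (n (n v)) = -B v (n (n (T v))) := by rw [← hadj2, H.skew]
  obtain ⟨L, hL1, hL2⟩ := exists_coords H (![v, n v, n (n v), T v, n (T v), n (n (T v))] : Fin 6 → V)
    cycGram (cycAct a) (x := B v (n (n (T v)))) (fun c d => by
      simp [Fin.sum_univ_six, hadj, h3, H.self, h0, h1, p1, p2, q1, q2, r0, r1, r2, cycGram]
      ring)
    (fun c => by
      have e1 : T (n (T v)) = a • n (T v) + n (n (T v)) - n v := by
        rw [← hcomm, hTT, map_sub, map_add, map_smul, ← hcomm]
      have e2 : T (n (n (T v))) = a • n (n (T v)) - n (n v) := by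
        rw [← hcomm, ← hcomm, hTT, map_sub, map_sub, map_add, map_add, map_smul, map_smul, ← hcomm, h3,
          add_zero]
      simp [Fin.sum_univ_six, cycAct, hTT, e1, e2, ← hcomm v, ← hcomm (n v)]
      module)
    (fun c hc => by
      have g : ∀ d, cycGram c d = 0 := fun d => (mul_eq_zero.1 (hc d)).resolve_left h2
      have e0 := g ![1, 0, 0, 0, 0, 0]
      have e1 := g ![0, 1, 0, 0, 0, 0]
      have e2 := g ![0, 0, 1, 0, 0, 0]
      have e3 := g ![0, 0, 0, 1, 0, 0]
      have e4 := g ![0, 0, 0, 0, 1, 0]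
      have e5 := g ![0, 0, 0, 0, 0, 1]
      simp [cycGram] at e0 e1 e2 e3 e4 e5
      funext i; fin_cases i
      exacts [e5, e4, e3, e2, e1, e0])
  exact ⟨_, L, h2, hL1, hL2⟩

theorem pair_coords (H : SixSpace B T) {e : F} (he : e * e = 1) (h : PairNormal B T e) :
    ∃ (L : (Fin 6 → F) ≃ₗ[F] V), (∀ c d, B (L c) (L d) = 1 * pairGram e c d) ∧
      ∀ c, T (L c) = L (pairAct e c) := by
  obtain ⟨N, hN, h3, v, w, hvw, hv, hw, h0, h1⟩ := h
  have hT : ∀ x, T x = N x + e • x := fun x => by rw [hN]; abel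
  have hS : ∀ x, T.symm x = e • x - N x + e • N (N x) := fun x => by
    apply T.injective
    rw [T.apply_symm_apply, map_add, map_sub, map_smul, map_smul, hT, hT, hT, h3]
    simp only [smul_add, smul_smul, he, one_smul, smul_zero, zero_add]
    abel
  have hA : ∀ x y, B (N x) y = -B x (N y) + e * B x (N (N y)) := fun x y => by
    rw [hN x, map_sub, map_smul, LinearMap.sub_apply, LinearMap.smul_apply, H.adj, hS]
    simp only [map_sub, map_add, map_smul, smul_eq_mul]
    ring
  have hA2 : ∀ x y, B (N (N x)) y = B x (N (N y)) := fun x y => by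
    rw [hA, hA, hA, h3]
    simp [h3]
  have hNN : ∀ x y, B (N x) (N y) = -B x (N (N y)) := fun x y => by rw [hA, h3, map_zero]; ring
  have hNN2 : ∀ x y, B (N x) (N (N y)) = 0 := fun x y => by rw [hA, h3, map_zero]; simp
  have p2 : B v (N (N v)) = 0 := H.self_adj_zero (m := N * N) hA2 v
  have q2 : B w (N (N w)) = 0 := H.self_adj_zero (m := N * N) hA2 w
  have r0 : B w v = 0 := by rw [H.skew, h0, neg_zero]
  have r2 : B w (N (N v)) = -1 := by rw [← hA2, H.skew, hvw]
  have r1 : B w (N v) = -e := by rw [H.skew, hA, h1, hvw]; ring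
  obtain ⟨L, hL1, hL2⟩ := exists_coords H (![v, N v, N (N v), w, N w, N (N w)] : Fin 6 → V)
    (pairGram e) (pairAct e) (x := 1) (fun c d => by
      simp [Fin.sum_univ_six, hA2, hA, hNN2, h3, H.self, h0, h1, hv, hw, hvw, p2, q2, r0, r1, r2, pairGram]
      ring)
    (fun c => by
      simp [Fin.sum_univ_six, pairAct, hT, h3]
      module)
    (fun c hc => by
      have g : ∀ d, pairGram e c d = 0 := fun d => by simpa using hc d
      have e0 := g ![1, 0, 0, 0, 0, 0]
      have e1 := g ![0, 1, 0, 0, 0, 0]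
      have e2 := g ![0, 0, 1, 0, 0, 0]
      have e3 := g ![0, 0, 0, 1, 0, 0]
      have e4 := g ![0, 0, 0, 0, 1, 0]
      have e5 := g ![0, 0, 0, 0, 0, 1]
      simp [pairGram] at e0 e1 e2 e3 e4 e5
      rw [e2] at e1
      rw [e4] at e3
      simp at e1 e3
      funext i; fin_cases i
      exacts [e5, e4, e3, e2, e1, e0])
  exact ⟨L, hL1, hL2⟩

end Coordinates

section Transfer

variable {W : Type*} [AddCommGroup W] [Module F W] [FiniteDimensional F W] {B₀ : LinearMap.BilinForm F W}
  {T₀ : W ≃ₗ[F] W} {E : Type*} [Field E] [Algebra F E]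

/-- a similitude carrying a normalised self-adjoint field -/
theorem hasField_transfer (hf : HasField E B₀ T₀) (e : W ≃ₗ[F] V) {ρ : F}
    (he : ∀ x y, B (e x) (e y) = ρ * B₀ x y) (hT : ∀ x, T (e x) = e (T₀ x)) : HasField E B T := by
  obtain ⟨φ, hφ, ψ, hψ⟩ := hf
  have hc : ∀ r x, ((e.conjAlgEquiv F).toAlgHom.comp φ) r (e x) = e (φ r x) := fun r x => by
    show e (φ r (e.symm (e x))) = _
    rw [e.symm_apply_apply]
  refine ⟨(e.conjAlgEquiv F).toAlgHom.comp φ, fun r x y => ?_, ψ, fun r x => ?_⟩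
  · obtain ⟨x, rfl⟩ := e.surjective x
    obtain ⟨y, rfl⟩ := e.surjective y
    rw [hc, hc, he, he, hφ]
  · obtain ⟨x, rfl⟩ := e.surjective x
    rw [hc, hT, hT, hc, hψ]

theorem hasField_of_cyc (H : SixSpace B T) (H₀ : SixSpace B₀ T₀) {a : F} (h : CycNormal B T a)
    (h₀ : CycNormal B₀ T₀ a) (hf : HasField E B₀ T₀) : HasField E B T := by
  obtain ⟨x, L, hx, hL1, hL2⟩ := cyc_coords H h
  obtain ⟨x₀, L₀, hx₀, hM1, hM2⟩ := cyc_coords H₀ h₀
  refine hasField_transfer hf (L₀.symm.trans L) (ρ := x / x₀) (fun u v => ?_) (fun u => ?_)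
  · obtain ⟨c, rfl⟩ := L₀.surjective u
    obtain ⟨d, rfl⟩ := L₀.surjective v
    rw [LinearEquiv.trans_apply, LinearEquiv.trans_apply, L₀.symm_apply_apply, L₀.symm_apply_apply, hL1, hM1]
    field_simp
  · obtain ⟨c, rfl⟩ := L₀.surjective u
    rw [hM2, LinearEquiv.trans_apply, LinearEquiv.trans_apply, L₀.symm_apply_apply, L₀.symm_apply_apply, hL2]

theorem hasField_of_pair (H : SixSpace B T) (H₀ : SixSpace B₀ T₀) {e : F} (he : e * e = 1)
    (h : PairNormal B T e) (h₀ : PairNormal B₀ T₀ e) (hf : HasField E B₀ T₀) : HasField E B T := by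
  obtain ⟨L, hL1, hL2⟩ := pair_coords H he h
  obtain ⟨L₀, hM1, hM2⟩ := pair_coords H₀ he h₀
  refine hasField_transfer hf (L₀.symm.trans L) (ρ := 1) (fun u v => ?_) (fun u => ?_)
  · obtain ⟨c, rfl⟩ := L₀.surjective u
    obtain ⟨d, rfl⟩ := L₀.surjective v
    rw [LinearEquiv.trans_apply, LinearEquiv.trans_apply, L₀.symm_apply_apply, L₀.symm_apply_apply, hL1, hM1]
    ring
  · obtain ⟨c, rfl⟩ := L₀.surjective u
    rw [hM2, LinearEquiv.trans_apply, LinearEquiv.trans_apply, L₀.symm_apply_apply, L₀.symm_apply_apply, hL2]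

end Transfer

section Model

variable (F) (E : Type*) [Field E] [Algebra F E]

/-- the alternating trace form on `E × E` -/
noncomputable def cubicForm : LinearMap.BilinForm F (E × E) :=
  LinearMap.mk₂ F (fun u v => Algebra.trace F E (u.1 * v.2 - v.1 * u.2))
    (fun u u' v => by rw [← map_add]; congr 1; simp only [Prod.fst_add, Prod.snd_add]; ring)
    (fun c u v => by
      rw [← map_smul]; congr 1
      simp only [Prod.smul_fst, Prod.smul_snd, smul_mul_assoc, mul_smul_comm, smul_sub])
    (fun u v v' => by rw [← map_add]; congr 1; simp only [Prod.fst_add, Prod.snd_add]; ring)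
    (fun c u v => by
      rw [← map_smul]; congr 1
      simp only [Prod.smul_fst, Prod.smul_snd, smul_mul_assoc, mul_smul_comm, smul_sub])

/-- the diagonal action of `E` -/
noncomputable def cubicDiag : E →ₐ[F] Module.End F (E × E) := Algebra.lsmul F F (E × E)

variable {F E}

omit [FiniteDimensional F V] in
theorem cubicForm_apply (u v : E × E) : cubicForm F E u v = Algebra.trace F E (u.1 * v.2 - v.1 * u.2) := rfl

theorem cubicDiag_apply (r : E) (u : E × E) : cubicDiag F E r u = (r * u.1, r * u.2) := rfl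

variable [Fintype F] [CharP F 3] [Finite E]

theorem two_ne_zero_three : (2 : F) ≠ 0 := Ring.two_ne_zero (by rw [ringChar.eq F 3]; norm_num)

theorem cubic_sixSpace (hE : Module.finrank F E = 3) (T₀ : (E × E) ≃ₗ[F] (E × E))
    (hpres : ∀ u v, cubicForm F E (T₀ u) (T₀ v) = cubicForm F E u v) : SixSpace (cubicForm F E) T₀ := by
  haveI : FiniteDimensional F E := Module.finite_of_finrank_pos (by omega)
  have hnd : ∀ z : E, (∀ t, Algebra.trace F E (z * t) = 0) → z = 0 := (traceForm_nondegenerate F E).1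
  have hself : ∀ u, cubicForm F E u u = 0 := fun u => by rw [cubicForm_apply, sub_self, map_zero]
  refine ⟨two_ne_zero_three, ⟨by simp, fun _ => rfl, fun u v => ?_, fun u hu => ?_, fun u => ⟨0, ?_⟩⟩,
    hself, by rw [Module.finrank_prod, hE], hpres⟩
  · rw [cubicForm_apply, cubicForm_apply, RingHom.id_apply, neg_one_mul, ← map_neg, neg_sub]
  · refine Prod.ext (hnd _ fun t => ?_) (hnd _ fun t => ?_)
    · have := hu (0, t)
      simpa [cubicForm_apply] using this
    · have := hu (t, 0)
      rw [cubicForm_apply] at this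
      simpa [mul_comm] using this
  · simp [hself]

theorem cubic_hasField (σ : E ≃ₐ[F] E) (T₀ : (E × E) ≃ₗ[F] (E × E))
    (h : ∀ r u, T₀ (r * u.1, r * u.2) = ((σ r) * (T₀ u).1, (σ r) * (T₀ u).2)) :
    HasField E (cubicForm F E) T₀ :=
  ⟨cubicDiag F E, fun r u v => by
    rw [cubicForm_apply, cubicForm_apply, cubicDiag_apply, cubicDiag_apply]; congr 1; ring,
    σ.toRingEquiv, fun r u => h r u⟩

theorem exists_cubic_frob (hE : Module.finrank F E = 3) :
    ∃ σ : E ≃ₐ[F] E, (∀ z, σ (σ (σ z)) = z) ∧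
      (∀ z, algebraMap F E (Algebra.trace F E z) = z + σ z + σ (σ z)) ∧
      ∀ z, Algebra.trace F E (σ z) = Algebra.trace F E z := by
  haveI : FiniteDimensional F E := Module.finite_of_finrank_pos (by omega)
  let σ := FiniteField.frobeniusAlgEquivOfAlgebraic F E
  refine ⟨σ, fun z => ?_, fun z => ?_, fun z => Algebra.trace_eq_of_algEquiv σ z⟩
  · have h : σ ^ 3 = 1 := by
      rw [show 3 = orderOf σ by rw [FiniteField.orderOf_frobeniusAlgEquivOfAlgebraic, hE]]
      exact pow_orderOf_eq_one σ
    exact AlgEquiv.congr_fun h z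
  · rw [FiniteField.algebraMap_trace_eq_sum_pow, hE, Finset.sum_range_succ, Finset.sum_range_succ,
      Finset.sum_range_one, Nat.card_eq_fintype_card]
    have hσ : ∀ z, σ z = z ^ Fintype.card F := fun z => rfl
    rw [hσ, hσ, ← pow_mul]
    simp only [pow_two, pow_zero, pow_one]

/-- a cyclic model for every trace -/
theorem exists_cyc_model (hE : Module.finrank F E = 3) (a : F) :
    ∃ T₀ : (E × E) ≃ₗ[F] (E × E), SixSpace (cubicForm F E) T₀ ∧ CycNormal (cubicForm F E) T₀ a ∧
      HasField E (cubicForm F E) T₀ := by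
  classical
  haveI : FiniteDimensional F E := Module.finite_of_finrank_pos (by omega)
  haveI : CharP E 3 := charP_of_injective_algebraMap (algebraMap F E).injective 3
  have h3 : (3 : E) = 0 := by exact_mod_cast CharP.cast_eq_zero E 3
  have h6 : (6 : E) = 0 := by linear_combination (2 : E) * h3
  have h9 : (9 : E) = 0 := by linear_combination (3 : E) * h3
  have h12 : (12 : E) = 0 := by linear_combination (4 : E) * h3
  have h18 : (18 : E) = 0 := by linear_combination (6 : E) * h3
  obtain ⟨σ, hσ, htr, htrσ⟩ := exists_cubic_frob hE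
  obtain ⟨τ, hτ⟩ := Algebra.trace_surjective F E 1
  have hτ1 : τ + σ τ + σ (σ τ) = 1 := by rw [← htr, hτ, map_one]
  set A := algebraMap F E a with hA
  have hσA : σ A = A := σ.commutes a
  by_cases ha : a * a = 1
  · set ε := -a with hε
    have hee : algebraMap F E ε * algebraMap F E ε = 1 := by rw [← map_mul, hε, neg_mul_neg, ha, map_one]
    set P := algebraMap F E ε with hP
    have hσP : σ P = P := σ.commutes ε
    have hAP : A = -P := by rw [hP, hε, map_neg, neg_neg]
    let T₀ : (E × E) ≃ₗ[F] (E × E) :=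
      { toFun := fun u => (P * σ (u.1 + τ * u.2), P * σ u.2)
        invFun := fun u => (P * σ (σ u.1) - τ * (P * σ (σ u.2)), P * σ (σ u.2))
        map_add' := fun u v => by
          refine Prod.ext ?_ ?_ <;> simp [mul_add] <;> ring
        map_smul' := fun c u => by
          refine Prod.ext ?_ ?_ <;> simp [mul_comm τ] <;> simp [Algebra.smul_def] <;> ring
        left_inv := fun u => by
          refine Prod.ext ?_ ?_
          · simp only [map_add, map_mul, hσP, hσ]
            linear_combination u.1 * hee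
          · simp only [map_mul, hσP, hσ]
            linear_combination u.2 * hee
        right_inv := fun u => by
          refine Prod.ext ?_ ?_
          · simp only [map_sub, map_add, map_mul, hσP, hσ]
            linear_combination u.1 * hee
          · simp only [map_mul, hσP, hσ]
            linear_combination u.2 * hee }
    have hTa : ∀ x y, T₀ (x, y) = (P * σ (x + τ * y), P * σ y) := fun _ _ => rfl
    have hSa : ∀ x y, T₀.symm (x, y) = (P * σ (σ x) - τ * (P * σ (σ y)), P * σ (σ y)) := fun _ _ => rfl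
    have hH : SixSpace (cubicForm F E) T₀ := cubic_sixSpace hE T₀ fun u v => by
      rw [← Prod.mk.eta (p := u), ← Prod.mk.eta (p := v), hTa, hTa, cubicForm_apply, cubicForm_apply,
        ← htrσ (u.1 * v.2 - v.1 * u.2)]
      congr 1
      simp only [map_add, map_mul, map_sub]
      linear_combination (σ u.1 * σ v.2 - σ v.1 * σ u.2) * hee
    let n : Module.End F (E × E) := T₀.toLinearMap + T₀.symm.toLinearMap - a • LinearMap.id
    have hn : ∀ u, n u = T₀ u + T₀.symm u - a • u := fun _ => rfl
    have hn' : ∀ x y, n (x, y) = (P * σ (x + τ * y) + (P * σ (σ x) - τ * (P * σ (σ y))) + P * x,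
        P * σ y + P * σ (σ y) + P * y) := fun x y => by
      rw [hn, hTa, hSa]
      refine Prod.ext ?_ ?_ <;> simp [Algebra.smul_def, ← hA, hAP]
    refine ⟨T₀, hH, hH.cycNormal_of_exists n hn (fun u => ?_) ⟨(0, τ), fun h => ?_⟩, cubic_hasField σ T₀ fun r u => ?_⟩
    · obtain ⟨x, y⟩ := u
      simp only [hn', map_add, map_sub, map_mul, hσP, hσ]
      refine Prod.ext ?_ ?_
      · show _ = (0 : E)
        ring_nf
        simp [h3, h6, h9, h12, h18]
      · show _ = (0 : E)
        ring_nf
        simp [h3, h6, h9, h12, h18]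
    · have h1 := congrArg (algebraMap F E) h
      rw [map_zero, cubicForm_apply, htr] at h1
      simp only [hTa, hn', map_add, map_sub, map_mul, map_zero, hσP, hσ, zero_mul, mul_zero, zero_add,
        zero_sub, map_neg] at h1
      have h2 : P * P * P * (τ + σ τ + σ (σ τ)) ^ 3 = 0 := by
        linear_combination (norm := (ring_nf <;> simp [h3, h6, h9, h12, h18])) -h1
      rw [hτ1, one_pow, mul_one, hee, one_mul] at h2
      rw [h2, zero_mul] at hee
      exact zero_ne_one hee
    · rw [← Prod.mk.eta (p := u), hTa, hTa]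
      refine Prod.ext ?_ ?_ <;> simp only [map_add, map_mul] <;> ring
  · let T₀ : (E × E) ≃ₗ[F] (E × E) :=
      { toFun := fun u => (-σ u.2, σ u.1 + A * σ u.2)
        invFun := fun u => (A * σ (σ u.1) + σ (σ u.2), -σ (σ u.1))
        map_add' := fun u v => by refine Prod.ext ?_ ?_ <;> simp <;> ring
        map_smul' := fun c u => by refine Prod.ext ?_ ?_ <;> simp [Algebra.smul_def] <;> ring
        left_inv := fun u => by
          refine Prod.ext ?_ ?_ <;> simp only [map_add, map_mul, map_neg, hσA, hσ] <;> ring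
        right_inv := fun u => by
          refine Prod.ext ?_ ?_ <;> simp only [map_add, map_mul, map_neg, hσA, hσ] <;> ring }
    have hTa : ∀ x y, T₀ (x, y) = (-σ y, σ x + A * σ y) := fun _ _ => rfl
    have hSa : ∀ x y, T₀.symm (x, y) = (A * σ (σ x) + σ (σ y), -σ (σ x)) := fun _ _ => rfl
    have hH : SixSpace (cubicForm F E) T₀ := cubic_sixSpace hE T₀ fun u v => by
      rw [← Prod.mk.eta (p := u), ← Prod.mk.eta (p := v), hTa, hTa, cubicForm_apply, cubicForm_apply,
        ← htrσ (u.1 * v.2 - v.1 * u.2)]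
      congr 1
      simp only [map_mul, map_sub]
      ring
    let n : Module.End F (E × E) := T₀.toLinearMap + T₀.symm.toLinearMap - a • LinearMap.id
    have hn : ∀ u, n u = T₀ u + T₀.symm u - a • u := fun _ => rfl
    have hn' : ∀ x y, n (x, y) = (-σ y + (A * σ (σ x) + σ (σ y)) - A * x,
        σ x + A * σ y + -σ (σ x) - A * y) := fun x y => by
      rw [hn, hTa, hSa]
      refine Prod.ext ?_ ?_ <;> simp [Algebra.smul_def, ← hA]
    refine ⟨T₀, hH, hH.cycNormal_of_exists n hn (fun u => ?_) ⟨(τ, 0), fun h => ?_⟩, cubic_hasField σ T₀ fun r u => ?_⟩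
    · obtain ⟨x, y⟩ := u
      simp only [hn', map_add, map_sub, map_mul, map_neg, hσA, hσ]
      refine Prod.ext ?_ ?_
      · show _ = (0 : E)
        ring_nf
        simp [h3, h6, h9, h12, h18]
      · show _ = (0 : E)
        ring_nf
        simp [h3, h6, h9, h12, h18]
    · have h1 := congrArg (algebraMap F E) h
      rw [map_zero, cubicForm_apply, htr] at h1
      simp only [hTa, hn', map_add, map_sub, map_mul, map_neg, map_zero, hσA, hσ, zero_mul, mul_zero,
        zero_add, sub_zero, neg_zero, add_zero] at h1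
      have h2 : (A * A - 1) * (τ + σ τ + σ (σ τ)) ^ 2 = 0 := by
        linear_combination (norm := (ring_nf; simp [h3, h6, h9, h12, h18])) h1
      rw [hτ1, one_pow, mul_one, hA, ← map_mul, ← map_one (algebraMap F E), ← map_sub, map_eq_zero,
        sub_eq_zero] at h2
      exact ha h2
    · rw [← Prod.mk.eta (p := u), hTa, hTa]
      refine Prod.ext ?_ ?_ <;> simp only [map_mul] <;> ring

/-- a model for nilpotency three -/
theorem exists_pair_model (hE : Module.finrank F E = 3) {e : F} (he : e * e = 1) :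
    ∃ T₀ : (E × E) ≃ₗ[F] (E × E), SixSpace (cubicForm F E) T₀ ∧ PairNormal (cubicForm F E) T₀ e ∧
      HasField E (cubicForm F E) T₀ := by
  classical
  haveI : FiniteDimensional F E := Module.finite_of_finrank_pos (by omega)
  haveI : CharP E 3 := charP_of_injective_algebraMap (algebraMap F E).injective 3
  have h3 : (3 : E) = 0 := by exact_mod_cast CharP.cast_eq_zero E 3
  have h6 : (6 : E) = 0 := by linear_combination (2 : E) * h3
  have h9 : (9 : E) = 0 := by linear_combination (3 : E) * h3
  have h12 : (12 : E) = 0 := by linear_combination (4 : E) * h3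
  have h18 : (18 : E) = 0 := by linear_combination (6 : E) * h3
  obtain ⟨σ, hσ, htr, htrσ⟩ := exists_cubic_frob hE
  obtain ⟨τ, hτ⟩ := Algebra.trace_surjective F E 1
  have hτ1 : τ + σ τ + σ (σ τ) = 1 := by rw [← htr, hτ, map_one]
  have hee : algebraMap F E e * algebraMap F E e = 1 := by rw [← map_mul, he, map_one]
  set P := algebraMap F E e with hP
  have hσP : σ P = P := σ.commutes e
  let T₀ : (E × E) ≃ₗ[F] (E × E) :=
    { toFun := fun u => (P * σ u.1, P * σ u.2)
      invFun := fun u => (P * σ (σ u.1), P * σ (σ u.2))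
      map_add' := fun u v => by refine Prod.ext ?_ ?_ <;> simp [mul_add]
      map_smul' := fun c u => by refine Prod.ext ?_ ?_ <;> simp
      left_inv := fun u => by
        refine Prod.ext ?_ ?_ <;> simp only [map_mul, hσP, hσ]
        · linear_combination u.1 * hee
        · linear_combination u.2 * hee
      right_inv := fun u => by
        refine Prod.ext ?_ ?_ <;> simp only [map_mul, hσP, hσ]
        · linear_combination u.1 * hee
        · linear_combination u.2 * hee }
  have hTa : ∀ x y, T₀ (x, y) = (P * σ x, P * σ y) := fun _ _ => rfl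
  have hSa : ∀ x y, T₀.symm (x, y) = (P * σ (σ x), P * σ (σ y)) := fun _ _ => rfl
  have hH : SixSpace (cubicForm F E) T₀ := cubic_sixSpace hE T₀ fun u v => by
    rw [← Prod.mk.eta (p := u), ← Prod.mk.eta (p := v), hTa, hTa, cubicForm_apply, cubicForm_apply,
      ← htrσ (u.1 * v.2 - v.1 * u.2)]
    congr 1
    simp only [map_mul, map_sub]
    linear_combination (σ u.1 * σ v.2 - σ v.1 * σ u.2) * hee
  let n : Module.End F (E × E) := T₀.toLinearMap + T₀.symm.toLinearMap - (2 * e) • LinearMap.id
  have hn : ∀ u, n u = T₀ u + T₀.symm u - (2 * e) • u := fun _ => rfl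
  have hn' : ∀ x y, n (x, y) = (P * σ x + P * σ (σ x) - 2 * P * x,
      P * σ y + P * σ (σ y) - 2 * P * y) := fun x y => by
    rw [hn, hTa, hSa]
    refine Prod.ext ?_ ?_ <;> simp [Algebra.smul_def, map_mul, ← hP, map_ofNat]
  have hk : ∀ u, n (n u) = 0 := fun u => by
    obtain ⟨x, y⟩ := u
    simp only [hn', map_add, map_sub, map_mul, hσP, hσ, map_ofNat]
    refine Prod.ext ?_ ?_
    · show _ = (0 : E)
      ring_nf
      simp [h3, h6, h9, h12, h18]
    · show _ = (0 : E)
      ring_nf
      simp [h3, h6, h9, h12, h18]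
  have hn1 : ∀ u, n (T₀ u) = e • n u := fun u => by
    obtain ⟨x, y⟩ := u
    rw [hTa, hn', hn', Prod.smul_mk, Algebra.smul_def, Algebra.smul_def, ← hP]
    refine Prod.ext ?_ ?_ <;> simp only [map_mul, hσP, hσ]
    · linear_combination (P ^ 2 * (x - σ x)) * h3
    · linear_combination (P ^ 2 * (y - σ y)) * h3
  have hne : ∃ u, n u ≠ 0 := by
    refine ⟨(τ, 0), fun h => ?_⟩
    have h1 := congrArg Prod.fst h
    rw [hn'] at h1
    simp only [Prod.fst_zero] at h1
    have h2 : P * (τ + σ τ + σ (σ τ)) = 0 := by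
      linear_combination (norm := (ring_nf <;> simp [h3, h6, h9, h12, h18])) h1
    rw [hτ1, mul_one] at h2
    rw [h2, zero_mul] at hee
    exact zero_ne_one hee
  refine ⟨T₀, hH, (hH.pairNormal_of_null n hn hk hn1 hne).2, cubic_hasField σ T₀ fun r u => ?_⟩
  rw [← Prod.mk.eta (p := u), hTa, hTa]
  refine Prod.ext ?_ ?_ <;> simp only [map_mul] <;> ring

end Model

end Cfsg.Agent.Lib.CoverTwo
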