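import Mathlib
import Cfsg.Prelude.Def_Classical
import Cfsg.Agent.Lib.CoverTwo.Basic
import Cfsg.Agent.Lib.CoverTwo.SpModel
import Cfsg.Agent.Lib.Classical.Symplectic
import Cfsg.Agent.Lib.Forms.Bridge
import Cfsg.Agent.Lib.Forms.Symplectic

/-!
# `PSp₆(q)`, `q = 3^a`: every element normalises a cubic field or fixes a non-degenerate plane
-/

set_option autoImplicit false

namespace Cfsg.Agent.Lib.CoverTwo

open Matrix

variable {F : Type*} [Field F] [Fintype F]

local notation "VS" => (Fin 3 ⊕ Fin 3 → F)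
local notation "BS" => Forms.sympBilin 3 F

/-- the natural action of `Sp₆` -/
def spAct (g : Matrix.symplecticGroup (Fin 3) F) : VS →ₗ[F] VS := Matrix.mulVecLin g.1

omit [Fintype F] in
theorem spAct_one : spAct (1 : Matrix.symplecticGroup (Fin 3) F) = LinearMap.id :=
  Matrix.mulVecLin_one

omit [Fintype F] in
theorem spAct_mul (a b : Matrix.symplecticGroup (Fin 3) F) : spAct (a * b) = spAct a ∘ₗ spAct b :=
  Matrix.mulVecLin_mul a.1 b.1

theorem spAct_pres (g : Matrix.symplecticGroup (Fin 3) F) (u v : VS) :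
    BS (spAct g u) (spAct g v) = BS u v := by
  rw [Forms.sympBilin_apply, Forms.sympBilin_apply]
  exact Forms.mem_symplecticGroup_iff_preserves.1 g.2 u v

/-- an element of the group as an equivalence -/
theorem exists_spEquiv (g : Matrix.symplecticGroup (Fin 3) F) [CharP F 3] :
    ∃ T : VS ≃ₗ[F] VS, (∀ v, T v = spAct g v) ∧ SixSpace BS T := by
  obtain ⟨e, he, hep⟩ := (Forms.sympBilin_goodForm (m := 3) (F := F)).exists_equiv_of_preserves (spAct g)
    (spAct_pres g)
  exact ⟨e, he, two_ne_zero_three, Forms.sympBilin_goodForm, Forms.sympBilin_isAlt.self_eq_zero,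
    by simp [Module.finrank_fintype_fun_eq_card], hep⟩

/-- an isometry as an element of the group -/
theorem exists_spElem (e : VS ≃ₗ[F] VS) (he : ∀ u v, BS (e u) (e v) = BS u v) :
    ∃ k : Matrix.symplecticGroup (Fin 3) F, ∀ v, spAct k v = e v := by
  refine ⟨⟨LinearMap.toMatrix' e.toLinearMap, Forms.mem_symplecticGroup_iff_preserves.2 fun u v => ?_⟩,
    fun v => LinearMap.toMatrix'_mulVec e.toLinearMap v⟩
  rw [LinearMap.toMatrix'_mulVec, LinearMap.toMatrix'_mulVec, ← Forms.sympBilin_apply,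
    ← Forms.sympBilin_apply]
  exact he u v

omit [Fintype F] in
theorem spAct_center (g : Matrix.symplecticGroup (Fin 3) F)
    (hg : g ∈ Subgroup.center (Matrix.symplecticGroup (Fin 3) F)) :
    ∃ c : F, ∀ v, spAct g v = c • v := by
  rcases (Classical.center_symplecticGroup 3 g).1 hg with h | h
  · refine ⟨1, fun v => ?_⟩
    show g.1 *ᵥ v = _
    rw [h, one_mulVec, one_smul]
  · refine ⟨-1, fun v => ?_⟩
    show g.1 *ᵥ v = _
    rw [h, neg_mulVec, one_mulVec, neg_one_smul]

/-- stabiliser of a subspace -/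
def spStab (W : Submodule F VS) : Subgroup (Matrix.symplecticGroup (Fin 3) F) where
  carrier := {g | W.map (spAct g) = W}
  one_mem' := by simp [spAct_one]
  mul_mem' {a b} ha hb := by
    show W.map (spAct (a * b)) = W
    rw [spAct_mul, Submodule.map_comp, show W.map (spAct b) = W from hb, show W.map (spAct a) = W from ha]
  inv_mem' {a} ha := by
    show W.map (spAct a⁻¹) = W
    conv_lhs => rw [← (show W.map (spAct a) = W from ha)]
    rw [← Submodule.map_comp, ← spAct_mul, inv_mul_cancel, spAct_one, Submodule.map_id]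

theorem spMap_eq (g : Matrix.symplecticGroup (Fin 3) F) {W : Submodule F VS}
    (h : ∀ x ∈ W, spAct g x ∈ W) : W.map (spAct g) = W :=
  Submodule.eq_of_le_of_finrank_le (by rintro _ ⟨x, hx, rfl⟩; exact h x hx)
    (le_of_eq (Submodule.equivMapOfInjective (spAct g)
      ((Forms.sympBilin_goodForm (m := 3) (F := F)).injective_of_preserves (spAct_pres g)) W).finrank_eq)

/-- the reference plane -/
def spPair (i : Fin 3) : Fin 2 → VS := ![Pi.single (.inr i) 1, Pi.single (.inl i) 1]

omit [Fintype F] in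
theorem spPair_gram (i : Fin 3) : BS (spPair i 0) (spPair i 1) = 1 := by
  simp [spPair, Forms.sympForm_apply, Pi.single_apply]

theorem exists_move_hyp (i : Fin 3) {x y : VS} (hxy : BS x y = 1) :
    ∃ k : Matrix.symplecticGroup (Fin 3) F,
      (Submodule.span F ({x, y} : Set VS)).map (spAct k) = Submodule.span F (Set.range (spPair i)) := by
  have hgood := Forms.sympBilin_goodForm (m := 3) (F := F)
  have hself : ∀ v : VS, BS v v = 0 := Forms.sympBilin_isAlt.self_eq_zero
  have hsk : ∀ u v : VS, BS u v = 1 → BS v u = -1 := fun u v h => by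
    rw [← LinearMap.IsAlt.neg (Forms.sympBilin_isAlt (m := 3) (F := F)) u v, h]
  have hindep : ∀ w : Fin 2 → VS, BS (w 0) (w 1) = 1 → LinearIndependent F w := by
    intro w hw
    rw [Fintype.linearIndependent_iff]
    intro c hc
    rw [Fin.sum_univ_two] at hc
    have h1 := congrArg (BS (w 0)) hc
    have h2 := congrArg (BS (w 1)) hc
    simp [-Forms.sympBilin_apply, hself, hw, hsk _ _ hw] at h1 h2
    intro j; fin_cases j <;> assumption
  have h01 : BS (![x, y] 0) (![x, y] 1) = 1 := hxy
  obtain ⟨g, hg, hgv⟩ := hgood.witt_family ![x, y] (spPair i) (hindep _ h01) (hindep _ (spPair_gram i))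
    (fun a b => by
      fin_cases a <;> fin_cases b
      · exact (hself _).trans (hself _).symm
      · exact h01.trans (spPair_gram i).symm
      · exact (hsk _ _ h01).trans (hsk _ _ (spPair_gram i)).symm
      · exact (hself _).trans (hself _).symm)
  obtain ⟨k, hk⟩ := exists_spElem g hg
  refine ⟨k, ?_⟩
  rw [← Matrix.range_cons_cons_empty (x := x) (y := y), Submodule.map_span, ← Set.range_comp]
  exact congrArg (Submodule.span F) (congrArg Set.range (funext fun a => (hk _).trans (hgv a)))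

theorem spStab_ne_top : spStab (Submodule.span F (Set.range (spPair (F := F) 0))) ≠ ⊤ := by
  intro h
  obtain ⟨k, hk⟩ := exists_move_hyp (F := F) 0 (spPair_gram 1)
  have hk' : k ∈ spStab (Submodule.span F (Set.range (spPair (F := F) 0))) := h ▸ Subgroup.mem_top k
  have he := Submodule.map_injective_of_injective
    ((Forms.sympBilin_goodForm (m := 3) (F := F)).injective_of_preserves (spAct_pres k))
    (hk.trans hk'.symm)
  have hmem : spPair (F := F) 1 0 ∈ Submodule.span F (Set.range (spPair (F := F) 0)) :=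
    he ▸ Submodule.subset_span (Set.mem_insert _ _)
  obtain ⟨c, hc⟩ := (Submodule.mem_span_range_iff_exists_fun F).1 hmem
  have := congrFun hc (.inr 1)
  simp [spPair, Fin.sum_univ_two] at this

section Field

variable {E : Type*} [Field E] [Algebra F E]

/-- the normaliser of a field in `Sp₆` -/
def spFieldNorm (φ : E →ₐ[F] Module.End F VS) : Subgroup (Matrix.symplecticGroup (Fin 3) F) where
  carrier := {g | ∃ ψ : E ≃+* E, ∀ r, spAct g ∘ₗ φ r = φ (ψ r) ∘ₗ spAct g}
  one_mem' := ⟨RingEquiv.refl E, fun r => by simp [spAct_one]⟩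
  mul_mem' {a b} := by
    rintro ⟨χ, hχ⟩ ⟨ψ, hψ⟩
    refine ⟨ψ.trans χ, fun r => ?_⟩
    rw [spAct_mul, LinearMap.comp_assoc, hψ, ← LinearMap.comp_assoc, hχ, LinearMap.comp_assoc]
    rfl
  inv_mem' {a} := by
    rintro ⟨χ, hχ⟩
    refine ⟨χ.symm, fun r => ?_⟩
    have h := hχ (χ.symm r)
    rw [RingEquiv.apply_symm_apply] at h
    have e1 : spAct a⁻¹ ∘ₗ spAct a = LinearMap.id := by rw [← spAct_mul, inv_mul_cancel, spAct_one]
    have e2 : spAct a ∘ₗ spAct a⁻¹ = LinearMap.id := by rw [← spAct_mul, mul_inv_cancel, spAct_one]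
    calc spAct a⁻¹ ∘ₗ φ r = spAct a⁻¹ ∘ₗ (φ r ∘ₗ spAct a) ∘ₗ spAct a⁻¹ := by
          rw [LinearMap.comp_assoc, e2, LinearMap.comp_id]
      _ = spAct a⁻¹ ∘ₗ (spAct a ∘ₗ φ (χ.symm r)) ∘ₗ spAct a⁻¹ := by rw [h]
      _ = φ (χ.symm r) ∘ₗ spAct a⁻¹ := by
          simp only [← LinearMap.comp_assoc, e1, LinearMap.id_comp]

variable [CharP F 3] [Finite E]

/-- coordinates on the natural module -/
theorem exists_cubic_coords (hE : Module.finrank F E = 3) :
    ∃ e : (E × E) ≃ₗ[F] VS, ∀ u v, BS (e u) (e v) = cubicForm F E u v := by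
  classical
  haveI : FiniteDimensional F E := Module.finite_of_finrank_pos (by omega)
  have hnd := traceForm_nondegenerate F E
  let b := Module.finBasisOfFinrankEq F E hE
  let d := (Algebra.traceForm F E).dualBasis hnd b
  have hdb : ∀ i j, Algebra.trace F E (b j * d i) = if j = i then 1 else 0 := fun i j => by
    rw [mul_comm]
    exact LinearMap.BilinForm.apply_dualBasis_left hnd b i j
  let L : VS →ₗ[F] E × E :=
    ((Fintype.linearCombination F b).comp (LinearMap.funLeft F F Sum.inr)).prod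
      ((Fintype.linearCombination F d).comp (LinearMap.funLeft F F Sum.inl))
  have hL : ∀ u, L u = (∑ i, u (.inr i) • b i, ∑ i, u (.inl i) • d i) := fun u => rfl
  have hform : ∀ u v, cubicForm F E (L u) (L v) = BS u v := by
    intro u v
    rw [cubicForm_apply, hL, hL, Forms.sympBilin_apply, Forms.sympForm_apply]
    simp only [Finset.sum_mul, Finset.mul_sum, map_sub, map_sum, smul_mul_assoc, mul_smul_comm, map_smul,
      hdb, smul_eq_mul, mul_ite, mul_one, mul_zero, Finset.sum_ite_eq, Finset.sum_ite_eq',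
      Finset.mem_univ, if_true, Finset.sum_sub_distrib]
    congr 1 <;> exact Finset.sum_congr rfl fun i _ => mul_comm _ _
  have hinj : Function.Injective L := by
    rw [← LinearMap.ker_eq_bot, LinearMap.ker_eq_bot']
    intro u hu
    refine (Forms.sympBilin_goodForm (m := 3) (F := F)).nondeg u fun v => ?_
    rw [← hform, hu, map_zero, LinearMap.zero_apply]
  let e := LinearEquiv.ofBijective L ⟨hinj, (LinearMap.injective_iff_surjective_of_finrank_eq_finrank
    (by simp [Module.finrank_fintype_fun_eq_card, Module.finrank_prod, hE])).1 hinj⟩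
  refine ⟨e.symm, fun u v => ?_⟩
  obtain ⟨u, rfl⟩ := e.surjective u
  obtain ⟨v, rfl⟩ := e.surjective v
  rw [LinearEquiv.symm_apply_apply, LinearEquiv.symm_apply_apply]
  exact (hform u v).symm

/-- the standard field -/
noncomputable def spFieldStd (e : (E × E) ≃ₗ[F] VS) : E →ₐ[F] Module.End F VS :=
  (e.conjAlgEquiv F).toAlgHom.comp (cubicDiag F E)

omit [CharP F 3] [Finite E] in
theorem spFieldStd_apply (e : (E × E) ≃ₗ[F] VS) (r : E) (u : E × E) :
    spFieldStd e r (e u) = e (r * u.1, r * u.2) := by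
  show e (cubicDiag F E r (e.symm (e u))) = _
  rw [e.symm_apply_apply, cubicDiag_apply]

/-- a normalised self-adjoint field is conjugate to the standard one -/
theorem conj_mem_spFieldNorm (hE : Module.finrank F E = 3) (e : (E × E) ≃ₗ[F] VS)
    (he : ∀ u v, BS (e u) (e v) = cubicForm F E u v) {g : Matrix.symplecticGroup (Fin 3) F}
    {T : VS ≃ₗ[F] VS} (hT : ∀ v, T v = spAct g v) (H : SixSpace BS T) (hf : HasField E BS T) :
    ∃ x, x * g * x⁻¹ ∈ spFieldNorm (spFieldStd e) := by
  classical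
  haveI : FiniteDimensional F E := Module.finite_of_finrank_pos (by omega)
  have hgood := Forms.sympBilin_goodForm (m := 3) (F := F)
  obtain ⟨φ, hφ, ψ, hψ⟩ := hf
  obtain ⟨x, hx⟩ : ∃ x : VS, x ≠ 0 := ⟨Pi.single (.inl 0) 1, by simp⟩
  have hzero : ∀ r, BS x (φ r x) = 0 := fun r => H.self_adj_zero (hφ r) x
  let τ : E →ₗ[F] VS := (LinearMap.applyₗ x).comp φ.toLinearMap
  have hτinj : Function.Injective τ := by
    rw [← LinearMap.ker_eq_bot, LinearMap.ker_eq_bot']
    intro s hs
    by_contra hs0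
    apply hx
    have : φ (s⁻¹ * s) x = 0 := by
      rw [map_mul, Module.End.mul_apply, show φ s x = 0 from hs, map_zero]
    rwa [inv_mul_cancel₀ hs0, map_one, Module.End.one_apply] at this
  obtain ⟨τl, hτl⟩ := τ.exists_leftInverse_of_injective (LinearMap.ker_eq_bot.2 hτinj)
  obtain ⟨y, hy⟩ := hgood.exists_vec ((Algebra.trace F E).comp τl)
  have hy' : ∀ r, BS x (φ r (-y)) = Algebra.trace F E r := fun r => by
    rw [← hφ, map_neg, H.skew y, hy, neg_neg, LinearMap.comp_apply,
      show τl (φ r x) = r from LinearMap.congr_fun hτl r]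
  set z := -y
  have hzz : ∀ r, BS z (φ r z) = 0 := fun r => H.self_adj_zero (hφ r) z
  let Ψ : (E × E) →ₗ[F] VS := τ.coprod ((LinearMap.applyₗ z).comp φ.toLinearMap)
  have hΨ : ∀ a b, Ψ (a, b) = φ a x + φ b z := fun _ _ => rfl
  have hform : ∀ u v, BS (Ψ u) (Ψ v) = cubicForm F E u v := by
    rintro ⟨a, b⟩ ⟨a', b'⟩
    have e1 : ∀ s t : E, ∀ w : VS, φ s (φ t w) = φ (s * t) w := fun s t w => by rw [map_mul]; rfl
    have h4 : BS z (φ (b * a') x) = -Algebra.trace F E (b * a') := by
      rw [← hφ, H.skew, hy']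
    rw [hΨ, hΨ, cubicForm_apply]
    simp only [map_add, LinearMap.add_apply, hφ, e1, hzero, hzz, hy', h4, map_sub]
    rw [mul_comm b a']
    ring
  have hΨinj : Function.Injective Ψ := by
    rw [← LinearMap.ker_eq_bot, LinearMap.ker_eq_bot']
    intro u hu
    refine e.map_eq_zero_iff.1 (hgood.nondeg _ fun v => ?_)
    obtain ⟨v, rfl⟩ := e.surjective v
    rw [he, ← hform, hu, map_zero, LinearMap.zero_apply]
  let Ψe := LinearEquiv.ofBijective Ψ ⟨hΨinj, (LinearMap.injective_iff_surjective_of_finrank_eq_finrank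
    (by simp [Module.finrank_fintype_fun_eq_card, Module.finrank_prod, hE])).1 hΨinj⟩
  obtain ⟨k, hk⟩ := exists_spElem (Ψe.symm.trans e) (fun u v => by
    obtain ⟨u, rfl⟩ := Ψe.surjective u
    obtain ⟨v, rfl⟩ := Ψe.surjective v
    rw [LinearEquiv.trans_apply, LinearEquiv.trans_apply, Ψe.symm_apply_apply, Ψe.symm_apply_apply, he]
    exact (hform u v).symm)
  have hkφ : ∀ r v, spAct k (φ r v) = spFieldStd e r (spAct k v) := by
    intro r v
    obtain ⟨⟨a, b⟩, rfl⟩ := Ψe.surjective v
    have hm : φ r (Ψe (a, b)) = Ψe (r * a, r * b) := by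
      show φ r (Ψ (a, b)) = Ψ (r * a, r * b)
      rw [hΨ, hΨ, map_add, map_mul, map_mul]; rfl
    rw [hm, hk, hk, LinearEquiv.trans_apply, LinearEquiv.trans_apply, Ψe.symm_apply_apply,
      Ψe.symm_apply_apply, spFieldStd_apply]
  have hki : ∀ v, spAct k (spAct k⁻¹ v) = v := fun v => by
    rw [← LinearMap.comp_apply, ← spAct_mul, mul_inv_cancel, spAct_one, LinearMap.id_apply]
  have hik : ∀ v, spAct k⁻¹ (spAct k v) = v := fun v => by
    rw [← LinearMap.comp_apply, ← spAct_mul, inv_mul_cancel, spAct_one, LinearMap.id_apply]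
  refine ⟨k, ψ, fun r => LinearMap.ext fun v => ?_⟩
  obtain ⟨v, rfl⟩ : ∃ w, spAct k w = v := ⟨_, hki v⟩
  simp only [spAct_mul, LinearMap.comp_apply, ← hkφ, hik, ← hT, hψ]

theorem spFieldNorm_ne_top (hE : Module.finrank F E = 3) (e : (E × E) ≃ₗ[F] VS)
    (he : ∀ u v, BS (e u) (e v) = cubicForm F E u v) : spFieldNorm (spFieldStd e) ≠ ⊤ := by
  intro h
  set x := e (1, 0) with hx
  let τ : Matrix.symplecticGroup (Fin 3) F := Forms.sympTransElem x 1
  obtain ⟨ψ, hψ⟩ := (h ▸ Subgroup.mem_top τ : τ ∈ spFieldNorm (spFieldStd e))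
  have hτ : ∀ z, spAct τ z = z + BS z x • x := fun z => by
    show Cfsg.sympTransvection 3 x 1 *ᵥ z = _
    rw [Forms.sympTransvection_mulVec, Forms.sympBilin_apply, one_mul]
  have hr : ∀ r, spFieldStd e r x = e (r, 0) := fun r => by
    rw [hx, spFieldStd_apply, mul_one, mul_zero]
  have hψid : ∀ r, ψ r = r := fun r => by
    have h1 := LinearMap.congr_fun (hψ r) x
    rw [LinearMap.comp_apply, LinearMap.comp_apply, hτ, hτ, Forms.sympBilin_isAlt.self_eq_zero, zero_smul,
      add_zero, hr, hr, hx, he] at h1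
    simp [cubicForm_apply] at h1
    exact h1.symm
  obtain ⟨r, hr'⟩ : ∃ r : E, r ∉ Set.range (algebraMap F E) := by
    by_contra hc
    push Not at hc
    have hle := LinearMap.finrank_range_le (Algebra.linearMap F E)
    rw [LinearMap.range_eq_top.2 (show Function.Surjective (Algebra.linearMap F E) from hc), finrank_top, hE, Module.finrank_self] at hle
    omega
  obtain ⟨z, hz⟩ : ∃ z, BS z x ≠ 0 := by
    by_contra hc
    push Not at hc
    have := (Forms.sympBilin_goodForm (m := 3) (F := F)).nondeg_right x hc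
    rw [hx, e.map_eq_zero_iff] at this
    exact one_ne_zero (congrArg Prod.fst this)
  have h1 := LinearMap.congr_fun (hψ r) z
  rw [LinearMap.comp_apply, LinearMap.comp_apply, hτ, hτ, hψid, map_add, map_smul, hr,
    add_right_inj] at h1
  have h2 := congrArg e.symm h1
  rw [map_smul, map_smul, e.symm_apply_apply, hx, e.symm_apply_apply, Prod.smul_mk, Prod.smul_mk] at h2
  have h3 := congrArg Prod.fst h2
  apply hr'
  refine ⟨(BS z (e (1, 0)))⁻¹ * BS (spFieldStd e r z) (e (1, 0)), ?_⟩
  rw [Algebra.algebraMap_eq_smul_one, mul_smul]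
  show _ = r
  rw [show BS (spFieldStd e r z) (e (1, 0)) • (1 : E) = BS z (e (1, 0)) • r from h3, smul_smul,
    inv_mul_cancel₀ (show BS z (e (1, 0)) ≠ 0 from hz), one_smul]

end Field

theorem covered_psp_three [CharP F 3] : Covered (Cfsg.PSp 3 F) := by
  classical
  obtain ⟨h, hirr, hdeg⟩ := exists_irreducible_degree (F := F) (d := 3) (by norm_num)
  haveI := Fact.mk hirr
  haveI : Module.Finite F (AdjoinRoot h) := (AdjoinRoot.powerBasis hirr.ne_zero).finite
  haveI : Finite (AdjoinRoot h) := Module.finite_of_finite F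
  have hE : Module.finrank F (AdjoinRoot h) = 3 := by
    rw [(AdjoinRoot.powerBasis hirr.ne_zero).finrank, AdjoinRoot.powerBasis_dim, hdeg]
  obtain ⟨e, he⟩ := exists_cubic_coords hE
  refine covered_quotient (H := spFieldNorm (spFieldStd e))
    (K := spStab (Submodule.span F (Set.range (spPair (F := F) 0)))) ?_ ?_
    (spFieldNorm_ne_top hE e he) spStab_ne_top fun g => ?_
  · intro g hg
    obtain ⟨c, hc⟩ := spAct_center g hg
    refine ⟨RingEquiv.refl _, fun r => LinearMap.ext fun v => ?_⟩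
    rw [LinearMap.comp_apply, LinearMap.comp_apply, hc, hc, map_smul]
    rfl
  · intro g hg
    obtain ⟨c, hc⟩ := spAct_center g hg
    exact spMap_eq g fun x hx => hc x ▸ Submodule.smul_mem _ c hx
  obtain ⟨T, hT, H⟩ := exists_spEquiv g
  have field : HasField (AdjoinRoot h) BS T →
      ∃ x, x * g * x⁻¹ ∈ spFieldNorm (spFieldStd e) ∨
        x * g * x⁻¹ ∈ spStab (Submodule.span F (Set.range (spPair (F := F) 0))) :=
    fun hf => (conj_mem_spFieldNorm hE e he hT H hf).imp fun x hx => Or.inl hx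
  rcases H.classify hE with ⟨x, y, hxy, hx, hy⟩ | hf | ⟨a, ha⟩ | ⟨ε, hε, hp⟩
  · obtain ⟨k, hk⟩ := exists_move_hyp 0 hxy
    have hW : (Submodule.span F ({x, y} : Set VS)).map (spAct g) = Submodule.span F ({x, y} : Set VS) := by
      refine spMap_eq g fun v hv => ?_
      obtain ⟨a, b, rfl⟩ := Submodule.mem_span_pair.1 hv
      rw [map_add, map_smul, map_smul, ← hT, ← hT]
      exact add_mem (Submodule.smul_mem _ a hx) (Submodule.smul_mem _ b hy)
    refine ⟨k, Or.inr ?_⟩
    show Submodule.map (spAct (k * g * k⁻¹)) _ = _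
    rw [← hk, ← Submodule.map_comp, ← spAct_mul, inv_mul_cancel_right, spAct_mul, Submodule.map_comp, hW]
  · exact field hf
  · obtain ⟨T₀, H₀, h₀, hf₀⟩ := exists_cyc_model hE a
    exact field (hasField_of_cyc H H₀ ha h₀ hf₀)
  · obtain ⟨T₀, H₀, h₀, hf₀⟩ := exists_pair_model hE hε
    exact field (hasField_of_pair H H₀ hε hp h₀ hf₀)

end Cfsg.Agent.Lib.CoverTwo
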