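import Mathlib
import Cfsg.Prelude.Def_Classical
import Cfsg.Agent.Lib.CoverTwo.Basic
import Cfsg.Agent.Lib.Classical.Symplectic
import Cfsg.Agent.Lib.Forms.Bridge
import Cfsg.Agent.Lib.Forms.Symplectic
import Cfsg.Agent.Lib.POmegaField.PlusType

/-!
# `Sp_{2m}(q)`, `q` even: every element fixes a quadratic form polarising to the alternating form
-/

set_option autoImplicit false

namespace Cfsg.Agent.Lib.CoverTwo

open Matrix

variable {F : Type*} [Field F] [Fintype F] [CharP F 2] {m : ℕ}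

local notation "VS" => (Fin m ⊕ Fin m → F)

/-- the matrix of an element of the symplectic group -/
def spM : Matrix.symplecticGroup (Fin m) F →* Matrix (Fin m ⊕ Fin m) (Fin m ⊕ Fin m) F where
  toFun x := x.1
  map_one' := rfl
  map_mul' _ _ := rfl

/-- stabiliser of a function on the natural module -/
def quadStab (Q : VS → F) : Subgroup (Matrix.symplecticGroup (Fin m) F) where
  carrier := {g | ∀ x, Q (spM g *ᵥ x) = Q x}
  one_mem' := fun x => by rw [map_one, one_mulVec]
  mul_mem' {a b} ha hb := fun x => by rw [map_mul, ← mulVec_mulVec, ha, hb]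
  inv_mem' {a} ha := fun x => by
    rw [← ha (spM a⁻¹ *ᵥ x), mulVec_mulVec, ← map_mul, mul_inv_cancel, map_one, one_mulVec]

theorem center_le_quadStab (Q : VS → F) :
    Subgroup.center (Matrix.symplecticGroup (Fin m) F) ≤ quadStab Q := by
  intro g hg x
  have h : spM g = 1 := by
    rcases (Classical.center_symplecticGroup m g).1 hg with h | h
    · exact h
    · show g.1 = 1
      rw [h]; ext i j; simp [Matrix.neg_apply, CharTwo.neg_eq]
  rw [h, one_mulVec]

/-- the polar form is the symplectic form -/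
def PolarSymp (Q : QuadraticForm F VS) : Prop :=
  ∀ u v, QuadraticMap.polar Q u v = Cfsg.sympForm m F u v

theorem spM_preserves (g : Matrix.symplecticGroup (Fin m) F) (u v : VS) :
    Cfsg.sympForm m F (spM g *ᵥ u) (spM g *ᵥ v) = Cfsg.sympForm m F u v :=
  Forms.mem_symplecticGroup_iff_preserves.1 g.2 u v

theorem exists_sqrt_two (x : F) : ∃ y : F, y ^ 2 = x := by
  obtain ⟨y, hy⟩ := surjective_frobenius F 2 x
  exact ⟨y, by rw [← hy, frobenius_def]⟩

omit [Fintype F] in
theorem sq_inj_two {a b : F} (h : a ^ 2 = b ^ 2) : a = b := frobenius_inj F 2 h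

theorem exists_fixed_form (g : Matrix.symplecticGroup (Fin m) F) {Q₀ : QuadraticForm F VS}
    (h₀ : PolarSymp Q₀) : ∃ Q : QuadraticForm F VS, PolarSymp Q ∧ g ∈ quadStab ⇑Q := by
  let T : Module.End F VS := Matrix.mulVecLin (spM g) - LinearMap.id
  have hd : ∀ x, ∃ r : F, r ^ 2 = Q₀ (spM g *ᵥ x) + Q₀ x := fun x => exists_sqrt_two _
  choose l hl using hd
  have hadd : ∀ u v, Q₀ (u + v) = Q₀ u + Q₀ v + Cfsg.sympForm m F u v := fun u v => by
    rw [← h₀]; exact QuadraticMap.map_add ⇑Q₀ u v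
  let L : VS →ₗ[F] F :=
    { toFun := l
      map_add' := fun u v => sq_inj_two (by
        rw [add_pow_char, hl, hl, hl, mulVec_add, hadd, hadd, spM_preserves]
        linear_combination (Cfsg.sympForm m F u v) * (CharTwo.two_eq_zero : (2 : F) = 0))
      map_smul' := fun c u => sq_inj_two (by
        rw [RingHom.id_apply, smul_eq_mul, mul_pow, hl, hl, mulVec_smul, QuadraticMap.map_smul,
          QuadraticMap.map_smul, smul_eq_mul, smul_eq_mul]
        ring) }
  have hker : LinearMap.ker T ≤ LinearMap.ker L := by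
    intro x hx
    have hx' : spM g *ᵥ x = x := by simpa [T, sub_eq_zero] using hx
    refine sq_inj_two ?_
    show (l x) ^ 2 = 0 ^ 2
    rw [hl, hx', CharTwo.add_self_eq_zero]
    simp
  have hmem : L ∈ LinearMap.range T.dualMap := by
    rw [LinearMap.range_dualMap_eq_dualAnnihilator_ker, Submodule.mem_dualAnnihilator]
    exact fun x hx => LinearMap.mem_ker.1 (hker hx)
  obtain ⟨φ, hφ⟩ := hmem
  refine ⟨Q₀ + QuadraticMap.linMulLin φ φ, fun u v => ?_, fun x => ?_⟩
  · rw [← h₀]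
    simp only [QuadraticMap.polar, _root_.add_apply, QuadraticMap.linMulLin_apply, map_add]
    linear_combination (φ u * φ v) * (CharTwo.two_eq_zero : (2 : F) = 0)
  · have h1 : φ (spM g *ᵥ x - x) = l x := by
      have := LinearMap.congr_fun hφ x
      simpa [T, L] using this
    rw [map_sub] at h1
    simp only [_root_.add_apply, QuadraticMap.linMulLin_apply]
    have h2 := hl x
    linear_combination (φ (spM g *ᵥ x) - φ x + l x) * h1 + h2 +
      (Q₀ (spM g *ᵥ x) + φ x * (φ (spM g *ᵥ x) - φ x)) * (CharTwo.two_eq_zero : (2 : F) = 0)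

theorem polarBilin_nondeg {Q : QuadraticForm F VS} (hQ : PolarSymp Q) :
    (QuadraticMap.polarBilin Q).Nondegenerate := by
  have e : QuadraticMap.polarBilin Q = Forms.sympBilin m F := by
    refine LinearMap.ext fun u => LinearMap.ext fun v => ?_
    rw [QuadraticMap.polarBilin_apply_apply, Forms.sympBilin_apply, hQ]
  rw [e]
  exact ⟨(Forms.sympBilin_goodForm (m := m) (F := F)).nondeg,
    (Forms.sympBilin_goodForm (m := m) (F := F)).nondeg_right⟩

theorem conj_mem_quadStab {Q Q' : QuadraticForm F VS} (hQ : PolarSymp Q) (hQ' : PolarSymp Q')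
    {g : Matrix.symplecticGroup (Fin m) F} (hg : g ∈ quadStab ⇑Q)
    {k : GL (Fin m ⊕ Fin m) F} (hk : ∀ v, Q ((k : Matrix _ _ F) *ᵥ v) = Q' v) :
    ∃ x, x * g * x⁻¹ ∈ quadStab ⇑Q' := by
  have hk' : (k : Matrix (Fin m ⊕ Fin m) (Fin m ⊕ Fin m) F) ∈ Matrix.symplecticGroup (Fin m) F := by
    rw [Forms.mem_symplecticGroup_iff_preserves]
    intro u v
    rw [← hQ, ← hQ', QuadraticMap.polar, ← mulVec_add, hk, hk, hk]
    rfl
  let y : Matrix.symplecticGroup (Fin m) F := ⟨_, hk'⟩
  refine ⟨y⁻¹, fun v => ?_⟩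
  have hy : ∀ w, Q' w = Q (spM y *ᵥ w) := fun w => (hk w).symm
  rw [inv_inv, hy, hy, map_mul, map_mul]
  simp only [← mulVec_mulVec]
  rw [mulVec_mulVec _ (spM y) (spM y⁻¹), ← map_mul, mul_inv_cancel, map_one, one_mulVec, hg]

theorem quadStab_ne_top (hm : 2 ≤ m) {Q : QuadraticForm F VS} (hQ : PolarSymp Q) : quadStab ⇑Q ≠ ⊤ := by
  intro htop
  obtain ⟨v, hv0, hv1⟩ : ∃ v : VS, v ≠ 0 ∧ Q v ≠ 1 := by
    by_contra hc
    push Not at hc
    let i : Fin m := ⟨0, by omega⟩
    let j : Fin m := ⟨1, by omega⟩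
    let e : Fin m ⊕ Fin m → VS := fun a => Pi.single a 1
    have hb : ∀ u w : VS, u ≠ 0 → w ≠ 0 → u + w ≠ 0 → QuadraticMap.polar Q u w = 1 := by
      intro u w hu hw huw
      rw [QuadraticMap.polar, hc _ hu, hc _ hw, hc _ huw]
      linear_combination -(CharTwo.two_eq_zero : (2 : F) = 0)
    have ne : ∀ (a : Fin m ⊕ Fin m) (u : VS), u a ≠ 0 → u ≠ 0 := fun a u h e => h (by simp [e])
    have hij : (Sum.inl i : Fin m ⊕ Fin m) ≠ Sum.inl j := by simp [i, j, Fin.ext_iff]
    have hir : (Sum.inl i : Fin m ⊕ Fin m) ≠ Sum.inr i := Sum.inl_ne_inr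
    have hjr : (Sum.inl j : Fin m ⊕ Fin m) ≠ Sum.inr i := Sum.inl_ne_inr
    have h1 := hb (e (.inl i)) (e (.inl j)) (ne (.inl i) _ (by simp [e])) (ne (.inl j) _ (by simp [e]))
      (ne (.inl i) _ (by simp [e, hij]))
    have h2 := hb (e (.inl i)) (e (.inr i)) (ne (.inl i) _ (by simp [e])) (ne (.inr i) _ (by simp [e]))
      (ne (.inl i) _ (by simp [e, hir]))
    have h3 := hb (e (.inl i)) (e (.inl j) + e (.inr i)) (ne (.inl i) _ (by simp [e]))
      (ne (.inl j) _ (by simp [e, hjr])) (ne (.inl i) _ (by simp [e, hij, hir]))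
    rw [QuadraticMap.polar_add_right, h1, h2, CharTwo.add_self_eq_zero] at h3
    exact zero_ne_one h3
  have hg : Cfsg.sympTransvection m v (1 : F) ∈ Matrix.symplecticGroup (Fin m) F :=
    Forms.sympTransvection_mem v 1
  obtain ⟨w, hw⟩ : ∃ w, Cfsg.sympForm m F w v ≠ 0 := by
    by_contra hc
    push Not at hc
    exact hv0 ((Forms.sympBilin_goodForm (m := m) (F := F)).nondeg_right v
      fun w => by rw [Forms.sympBilin_apply]; exact hc w)
  have h := (htop ▸ Subgroup.mem_top _ : (⟨_, hg⟩ : Matrix.symplecticGroup (Fin m) F) ∈ quadStab ⇑Q) w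
  rw [show spM (⟨_, hg⟩ : Matrix.symplecticGroup (Fin m) F) = Cfsg.sympTransvection m v (1 : F) from rfl,
    Forms.sympTransvection_mulVec, QuadraticMap.map_add ⇑Q, QuadraticMap.map_smul,
    QuadraticMap.polar_smul_right, hQ, smul_eq_mul, smul_eq_mul] at h
  have : (Cfsg.sympForm m F w v) * (Cfsg.sympForm m F w v) * (Q v + 1) = 0 := by
    linear_combination h
  rcases mul_eq_zero.1 this with e | e
  · exact hw (mul_self_eq_zero.1 e)
  · exact hv1 (by rwa [CharTwo.add_eq_zero] at e)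

theorem covered_psp_even (hm : 2 ≤ m) : Covered (Cfsg.PSp m F) := by
  classical
  let Q₀ : QuadraticForm F VS := Classical.plusForm m F
  have h₀ : PolarSymp Q₀ := fun u v => by
    show QuadraticMap.polar ⇑(Classical.plusForm m F) u v = _
    rw [Classical.coe_plusForm, StdForms.polar_plus, Forms.sympForm_apply]
    simp only [CharTwo.sub_eq_add, ← Finset.sum_add_distrib]
    exact Finset.sum_congr rfl fun i _ => by ring
  obtain ⟨Q₁, h₁, hQ₁⟩ : ∃ Q₁ : QuadraticForm F VS, PolarSymp Q₁ ∧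
      ∀ Q : QuadraticForm F VS, PolarSymp Q → ¬ POmegaField.IsPlusType Q →
        ∃ k : GL (Fin m ⊕ Fin m) F, ∀ v, Q ((k : Matrix _ _ F) *ᵥ v) = Q₁ v := by
    by_cases hex : ∃ Q₁ : QuadraticForm F VS, PolarSymp Q₁ ∧ ¬ POmegaField.IsPlusType Q₁
    · obtain ⟨Q₁, h₁, hn₁⟩ := hex
      refine ⟨Q₁, h₁, fun Q hQ hn => ?_⟩
      obtain ⟨A⟩ := (POmegaField.plus_or_minus (by omega) Q (polarBilin_nondeg hQ)).resolve_left hn
      obtain ⟨B⟩ := (POmegaField.plus_or_minus (by omega) Q₁ (polarBilin_nondeg h₁)).resolve_left hn₁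
      exact A.exists_isometry B
    · push Not at hex
      exact ⟨Q₀, h₀, fun Q hQ hn => absurd (hex Q hQ) hn⟩
  refine covered_quotient (center_le_quadStab ⇑Q₀) (center_le_quadStab ⇑Q₁) (quadStab_ne_top hm h₀)
    (quadStab_ne_top hm h₁) fun g => ?_
  obtain ⟨Q, hQ, hg⟩ := exists_fixed_form g h₀
  by_cases hp : POmegaField.IsPlusType Q
  · obtain ⟨k, hk⟩ := hp
    exact (conj_mem_quadStab hQ h₀ hg hk).imp fun x hx => Or.inl hx
  · obtain ⟨k, hk⟩ := hQ₁ Q hQ hp
    exact (conj_mem_quadStab hQ h₁ hg hk).imp fun x hx => Or.inr hx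

end Cfsg.Agent.Lib.CoverTwo
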