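import Mathlib
import Cfsg.Prelude.Def_Classical
import Cfsg.Agent.Lib.CoverTwo.Basic
import Cfsg.Agent.Lib.Classical.UnitaryCentre
import Cfsg.Agent.Lib.Forms.Bridge

/-!
# Isometries of a Hermitian space over a finite field: invariant subspaces
-/

set_option autoImplicit false

namespace Cfsg.Agent.Lib.CoverTwo

open Matrix Polynomial

variable {F : Type*} [Field F] [Fintype F] {q n : ℕ}

local notation "V" => (Fin n → F)
local notation "B[" hF "]" => Forms.hermSesq hF n

/-- a linear map preserving the Hermitian form -/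
def UPres (hF : Fintype.card F = q ^ 2) (T : V →ₗ[F] V) : Prop :=
  ∀ x y, B[hF] (T x) (T y) = B[hF] x y

variable {hF : Fintype.card F = q ^ 2}

theorem UPres.injective {T : V →ₗ[F] V} (h : UPres hF T) : Function.Injective T :=
  (Forms.hermSesq_goodForm hF).injective_of_preserves h

theorem UPres.one : UPres hF (1 : Module.End F V) := fun _ _ => rfl

theorem UPres.comp {S T : V →ₗ[F] V} (hS : UPres hF S) (hT : UPres hF T) : UPres hF (S ∘ₗ T) :=
  fun x y => (hS _ _).trans (hT x y)

theorem UPres.map_eq {T : V →ₗ[F] V} (h : UPres hF T) {W : Submodule F V} (hW : ∀ x ∈ W, T x ∈ W) :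
    W.map T = W := by
  refine Submodule.eq_of_le_of_finrank_le (by rintro _ ⟨x, hx, rfl⟩; exact hW x hx) ?_
  exact le_of_eq (Submodule.equivMapOfInjective T h.injective W).finrank_eq

theorem UPres.perp_invariant {T : V →ₗ[F] V} (h : UPres hF T) {W : Submodule F V}
    (hW : ∀ x ∈ W, T x ∈ W) : ∀ y ∈ Forms.perp B[hF] W, T y ∈ Forms.perp B[hF] W := by
  intro y hy x hx
  rw [← h.map_eq hW] at hx
  obtain ⟨x, hx, rfl⟩ := hx
  rw [h]; exact hy x hx

theorem aeval_mem_invariant {T : V →ₗ[F] V} {W : Submodule F V} (hW : ∀ x ∈ W, T x ∈ W) (p : F[X]) :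
    ∀ x ∈ W, aeval T p x ∈ W := by
  induction p using Polynomial.induction_on' with
  | add a b ha hb =>
    intro x hx
    rw [map_add]
    exact W.add_mem (ha x hx) (hb x hx)
  | monomial k c =>
    intro x hx
    rw [aeval_monomial, Module.End.mul_apply, Module.algebraMap_end_apply]
    refine W.smul_mem c ?_
    induction k with
    | zero => simpa using hx
    | succ k ih => rw [pow_succ']; exact hW _ ih

theorem ker_invariant (T : V →ₗ[F] V) (p : F[X]) :
    ∀ x ∈ LinearMap.ker (aeval T p), T x ∈ LinearMap.ker (aeval T p) := by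
  intro x hx
  rw [LinearMap.mem_ker] at hx ⊢
  have hcomm : aeval T p * T = T * aeval T p := (commute_aeval T p).eq
  calc aeval T p (T x) = (aeval T p * T) x := rfl
    _ = T (aeval T p x) := by rw [hcomm]; rfl
    _ = 0 := by rw [hx, map_zero]
where
  commute_aeval (T : V →ₗ[F] V) (p : F[X]) : Commute (aeval T p) T := by
    have h := (Commute.all p X).map (aeval T)
    rwa [aeval_X] at h

theorem UPres.adjoint_aeval {T S : V →ₗ[F] V} (h : UPres hF T) (hTS : T * S = 1) (p : F[X]) (x y : V) :
    B[hF] (aeval T p x) y = B[hF] x (aeval S (p.map (Forms.qPowHom hF)) y) := by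
  have step : ∀ u w, B[hF] (T u) w = B[hF] u (S w) := fun u w => by
    conv_lhs => rw [show w = T (S w) from (LinearMap.congr_fun hTS w).symm]
    exact h u (S w)
  induction p using Polynomial.induction_on' generalizing x y with
  | add a b ha hb =>
    simp only [map_add, LinearMap.add_apply, Polynomial.map_add]
    rw [ha, hb]
  | monomial k c =>
    rw [Polynomial.map_monomial, aeval_monomial, aeval_monomial, Module.End.mul_apply,
      Module.End.mul_apply, Module.algebraMap_end_apply, Module.algebraMap_end_apply]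
    simp only [map_smulₛₗ, LinearMap.smul_apply, smul_eq_mul, RingHom.id_apply]
    congr 1
    induction k generalizing x y with
    | zero => simp
    | succ k ih => rw [pow_succ, pow_succ', Module.End.mul_apply, Module.End.mul_apply, ih, step]

/-- an irreducible polynomial of even degree is not conjugate-reciprocal -/
theorem aeval_conj_inv_root_ne_zero (hF : Fintype.card F = q ^ 2) {h : F[X]} [Fact (Irreducible h)]
    (hd : Even h.natDegree) :
    aeval (AdjoinRoot.root h)⁻¹ (h.map (Forms.qPowHom hF)) ≠ 0 := by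
  intro hz
  have hirr : Irreducible h := Fact.out
  haveI : Module.Finite F (AdjoinRoot h) := (AdjoinRoot.powerBasis hirr.ne_zero).finite
  haveI : Finite (AdjoinRoot h) := Module.finite_of_finite F
  obtain ⟨m, hp, hm⟩ := FiniteField.card F (ringChar F)
  haveI := Fact.mk hp
  obtain ⟨f, -, hf⟩ := (Nat.dvd_prime_pow hp).mp
    (show q ∣ ringChar F ^ (m : ℕ) by rw [← hm, hF]; exact dvd_pow_self q (by norm_num))
  haveI : CharP (AdjoinRoot h) (ringChar F) :=
    charP_of_injective_algebraMap (algebraMap F (AdjoinRoot h)).injective (ringChar F)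
  haveI : ExpChar (AdjoinRoot h) (ringChar F) := ExpChar.prime hp
  let s : AdjoinRoot h →+* AdjoinRoot h := iterateFrobenius (AdjoinRoot h) (ringChar F) f
  have hs : ∀ x, s x = x ^ q := fun x => by rw [hf]; exact iterateFrobenius_def _ _ x
  set r := AdjoinRoot.root h
  have hr : aeval ((r⁻¹) ^ q) h = 0 := by
    have h1 := congrArg s hz
    rw [map_zero, aeval_def, eval₂_map, hom_eval₂, hs] at h1
    have e : s.comp ((algebraMap F (AdjoinRoot h)).comp (Forms.qPowHom hF)) =
        algebraMap F (AdjoinRoot h) := RingHom.ext fun a => by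
      rw [RingHom.comp_apply, RingHom.comp_apply, hs, ← map_pow, Forms.qPowHom_apply,
        Forms.pow_q_pow_q hF]
    rw [e] at h1
    rw [aeval_def]
    exact h1
  let φ : AdjoinRoot h →ₐ[F] AdjoinRoot h :=
    Ideal.Quotient.liftₐ (Ideal.span {h}) (aeval ((r⁻¹) ^ q)) fun a ha => by
      obtain ⟨c, rfl⟩ := Ideal.mem_span_singleton'.1 ha
      rw [map_mul, hr, mul_zero]
  have hφ : φ r = (r⁻¹) ^ q := aeval_X _
  have hφ2 : φ * φ = FiniteField.frobeniusAlgHom F (AdjoinRoot h) := by
    refine AdjoinRoot.algHom_ext ?_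
    rw [AlgHom.mul_apply, hφ, map_pow, map_inv₀, hφ, FiniteField.coe_frobeniusAlgHom]
    show (((r⁻¹) ^ q)⁻¹) ^ q = r ^ Fintype.card F
    simp only [inv_pow, inv_inv, ← pow_mul, hF, sq]
  obtain ⟨i, hi⟩ := (FiniteField.bijective_frobeniusAlgHom_pow F (AdjoinRoot h)).2 φ
  dsimp only at hi
  rw [← hi, ← pow_add] at hφ2
  nth_rewrite 2 [← pow_one (FiniteField.frobeniusAlgHom F (AdjoinRoot h))] at hφ2
  have hfo : IsOfFinOrder (FiniteField.frobeniusAlgHom F (AdjoinRoot h)) :=
    orderOf_pos_iff.1 (FiniteField.orderOf_frobeniusAlgHom F (AdjoinRoot h) ▸ Module.finrank_pos)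
  have h2 := hfo.pow_eq_pow_iff_modEq.1 hφ2
  rw [FiniteField.orderOf_frobeniusAlgHom] at h2
  have hd2 : 2 ∣ Module.finrank F (AdjoinRoot h) := by
    rw [(AdjoinRoot.powerBasis hirr.ne_zero).finrank, AdjoinRoot.powerBasis_dim]
    exact hd.two_dvd
  have h3 := Nat.ModEq.of_dvd hd2 h2
  unfold Nat.ModEq at h3
  omega

/-- the kernel of an irreducible polynomial of even degree in an isometry is totally isotropic -/
theorem UPres.ker_isotropic {T : V →ₗ[F] V} (hT : UPres hF T) {h : F[X]} (hirr : Irreducible h)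
    (hd : Even h.natDegree) {x y : V} (hx : aeval T h x = 0) (hy : aeval T h y = 0) :
    B[hF] x y = 0 := by
  haveI := Fact.mk hirr
  obtain ⟨e, he, -⟩ := (Forms.hermSesq_goodForm hF).exists_equiv_of_preserves T hT
  have hTe : T = e.toLinearMap := LinearMap.ext fun v => (he v).symm
  let S : Module.End F V := e.symm.toLinearMap
  have hTS : T * S = 1 := LinearMap.ext fun v => by simp [S, hTe, Module.End.mul_apply]
  have hST : S * T = 1 := LinearMap.ext fun v => by simp [S, hTe, Module.End.mul_apply]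
  set p := h.map (Forms.qPowHom hF)
  have hne := aeval_conj_inv_root_ne_zero hF (h := h) hd
  obtain ⟨u, hu⟩ := AdjoinRoot.mk_surjective (g := h) (AdjoinRoot.root h)⁻¹
  have hroot : AdjoinRoot.root h ≠ 0 := by
    intro e0
    have h0 : h ∣ X := AdjoinRoot.mk_eq_zero.1 (by rw [AdjoinRoot.mk_X, e0])
    have h1 := natDegree_le_of_dvd h0 X_ne_zero
    rw [natDegree_X] at h1
    obtain ⟨k, hk⟩ := hd
    have h2 := hirr.natDegree_pos
    omega
  have hXu : h ∣ X * u - 1 := by
    rw [← AdjoinRoot.mk_eq_zero, map_sub, map_mul, map_one, AdjoinRoot.mk_X, hu, mul_inv_cancel₀ hroot,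
      sub_self]
  have hcop : IsCoprime h (p.comp u) := by
    refine (hirr.coprime_iff_not_dvd).2 fun hdvd => hne ?_
    rw [← hu, ← AdjoinRoot.aeval_eq, ← aeval_comp, AdjoinRoot.aeval_eq]
    exact AdjoinRoot.mk_eq_zero.2 hdvd
  obtain ⟨a, b, hab⟩ := hcop
  -- on the kernel, `S` agrees with `u(T)`
  have hSu : ∀ z, aeval T h z = 0 → S z = aeval T u z := by
    intro z hz
    obtain ⟨c, hc⟩ := hXu
    have h1 : aeval T (X * u - 1) z = 0 := by
      rw [hc, mul_comm, map_mul, Module.End.mul_apply, hz, map_zero]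
    rw [map_sub, map_mul, aeval_X, map_one, LinearMap.sub_apply, sub_eq_zero, Module.End.mul_apply,
      Module.End.one_apply] at h1
    calc S z = (S * T) (aeval T u z) := by rw [Module.End.mul_apply, h1]
      _ = aeval T u z := by rw [hST]; rfl
  have hker : ∀ (w : F[X]) z, aeval T h z = 0 → aeval T h (aeval T w z) = 0 := fun w z hz => by
    rw [← Module.End.mul_apply, ← map_mul, mul_comm, map_mul, Module.End.mul_apply, hz, map_zero]
  have hpow : ∀ (k : ℕ) z, aeval T h z = 0 → (S ^ k) z = aeval T (u ^ k) z := by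
    intro k
    induction k with
    | zero => simp
    | succ k ih =>
      intro z hz
      rw [pow_succ, Module.End.mul_apply, hSu z hz, ih _ (hker u z hz), ← Module.End.mul_apply,
        ← map_mul, ← pow_succ]
  have hp : ∀ (P : F[X]) z, aeval T h z = 0 → aeval S P z = aeval T (P.comp u) z := by
    intro P
    induction P using Polynomial.induction_on' with
    | add a b ha hb => intro z hz; simp only [map_add, LinearMap.add_apply, add_comp, ha z hz, hb z hz]
    | monomial k c =>
      intro z hz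
      rw [monomial_comp, aeval_monomial, map_mul, aeval_C, Module.End.mul_apply, Module.End.mul_apply,
        hpow k z hz]
  have hy' : y = aeval S p (aeval T b y) := by
    rw [hp p _ (hker b y hy), ← Module.End.mul_apply, ← map_mul]
    have h1 := LinearMap.congr_fun (congrArg (aeval T) hab) y
    rw [map_add, map_one, LinearMap.add_apply, map_mul, Module.End.mul_apply, hy, map_zero, zero_add,
      Module.End.one_apply] at h1
    rw [mul_comm]
    exact h1.symm
  rw [hy', ← hT.adjoint_aeval hTS, hx, map_zero, LinearMap.zero_apply]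

/-- an irreducible factor of the characteristic polynomial has a non-zero kernel -/
theorem exists_ker_of_dvd_charpoly (T : V →ₗ[F] V) {h : F[X]} (hirr : Irreducible h)
    (hdvd : h ∣ (LinearMap.toMatrix' T).charpoly) : ∃ x ≠ 0, aeval T h x = 0 := by
  haveI := Fact.mk hirr
  by_contra hc
  push Not at hc
  set M := LinearMap.toMatrix' T with hM
  have hinj : Function.Injective (aeval T h) := by
    rw [← LinearMap.ker_eq_bot, LinearMap.ker_eq_bot']
    intro x hx
    by_contra hx0
    exact hc x hx0 hx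
  have hdet : (aeval M h).det ≠ 0 := by
    intro h0
    obtain ⟨x, hx0, hx⟩ := Matrix.exists_mulVec_eq_zero_iff.2 h0
    refine hx0 (hinj ?_)
    rw [map_zero, ← hx, ← Matrix.toLin'_apply]
    congr 1
    have := aeval_algHom_apply (Matrix.toLinAlgEquiv' (R := F) (n := Fin n)).toAlgHom M h
    rw [show (Matrix.toLinAlgEquiv' (R := F) (n := Fin n)).toAlgHom M = T from
      Matrix.toLin'_toMatrix' T] at this
    exact this
  let f : Matrix (Fin n) (Fin n) F →ₐ[F] Matrix (Fin n) (Fin n) (AdjoinRoot h) :=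
    (Algebra.ofId F (AdjoinRoot h)).mapMatrix
  have hroot : (f M).charpoly.IsRoot (AdjoinRoot.root h) := by
    show (M.map (algebraMap F (AdjoinRoot h))).charpoly.IsRoot _
    rw [Matrix.charpoly_map, IsRoot, eval_map, ← aeval_def, AdjoinRoot.aeval_eq]
    exact AdjoinRoot.mk_eq_zero.2 hdvd
  rw [← Matrix.mem_spectrum_iff_isRoot_charpoly] at hroot
  obtain ⟨x, hx⟩ := (Module.End.hasEigenvalue_iff_mem_spectrum.2
    (show AdjoinRoot.root h ∈ spectrum (AdjoinRoot h) (Matrix.toLin' (f M)) by
      rw [Matrix.spectrum_toLin']; exact hroot)).exists_hasEigenvector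
  have h1 := Module.End.aeval_apply_of_hasEigenvector (p := h.map (algebraMap F (AdjoinRoot h))) hx
  rw [eval_map, ← aeval_def, AdjoinRoot.aeval_eq, AdjoinRoot.mk_self, zero_smul] at h1
  have e : aeval (Matrix.toLin' (f M)) (h.map (algebraMap F (AdjoinRoot h))) =
      Matrix.toLin' (f (aeval M h)) := by
    rw [show Matrix.toLin' (f M) = (Matrix.toLinAlgEquiv' (R := AdjoinRoot h) (n := Fin n)).toAlgHom (f M)
      from rfl, aeval_algHom_apply, aeval_map_algebraMap, aeval_algHom_apply]
    rfl
  rw [e, Matrix.toLin'_apply] at h1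
  have hdet' : (f (aeval M h)).det = 0 := Matrix.exists_mulVec_eq_zero_iff.1 ⟨x, hx.2, h1⟩
  apply hdet
  rw [show (f (aeval M h)) = (aeval M h).map (algebraMap F (AdjoinRoot h)) from rfl,
    ← RingHom.mapMatrix_apply, ← RingHom.map_det] at hdet'
  exact (map_eq_zero _).1 hdet'

/-- peeling linear factors: a vector that is an eigenvector modulo a line -/
theorem exists_eig_mod (T : V →ₗ[F] V) {L P : Submodule F V} (hP : ∀ x ∈ P, T x ∈ P) {w₀ : V}
    (hw₀ : w₀ ∈ P) (hw₀' : w₀ ∉ L) (p : F[X]) (hp : p ≠ 0)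
    (hlin : ∀ h, Irreducible h → h ∣ p → h.natDegree = 1) (hz : aeval T p w₀ ∈ L) :
    ∃ (w : V) (α : F), w ∈ P ∧ w ∉ L ∧ T w - α • w ∈ L := by
  induction p using UniqueFactorizationMonoid.induction_on_prime with
  | h₁ => exact absurd rfl hp
  | h₂ u hu =>
    obtain ⟨c, hc, rfl⟩ := Polynomial.isUnit_iff.1 hu
    rw [aeval_C, Module.algebraMap_end_apply] at hz
    exact absurd (by simpa [smul_smul, hc.ne_zero] using L.smul_mem c⁻¹ hz) hw₀'
  | h₃ p a hp0 ha ih =>
    by_cases h : aeval T p w₀ ∈ L
    · exact ih hp0 (fun k hk hkd => hlin k hk (hkd.mul_left a)) h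
    · obtain ⟨c, d, hc, hcd⟩ : ∃ c d : F, c ≠ 0 ∧ a = C c * (X - C d) := by
        have h1 := hlin a ha.irreducible (dvd_mul_right a p)
        obtain ⟨c, e, hc, rfl⟩ := exists_eq_C_mul_X_add_C h1
        exact ⟨c, -e / c, hc, by rw [mul_sub, ← C_mul, mul_div_cancel₀ _ hc, map_neg, sub_neg_eq_add]⟩
      refine ⟨aeval T p w₀, d, aeval_mem_invariant hP p w₀ hw₀, h, ?_⟩
      rw [map_mul, Module.End.mul_apply, hcd, map_mul, aeval_C, map_sub, aeval_X, aeval_C,
        Module.End.mul_apply, Module.algebraMap_end_apply, LinearMap.sub_apply,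
        Module.algebraMap_end_apply] at hz
      simpa [smul_smul, hc] using L.smul_mem c⁻¹ hz
where
  exists_eq_C_mul_X_add_C {a : F[X]} (h : a.natDegree = 1) : ∃ c e : F, c ≠ 0 ∧ a = C c * X + C e :=
    ⟨a.coeff 1, a.coeff 0, by
      rw [← h]
      exact leadingCoeff_ne_zero.2 (fun e => by rw [e, natDegree_zero] at h; exact zero_ne_one h),
      eq_X_add_C_of_natDegree_le_one h.le⟩

end Cfsg.Agent.Lib.CoverTwo
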