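import Mathlib
import Cfsg.Agent.Lib.CoverTwo.UnitGeom
import Cfsg.Agent.S0754

/-!
# Stabilisers of subspaces in `SU_n(q)`
-/

set_option autoImplicit false

namespace Cfsg.Agent.Lib.CoverTwo

open Matrix Polynomial

variable {F : Type*} [Field F] [Fintype F] {q n : ℕ} {hF : Fintype.card F = q ^ 2}

local notation "V" => (Fin n → F)
local notation "B[" hF "]" => Forms.hermSesq hF n

theorem exists_norm_eq (hF : Fintype.card F = q ^ 2) {μ : F} (hμ : μ ≠ 0) (hμq : μ ^ q = μ) :
    ∃ c : F, c ≠ 0 ∧ c ^ (q + 1) = μ := by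
  have h := S0754.result hF μ hμ hμq
  obtain ⟨⟨c, hc⟩⟩ : Nonempty {x : F // x ^ (q + 1) = μ} := (Nat.card_ne_zero.1 (by omega)).1
  exact ⟨c, fun e => hμ (by rw [← hc, e, zero_pow (by omega)]), hc⟩

theorem herm_self_fixed (hF : Fintype.card F = q ^ 2) (x : V) : (B[hF] x x) ^ q = B[hF] x x := by
  conv_rhs => rw [(Forms.hermSesq_goodForm hF).herm x x]
  simp

theorem herm_smul_smul (hF : Fintype.card F = q ^ 2) (c : F) (x : V) :
    B[hF] (c • x) (c • x) = c ^ (q + 1) * B[hF] x x := by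
  rw [LinearMap.map_smulₛₗ₂, map_smul, smul_eq_mul, smul_eq_mul, Forms.qPowHom_apply, pow_succ]
  ring

theorem herm_add_add (hF : Fintype.card F = q ^ 2) {x y : V} (h : B[hF] x y = 0) :
    B[hF] (x + y) (x + y) = B[hF] x x + B[hF] y y := by
  have h' : B[hF] y x = 0 := (Forms.hermSesq_goodForm hF).eq_zero_symm h
  simp only [map_add, LinearMap.add_apply, h, h']
  ring

/-- the natural action of `SU` -/
def suAct (g : Cfsg.SU n F q) : V →ₗ[F] V :=
  Matrix.mulVecLin (g.1 : Matrix (Fin n) (Fin n) F)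

omit [Fintype F] in
theorem suAct_one : suAct (1 : Cfsg.SU n F q) = LinearMap.id := by
  simp [suAct]

omit [Fintype F] in
theorem suAct_mul (a b : Cfsg.SU n F q) : suAct (a * b) = suAct a ∘ₗ suAct b := by
  simp [suAct, Matrix.mulVecLin_mul]

theorem suAct_pres (hF : Fintype.card F = q ^ 2) (g : Cfsg.SU n F q) : UPres hF (suAct g) :=
  fun x y => g.2 y x

/-- the stabiliser of a subspace -/
def suStab (W : Submodule F V) : Subgroup (Cfsg.SU n F q) where
  carrier := {g | W.map (suAct g) = W}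
  one_mem' := by simp [suAct_one]
  mul_mem' {a b} ha hb := by
    show W.map (suAct (a * b)) = W
    rw [suAct_mul, Submodule.map_comp, show W.map (suAct b) = W from hb, show W.map (suAct a) = W from ha]
  inv_mem' {a} ha := by
    show W.map (suAct a⁻¹) = W
    conv_lhs => rw [← (show W.map (suAct a) = W from ha)]
    rw [← Submodule.map_comp, ← suAct_mul, inv_mul_cancel, suAct_one, Submodule.map_id]

omit [Fintype F] in
theorem mem_suStab {W : Submodule F V} {g : Cfsg.SU n F q} : g ∈ suStab W ↔ W.map (suAct g) = W := Iff.rfl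

theorem center_le_suStab (hF : Fintype.card F = q ^ 2) (i0 : Fin n) (W : Submodule F V) :
    Subgroup.center (Cfsg.SU n F q) ≤ suStab W := by
  intro g hg
  have h := Classical.center_SU_scalar hF g hg i0
  refine (suAct_pres hF g).map_eq fun x hx => ?_
  have e : suAct g x = (g.1.1 i0 i0) • x := by
    show g.1.1 *ᵥ x = _
    funext i
    conv_lhs => rw [h]
    rw [Matrix.mulVec_diagonal]
    rfl
  rw [e]
  exact W.smul_mem _ hx

omit [Fintype F] in
theorem conj_mem_suStab {W W₀ : Submodule F V} {g k : Cfsg.SU n F q} (hg : W.map (suAct g) = W)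
    (hk : W.map (suAct k) = W₀) : k * g * k⁻¹ ∈ suStab W₀ := by
  rw [mem_suStab, ← hk, ← Submodule.map_comp, ← suAct_mul, inv_mul_cancel_right, suAct_mul,
    Submodule.map_comp, hg]

theorem suStab_ne_top (hF : Fintype.card F = q ^ 2) {W W₀ : Submodule F V} (hne : W ≠ W₀)
    (hk : ∃ k : Cfsg.SU n F q, W.map (suAct k) = W₀) : suStab (q := q) W₀ ≠ ⊤ := by
  intro h
  obtain ⟨k, hk⟩ := hk
  have hmem : k ∈ suStab W₀ := h ▸ Subgroup.mem_top k
  have h1 : W₀.map (suAct k) = W₀ := hmem
  exact hne (Submodule.map_injective_of_injective (suAct_pres hF k).injective (hk.trans h1.symm))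

theorem UPres.det_norm {T : V →ₗ[F] V} (hT : UPres hF T) : LinearMap.det T ^ (q + 1) = 1 := by
  have hd : (LinearMap.toMatrix' T).det ≠ 0 := by
    intro h0
    obtain ⟨x, hx0, hx⟩ := Matrix.exists_mulVec_eq_zero_iff.2 h0
    rw [LinearMap.toMatrix'_mulVec] at hx
    exact hx0 (hT.injective (hx.trans (map_zero T).symm))
  let g : Cfsg.GU n F q := ⟨Matrix.GeneralLinearGroup.mkOfDetNeZero _ hd, fun u v => by
    show Cfsg.hermForm n F q (LinearMap.toMatrix' T *ᵥ u) (LinearMap.toMatrix' T *ᵥ v) = _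
    rw [LinearMap.toMatrix'_mulVec, LinearMap.toMatrix'_mulVec]
    exact hT v u⟩
  have := Classical.det_norm_one hF g
  rw [← LinearMap.det_toMatrix']
  exact this

/-- the subspace stabiliser is met by every determinant -/
def DetFix (hF : Fintype.card F = q ^ 2) (W₀ : Submodule F V) : Prop :=
  ∀ x : F, x ^ (q + 1) = 1 → ∃ D : V →ₗ[F] V, UPres hF D ∧ LinearMap.det D = x ∧ W₀.map D = W₀

theorem exists_su_move {W W₀ : Submodule F V} (hW₀ : DetFix hF W₀) {T : V →ₗ[F] V} (hT : UPres hF T)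
    (hmap : W.map T = W₀) : ∃ k : Cfsg.SU n F q, W.map (suAct k) = W₀ := by
  have hx := hT.det_norm
  have hx0 : LinearMap.det T ≠ 0 := fun e => by
    rw [e, zero_pow (by omega)] at hx; exact zero_ne_one hx
  obtain ⟨D, hD, hdet, hDW⟩ := hW₀ (LinearMap.det T)⁻¹ (by rw [inv_pow, hx, inv_one])
  have hdet' : (LinearMap.toMatrix' (D ∘ₗ T)).det = 1 := by
    rw [LinearMap.det_toMatrix', LinearMap.det_comp, hdet, inv_mul_cancel₀ hx0]
  refine ⟨Classical.suMk _ hdet' fun u v => ?_, ?_⟩
  · rw [LinearMap.toMatrix'_mulVec, LinearMap.toMatrix'_mulVec]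
    exact (hD.comp hT) v u
  · have e : suAct (Classical.suMk (q := q) _ hdet' (fun u v => by
        rw [LinearMap.toMatrix'_mulVec, LinearMap.toMatrix'_mulVec]
        exact (hD.comp hT) v u)) = D ∘ₗ T :=
      LinearMap.ext fun v => LinearMap.toMatrix'_mulVec (D ∘ₗ T) v
    rw [e, Submodule.map_comp, hmap, hDW]

/-- the coordinate point -/
def pointStd (n : ℕ) (F : Type*) [Field F] : Submodule F (Fin (n + 1) → F) := F ∙ Pi.single 0 1

theorem detFix_point (hF : Fintype.card F = q ^ 2) : DetFix hF (pointStd n F) := by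
  intro x hx
  classical
  let d : Fin (n + 1) → F := fun i => if i = 0 then x else 1
  have hd : ∀ i, d i ^ (q + 1) = 1 := fun i => by simp only [d]; split_ifs <;> simp [hx]
  have hp : UPres hF (Matrix.mulVecLin (Matrix.diagonal d)) :=
    fun u v => Classical.diagonal_mem_GU hF d hd v u
  refine ⟨_, hp, ?_, hp.map_eq fun v hv => ?_⟩
  · rw [← Matrix.toLin'_apply', LinearMap.det_toLin', Matrix.det_diagonal,
      Finset.prod_ite_eq' Finset.univ (0 : Fin (n + 1)) (fun _ => x)]
    simp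
  · obtain ⟨c, rfl⟩ := Submodule.mem_span_singleton.1 hv
    refine Submodule.mem_span_singleton.2 ⟨c * x, ?_⟩
    funext i
    by_cases hi : i = 0 <;> simp [hi, d, Matrix.mulVec_diagonal, mul_comm]

theorem exists_move_point (hF : Fintype.card F = q ^ 2) {v : Fin (n + 1) → F}
    (hv : Forms.hermSesq hF (n + 1) v v ≠ 0) :
    ∃ k : Cfsg.SU (n + 1) F q, (F ∙ v).map (suAct k) = pointStd n F := by
  have hq := Forms.two_le_of_card_sq hF
  set e₀ : Fin (n + 1) → F := Pi.single 0 1 with he₀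
  have he : Forms.hermSesq hF (n + 1) e₀ e₀ = 1 := by
    rw [Forms.hermSesq_apply, Cfsg.hermForm, Finset.sum_eq_single 0]
    · simp [he₀]
    · intro j _ hj; simp [he₀, Pi.single_eq_of_ne hj]
    · simp
  obtain ⟨c, hc, hcn⟩ := exists_norm_eq hF (inv_ne_zero hv) (by rw [inv_pow, herm_self_fixed])
  have hcv : Forms.hermSesq hF (n + 1) (c • v) (c • v) = 1 := by
    rw [herm_smul_smul, hcn, inv_mul_cancel₀ hv]
  obtain ⟨g, hg, hgv⟩ := (Forms.hermSesq_goodForm hF).witt_family (fun _ : Fin 1 => c • v)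
    (fun _ : Fin 1 => e₀) (LinearIndependent.of_subsingleton 0 (fun e => by simp [e] at hcv))
    (LinearIndependent.of_subsingleton 0 (fun e => by simp [e] at he)) (fun _ _ => hcv.trans he.symm)
  refine exists_su_move (detFix_point hF) (T := g.toLinearMap) hg ?_
  rw [← Submodule.span_singleton_smul_eq (IsUnit.mk0 c hc) v, Submodule.map_span, Set.image_singleton]
  exact congrArg (fun z => F ∙ z) (hgv 0)

theorem point_ne_top (hF : Fintype.card F = q ^ 2) (hn : 1 ≤ n) : suStab (q := q) (pointStd n F) ≠ ⊤ := by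
  let i : Fin (n + 1) := ⟨1, by omega⟩
  refine suStab_ne_top hF (W := F ∙ Pi.single i 1) ?_ (exists_move_point hF ?_)
  · intro h
    have h1 : (Pi.single i 1 : Fin (n + 1) → F) ∈ pointStd n F := h ▸ Submodule.mem_span_singleton_self _
    obtain ⟨c, hc⟩ := Submodule.mem_span_singleton.1 h1
    have h2 := congrFun hc i
    simp [i, Fin.ext_iff] at h2
  · have hq := Forms.two_le_of_card_sq hF
    rw [Forms.hermSesq_apply, Cfsg.hermForm, Finset.sum_eq_single i]
    · simp
    · intro j _ hj; simp [Pi.single_eq_of_ne hj]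
    · simp

end Cfsg.Agent.Lib.CoverTwo
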