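import Mathlib
import Cfsg.Agent.Lib.CoverTwo.UnitStab
import Cfsg.Agent.Lib.Forms.Unitary

/-!
# `PSU₄(q)`: every element fixes a non-degenerate point or a totally isotropic plane
-/

set_option autoImplicit false

namespace Cfsg.Agent.Lib.CoverTwo

open Matrix Polynomial

variable {F : Type*} [Field F] [Fintype F] {q n : ℕ} {hF : Fintype.card F = q ^ 2}

local notation "V" => (Fin n → F)
local notation "B[" hF "]" => Forms.hermSesq hF n

/-- an invariant totally isotropic plane -/
def HasPlane (hF : Fintype.card F = q ^ 2) (T : V →ₗ[F] V) : Prop :=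
  ∃ W : Submodule F V, Module.finrank F W = 2 ∧ (∀ x ∈ W, ∀ y ∈ W, B[hF] x y = 0) ∧ W.map T = W

/-- an invariant non-degenerate point -/
def HasPoint (hF : Fintype.card F = q ^ 2) (T : V →ₗ[F] V) : Prop :=
  ∃ v : V, B[hF] v v ≠ 0 ∧ (F ∙ v).map T = F ∙ v

theorem hasPoint_of_eig {T : V →ₗ[F] V} (hT : UPres hF T) {v : V} {a : F} (hv : B[hF] v v ≠ 0)
    (he : T v = a • v) : HasPoint hF T :=
  ⟨v, hv, hT.map_eq fun x hx => by
    obtain ⟨c, rfl⟩ := Submodule.mem_span_singleton.1 hx
    rw [map_smul, he]
    exact Submodule.smul_mem _ c (Submodule.smul_mem _ a (Submodule.mem_span_singleton_self v))⟩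

theorem hasPlane_of_pair {T : V →ₗ[F] V} (hT : UPres hF T) {v w : V} (hv0 : v ≠ 0) (hw : w ∉ F ∙ v)
    (hvv : B[hF] v v = 0) (hvw : B[hF] v w = 0) (hww : B[hF] w w = 0) {a b c : F}
    (h1 : T v = a • v) (h2 : T w = b • w + c • v) : HasPlane hF T := by
  have hwv : B[hF] w v = 0 := (Forms.hermSesq_goodForm hF).eq_zero_symm hvw
  have hli : LinearIndependent F ![v, w] := by
    rw [LinearIndependent.pair_iff' hv0]
    exact fun t e => hw (e ▸ Submodule.smul_mem _ t (Submodule.mem_span_singleton_self v))
  refine ⟨Submodule.span F (Set.range ![v, w]), (finrank_span_eq_card hli).trans (by simp), ?_, ?_⟩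
  · intro x hx y hy
    obtain ⟨cx, rfl⟩ := (Submodule.mem_span_range_iff_exists_fun F).1 hx
    obtain ⟨cy, rfl⟩ := (Submodule.mem_span_range_iff_exists_fun F).1 hy
    simp [-Forms.hermSesq_apply, Fin.sum_univ_two, map_smulₛₗ, hvv, hvw, hwv, hww]
  · refine hT.map_eq fun x hx => ?_
    obtain ⟨cx, rfl⟩ := (Submodule.mem_span_range_iff_exists_fun F).1 hx
    refine (Submodule.mem_span_range_iff_exists_fun F).2 ⟨![cx 0 * a + cx 1 * c, cx 1 * b], ?_⟩
    simp [Fin.sum_univ_two, map_add, map_smul, h1, h2]
    module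

theorem finrank_isotropic_le {W : Submodule F V} (hW : ∀ x ∈ W, ∀ y ∈ W, B[hF] x y = 0) :
    2 * Module.finrank F W ≤ n := by
  have h1 := Submodule.finrank_mono (show W ≤ Forms.perp B[hF] W from fun x hx y hy => hW y hy x hx)
  have h2 := (Forms.hermSesq_goodForm hF).finrank_add_finrank_perp W
  rw [Module.finrank_fin_fun] at h2
  omega

theorem natDegree_le_finrank_ker (T : V →ₗ[F] V) {h : F[X]} (hirr : Irreducible h) {x : V} (hx0 : x ≠ 0)
    (hx : aeval T h x = 0) : h.natDegree ≤ Module.finrank F (LinearMap.ker (aeval T h)) := by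
  classical
  let f : (Fin h.natDegree → F) →ₗ[F] LinearMap.ker (aeval T h) :=
    LinearMap.codRestrict _ (((LinearMap.applyₗ x).comp (aeval T).toLinearMap).comp
      ((Polynomial.degreeLT F h.natDegree).subtype.comp (Polynomial.degreeLTEquiv F h.natDegree).symm.toLinearMap))
      (fun c => by
        rw [LinearMap.mem_ker]
        show aeval T h (aeval T _ x) = 0
        rw [← Module.End.mul_apply, ← map_mul, mul_comm, map_mul, Module.End.mul_apply, hx, map_zero])
  have hinj : Function.Injective f := by
    rw [← LinearMap.ker_eq_bot, LinearMap.ker_eq_bot']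
    intro c hc
    obtain ⟨g, hg⟩ : ∃ g : Polynomial.degreeLT F h.natDegree,
        (Polynomial.degreeLTEquiv F h.natDegree).symm c = g := ⟨_, rfl⟩
    have hgx : aeval T (g : F[X]) x = 0 := by
      have := congrArg Subtype.val hc
      rw [← hg]
      exact this
    by_contra hc0
    have hg0 : (g : F[X]) ≠ 0 := fun e => hc0 ((Polynomial.degreeLTEquiv F h.natDegree).symm.injective
      (by rw [hg, map_zero]; exact Subtype.ext e))
    have hdeg : (g : F[X]).natDegree < h.natDegree :=
      (natDegree_lt_iff_degree_lt hg0).2 (Polynomial.mem_degreeLT.1 g.2)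
    obtain ⟨a, b, hab⟩ := hirr.coprime_iff_not_dvd.2
      (fun hd => absurd (natDegree_le_of_dvd hd hg0) (by omega) : ¬ h ∣ (g : F[X]))
    have h1 := LinearMap.congr_fun (congrArg (aeval T) hab) x
    rw [map_add, map_one, LinearMap.add_apply, map_mul, Module.End.mul_apply, hx, map_zero, zero_add,
      map_mul, Module.End.mul_apply, hgx, map_zero, Module.End.one_apply] at h1
    exact hx0 h1.symm
  simpa using LinearMap.finrank_le_finrank_of_injective hinj

theorem aeval_charpoly_toMatrix (T : V →ₗ[F] V) : aeval T (LinearMap.toMatrix' T).charpoly = 0 := by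
  have h := aeval_algHom_apply (Matrix.toLinAlgEquiv' (R := F) (n := Fin n)).toAlgHom
    (LinearMap.toMatrix' T) (LinearMap.toMatrix' T).charpoly
  rw [Matrix.aeval_self_charpoly, map_zero,
    show (Matrix.toLinAlgEquiv' (R := F) (n := Fin n)).toAlgHom (LinearMap.toMatrix' T) = T from
      Matrix.toLin'_toMatrix' T] at h
  exact h

theorem exists_eigvec_of_dvd (T : V →ₗ[F] V) {h : F[X]} (hirr : Irreducible h) (hd : h.natDegree = 1)
    (hdvd : h ∣ (LinearMap.toMatrix' T).charpoly) :
    ∃ (x : V) (a : F), x ≠ 0 ∧ T x = a • x := by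
  obtain ⟨x, hx0, hx⟩ := exists_ker_of_dvd_charpoly T hirr hdvd
  obtain ⟨c, e, hc, rfl⟩ := exists_eig_mod.exists_eq_C_mul_X_add_C hd
  rw [map_add, map_mul, aeval_C, aeval_X, aeval_C, LinearMap.add_apply, Module.End.mul_apply,
    Module.algebraMap_end_apply, Module.algebraMap_end_apply] at hx
  refine ⟨x, -e / c, hx0, ?_⟩
  have h1 : c • T x = (-e) • x := by rw [neg_smul]; exact eq_neg_of_add_eq_zero_left hx
  rw [div_eq_inv_mul, mul_smul, ← h1, smul_smul, inv_mul_cancel₀ hc, one_smul]

/-- a unitary transformation in four dimensions fixes a non-degenerate point or an isotropic plane -/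
theorem point_or_plane {T : (Fin 4 → F) →ₗ[F] Fin 4 → F} (hT : UPres hF T) :
    HasPoint hF T ∨ HasPlane hF T := by
  classical
  set p := (LinearMap.toMatrix' T).charpoly
  have hp : p.natDegree = 4 := by rw [Matrix.charpoly_natDegree_eq_dim, Fintype.card_fin]
  have hp0 : p ≠ 0 := fun e => by rw [e, natDegree_zero] at hp; omega
  have hgood := Forms.hermSesq_goodForm (n := 4) hF
  by_cases hex : ∃ h, Irreducible h ∧ h ∣ p ∧ h.natDegree ≠ 1
  · obtain ⟨h, hirr, hdvd, hd1⟩ := hex
    obtain ⟨x, hx0, hx⟩ := exists_ker_of_dvd_charpoly T hirr hdvd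
    have hle := natDegree_le_finrank_ker T hirr hx0 hx
    have hd4 := natDegree_le_of_dvd hdvd hp0
    have hd0 := hirr.natDegree_pos
    set K := LinearMap.ker (aeval T h)
    by_cases hev : Even h.natDegree
    · have hiso : ∀ u ∈ K, ∀ w ∈ K, Forms.hermSesq hF 4 u w = 0 := fun u hu w hw =>
        hT.ker_isotropic hirr hev hu hw
      have h2 := finrank_isotropic_le hiso
      obtain ⟨k, hk⟩ := hev
      exact Or.inr ⟨K, by omega, hiso, hT.map_eq (ker_invariant T h)⟩
    · have hd3 : h.natDegree = 3 := by
        rcases Nat.not_even_iff_odd.1 hev with ⟨k, hk⟩; omega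
      obtain ⟨r, hr⟩ := hdvd
      have hr0 : r ≠ 0 := by rintro rfl; exact hp0 (by rw [hr, mul_zero])
      have hr1 : r.natDegree = 1 := by
        rw [hr, natDegree_mul hirr.ne_zero hr0] at hp; omega
      have hrirr : Irreducible r := Polynomial.irreducible_of_degree_eq_one
        (by rw [degree_eq_natDegree hr0, hr1]; rfl)
      obtain ⟨y, a, hy0, hy⟩ := exists_eigvec_of_dvd T hrirr hr1 (Dvd.intro_left h hr.symm)
      have hyK : y ∉ K := by
        intro hyK
        have h1 : h.eval a • y = 0 := by
          rw [← Module.End.aeval_apply_of_hasEigenvector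
            (show Module.End.HasEigenvector T a y from ⟨Module.End.mem_eigenspace_iff.2 hy, hy0⟩)]
          exact hyK
        have h2 : h.eval a ≠ 0 := fun e => hd1 (Polynomial.natDegree_eq_of_degree_eq_some
          (Polynomial.degree_eq_one_of_irreducible_of_root hirr e))
        exact hy0 ((smul_eq_zero.1 h1).resolve_left h2)
      have hK : Module.finrank F K = 3 := by
        have h3 : Module.finrank F K < 4 := by
          have := Submodule.finrank_lt (s := K) (fun e => hyK (e ▸ Submodule.mem_top))
          simpa using this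
        omega
      have hP : Module.finrank F (Forms.perp (Forms.hermSesq hF 4) K) = 1 := by
        have := hgood.finrank_add_finrank_perp K
        rw [Module.finrank_fin_fun] at this
        omega
      obtain ⟨⟨u, huP⟩, hu0, hspan⟩ := finrank_eq_one_iff'.1 hP
      have hu0' : u ≠ 0 := fun e => hu0 (Subtype.ext e)
      obtain ⟨c, hc⟩ := hspan ⟨T u, hT.perp_invariant (ker_invariant T h) u huP⟩
      have hTu : T u = c • u := (congrArg Subtype.val hc).symm
      refine Or.inl (hasPoint_of_eig hT (fun huu => ?_) hTu)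
      have huK : u ∈ K := by
        rw [← hgood.perp_perp K]
        intro z hz
        obtain ⟨d, hd⟩ := hspan ⟨z, hz⟩
        rw [show z = d • u from (congrArg Subtype.val hd).symm, LinearMap.map_smulₛₗ₂, huu, smul_zero]
      have h1 : h.eval c • u = 0 := by
        rw [← Module.End.aeval_apply_of_hasEigenvector
          (show Module.End.HasEigenvector T c u from ⟨Module.End.mem_eigenspace_iff.2 hTu, hu0'⟩)]
        exact huK
      have h2 : h.eval c ≠ 0 := fun e => hd1 (Polynomial.natDegree_eq_of_degree_eq_some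
          (Polynomial.degree_eq_one_of_irreducible_of_root hirr e))
      exact hu0' ((smul_eq_zero.1 h1).resolve_left h2)
  · push Not at hex
    obtain ⟨h, hirr, hdvd⟩ := WfDvdMonoid.exists_irreducible_factor
      (fun hu => by have := natDegree_eq_zero_of_isUnit hu; omega) hp0
    obtain ⟨v, lam, hv0, hv⟩ := exists_eigvec_of_dvd T hirr (hex h hirr hdvd) hdvd
    by_cases hvv : Forms.hermSesq hF 4 v v = 0
    swap
    · exact Or.inl (hasPoint_of_eig hT hvv hv)
    set L := F ∙ v with hL
    have hLinv : ∀ x ∈ L, T x ∈ L := fun x hx => by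
      obtain ⟨c, rfl⟩ := Submodule.mem_span_singleton.1 hx
      rw [map_smul, hv]
      exact L.smul_mem c (L.smul_mem lam (Submodule.mem_span_singleton_self v))
    set P := Forms.perp (Forms.hermSesq hF 4) L
    have hPinv : ∀ x ∈ P, T x ∈ P := hT.perp_invariant hLinv
    have hPrank : Module.finrank F P = 3 := by
      have h1 : Module.finrank F L = 1 := by rw [hL, finrank_span_singleton hv0]
      have h2 : Module.finrank F L + Module.finrank F P = 4 :=
        (hgood.finrank_add_finrank_perp L).trans (Module.finrank_fin_fun F)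
      omega
    obtain ⟨w₀, hw₀P, hw₀L⟩ : ∃ w₀ ∈ P, w₀ ∉ L := by
      by_contra hc
      push Not at hc
      have := Submodule.finrank_mono (show P ≤ L from hc)
      rw [hPrank, hL, finrank_span_singleton hv0] at this
      omega
    obtain ⟨w, α, hwP, hwL, hw⟩ := exists_eig_mod T hPinv hw₀P hw₀L p hp0 hex
      (by rw [aeval_charpoly_toMatrix]; exact L.zero_mem)
    obtain ⟨c, hc⟩ := Submodule.mem_span_singleton.1 hw
    have hTw : T w = α • w + c • v := by rw [hc]; abel
    have hvw : Forms.hermSesq hF 4 v w = 0 := hwP v (Submodule.mem_span_singleton_self v)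
    by_cases hww : Forms.hermSesq hF 4 w w = 0
    · exact Or.inr (hasPlane_of_pair hT hv0 hwL hvv hvw hww hv hTw)
    -- a vector `x` with `T x = α x + c v` and `α ≠ λ` can be adjusted to an eigenvector
    have adjust : ∀ (x : Fin 4 → F) (β d : F), Forms.hermSesq hF 4 v x = 0 →
        Forms.hermSesq hF 4 x x ≠ 0 → T x = β • x + d • v → β ≠ lam → HasPoint hF T := by
      intro x β d hvx hxx hTx hne
      refine hasPoint_of_eig hT (v := x + (d / (β - lam)) • v) (a := β) ?_ ?_
      · rw [herm_add_add hF (by rw [map_smul, smul_eq_mul, hgood.eq_zero_symm hvx, mul_zero]),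
          herm_smul_smul, hvv, mul_zero, add_zero]
        exact hxx
      · rw [map_add, map_smul, hTx, hv, smul_add, smul_smul, smul_smul, add_assoc, ← add_smul]
        congr 2
        field_simp [sub_ne_zero.2 hne]
        ring
    by_cases hαl : α = lam
    swap
    · exact Or.inl (adjust w α c hvw hww hTw hαl)
    subst hαl
    have hwperp : w ∉ Forms.perp (Forms.hermSesq hF 4) (F ∙ w) :=
      fun hh => hww (hh w (Submodule.mem_span_singleton_self w))
    set Z := Forms.perp (Forms.hermSesq hF 4) (L ⊔ F ∙ w) with hZ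
    have hdimL2 : Module.finrank F ↥(L ⊔ F ∙ w) = 2 := by
      have hli : LinearIndependent F ![v, w] := by
        rw [LinearIndependent.pair_iff' hv0]
        exact fun t e => hwL (e ▸ Submodule.smul_mem _ t (Submodule.mem_span_singleton_self v))
      have := finrank_span_eq_card hli
      rw [Matrix.range_cons, Matrix.range_cons, Matrix.range_empty, Set.union_empty,
        Submodule.span_union] at this
      rw [this, Fintype.card_fin]
    have hZinv : ∀ x ∈ Z, T x ∈ Z := hT.perp_invariant (fun x hx => by
      obtain ⟨a, ha, b, hb, rfl⟩ := Submodule.mem_sup.1 hx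
      obtain ⟨t, rfl⟩ := Submodule.mem_span_singleton.1 hb
      rw [map_add, map_smul, hTw]
      exact add_mem (Submodule.mem_sup_left (hLinv a ha)) (Submodule.smul_mem _ t
        (add_mem (Submodule.mem_sup_right (Submodule.smul_mem _ α (Submodule.mem_span_singleton_self w)))
          (Submodule.mem_sup_left (L.smul_mem c (Submodule.mem_span_singleton_self v))))))
    have hZrank : Module.finrank F Z = 2 := by
      have : Module.finrank F ↥(L ⊔ F ∙ w) + Module.finrank F Z = 4 :=
        (hgood.finrank_add_finrank_perp (L ⊔ F ∙ w)).trans (Module.finrank_fin_fun F)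
      omega
    have hvZ : v ∈ Z := by
      intro x hx
      obtain ⟨a, ha, b, hb, rfl⟩ := Submodule.mem_sup.1 hx
      obtain ⟨s, rfl⟩ := Submodule.mem_span_singleton.1 ha
      obtain ⟨t, rfl⟩ := Submodule.mem_span_singleton.1 hb
      simp [-Forms.hermSesq_apply, map_smulₛₗ, hvv, hgood.eq_zero_symm hvw]
    obtain ⟨u, huZ, huL⟩ : ∃ u ∈ Z, u ∉ L := by
      by_contra hc'
      push Not at hc'
      have := Submodule.finrank_mono (show Z ≤ L from hc')
      rw [hZrank, hL, finrank_span_singleton hv0] at this
      omega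
    have hli : LinearIndependent F ![v, u] := by
      rw [LinearIndependent.pair_iff' hv0]
      exact fun t e => huL (e ▸ Submodule.smul_mem _ t (Submodule.mem_span_singleton_self v))
    have hspanZ : Submodule.span F (Set.range ![v, u]) = Z := by
      refine Submodule.eq_of_le_of_finrank_le (Submodule.span_le.2 ?_) ?_
      · rintro _ ⟨i, rfl⟩
        fin_cases i
        · exact hvZ
        · exact huZ
      · rw [finrank_span_eq_card hli, hZrank, Fintype.card_fin]
    obtain ⟨co, hco⟩ := (Submodule.mem_span_range_iff_exists_fun F).1 (hspanZ.symm ▸ hZinv u huZ)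
    have hTu : T u = co 1 • u + co 0 • v := by
      rw [← hco, Fin.sum_univ_two]; simp [add_comm]
    have hvu : Forms.hermSesq hF 4 v u = 0 :=
      huZ v (Submodule.mem_sup_left (Submodule.mem_span_singleton_self v))
    have hwu : Forms.hermSesq hF 4 w u = 0 :=
      huZ w (Submodule.mem_sup_right (Submodule.mem_span_singleton_self w))
    by_cases huu : Forms.hermSesq hF 4 u u = 0
    · exact Or.inr (hasPlane_of_pair hT hv0 huL hvv hvu huu hv hTu)
    by_cases hβ : co 1 = α
    swap
    · exact Or.inl (adjust u _ _ hvu huu hTu hβ)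
    obtain ⟨s, -, hs⟩ := exists_norm_eq hF
      (μ := -(Forms.hermSesq hF 4 w w) / Forms.hermSesq hF 4 u u) (div_ne_zero (neg_ne_zero.2 hww) huu)
      (by rw [div_pow, herm_self_fixed, ← Forms.qPowHom_apply hF (-_), map_neg, Forms.qPowHom_apply,
        herm_self_fixed])
    refine Or.inr (hasPlane_of_pair hT hv0 (w := w + s • u) (fun hx => ?_) hvv ?_ ?_ hv
      (b := α) (c := c + s * co 0) ?_)
    · have hwZ : w ∈ Z := by
        have h1 : w = (w + s • u) - s • u := by abel
        rw [h1]
        exact Z.sub_mem ((show L ≤ Z by rw [hL, Submodule.span_singleton_le_iff_mem]; exact hvZ) hx)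
          (Z.smul_mem s huZ)
      exact hww (hwZ w (Submodule.mem_sup_right (Submodule.mem_span_singleton_self w)))
    · rw [map_add, map_smul, hvw, hvu, smul_zero, add_zero]
    · rw [herm_add_add hF (by rw [map_smul, hwu, smul_zero]), herm_smul_smul, hs,
        div_mul_cancel₀ _ huu, add_neg_cancel]
    · rw [map_add, map_smul, hTw, hTu, hβ]
      module

/-- the reference plane -/
def planeVec (c : F) : Fin 2 → (Fin 4 → F) := ![![1, c, 0, 0], ![0, 0, 1, c]]

/-- the reference plane -/
def planeStd (c : F) : Submodule F (Fin 4 → F) := Submodule.span F (Set.range (planeVec c))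

theorem planeVec_indep (c : F) : LinearIndependent F (planeVec c) := by
  rw [Fintype.linearIndependent_iff]
  intro g hg i
  have h0 := congrFun hg 0
  have h2 := congrFun hg 2
  simp [planeVec, Fin.sum_univ_two] at h0 h2
  fin_cases i <;> assumption

theorem planeVec_gram (hF : Fintype.card F = q ^ 2) {c : F} (hc : c ^ (q + 1) = -1) (i j : Fin 2) :
    Forms.hermSesq hF 4 (planeVec c i) (planeVec c j) = 0 := by
  have hq := Forms.two_le_of_card_sq hF
  have hc' : c * c ^ q = -1 := by rw [← pow_succ', hc]
  fin_cases i <;> fin_cases j <;>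
    simp [planeVec, Forms.hermSesq_apply, Cfsg.hermForm, Fin.sum_univ_four,
      zero_pow (show q ≠ 0 by omega), hc']

theorem detFix_plane (hF : Fintype.card F = q ^ 2) {c : F} (hc : c ^ (q + 1) = -1) :
    DetFix hF (planeStd c) := by
  intro x hx
  classical
  have hq := Forms.two_le_of_card_sq hF
  have hqz : (0 : F) ^ q = 0 := zero_pow (by omega)
  have hc' : c * c ^ q = -1 := by rw [← pow_succ', hc]
  obtain ⟨t, ht⟩ := Forms.exists_add_conj_eq_one (Forms.qPowHom_ne_id hF) (Forms.qPowHom_qPowHom hF)
  rw [Forms.qPowHom_apply] at ht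
  obtain ⟨k, hk0, hk⟩ : ∃ k : F, k ≠ 0 ∧ x * k ^ q = k := by
    have hadd : ∀ a b : F, (a + b) ^ q = a ^ q + b ^ q := fun a b => by
      simpa using map_add (Forms.qPowHom hF) a b
    have hxq : x ^ q * x = 1 := by rw [← pow_succ, hx]
    have key : ∀ y : F, x * (y + x * y ^ q) ^ q = y + x * y ^ q := fun y => by
      rw [hadd, mul_pow, Forms.pow_q_pow_q hF]
      linear_combination y * hxq
    by_cases h1 : (1 : F) + x * 1 ^ q ≠ 0
    · exact ⟨_, h1, key 1⟩
    · push Not at h1
      obtain ⟨y, hy⟩ : ∃ y : F, y ^ q ≠ y := by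
        by_contra hall
        push Not at hall
        exact Forms.qPowHom_ne_id hF (RingHom.ext fun y => by simp [hall])
      refine ⟨_, fun e => hy ?_, key y⟩
      rw [one_pow, mul_one] at h1
      linear_combination -e + (y ^ q) * h1
  set l := (k ^ q)⁻¹
  set B := Forms.hermSesq hF 4
  set w : Fin 4 → F := ![1, c, 0, 0] with hw
  set a : Fin 4 → F := ![t, -c * (1 - t), 0, 0] with ha
  have hgood := Forms.hermSesq_goodForm (n := 4) hF
  have hww : B w w = 0 := planeVec_gram hF hc 0 0
  have hwa : B w a = 1 := by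
    simp [B, hw, ha, Forms.hermSesq_apply, Cfsg.hermForm, Fin.sum_univ_four, hqz]
    linear_combination (t - 1) * hc'
  have hneg : ∀ z : F, (-z) ^ q = -(z ^ q) := fun z => by simpa using map_neg (Forms.qPowHom hF) z
  have hsub : ∀ z : F, (1 - z) ^ q = 1 - z ^ q := fun z => by simpa using map_sub (Forms.qPowHom hF) 1 z
  have haa : B a a = 0 := by
    simp [B, ha, Forms.hermSesq_apply, Cfsg.hermForm, Fin.sum_univ_four, hqz, mul_pow, hneg, hsub]
    linear_combination ((1 - t) * (1 - t ^ q)) * hc' + ht
  have haw : B a w = 1 := by rw [hgood.herm w a, hwa]; simp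
  have hkl : Forms.qPowHom hF k * l = 1 := by
    rw [Forms.qPowHom_apply, mul_inv_cancel₀ (pow_ne_zero q hk0)]
  let D := Forms.pairScaling B w a ((k - 1) * 1) (l - 1)
  have hD : UPres hF D := hgood.pairScaling_preserves hkl hww haa hwa
  refine ⟨D, hD, ?_, hD.map_eq fun v hv => ?_⟩
  · have hmat : LinearMap.toMatrix' D =
        1 + vecMulVec w (((k - 1) * 1) • Forms.conjVec q a) + vecMulVec a ((l - 1) • Forms.conjVec q w) := by
      refine Matrix.toLin'.injective (LinearMap.ext fun v => ?_)
      rw [Matrix.toLin'_toMatrix', Matrix.toLin'_apply]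
      simp only [D, Forms.pairScaling_apply, Matrix.add_mulVec, Matrix.one_mulVec, Matrix.vecMulVec_mulVec,
        smul_dotProduct, Forms.conjVec_dotProduct, B, Forms.hermSesq_apply, smul_eq_mul]
      funext i
      simp [mul_comm]
    rw [← LinearMap.det_toMatrix', hmat, Forms.det_one_add_two]
    simp only [smul_dotProduct, Forms.conjVec_dotProduct, ← Forms.hermSesq_apply hF, smul_eq_mul]
    rw [show Forms.hermSesq hF 4 a w = 1 from haw, show Forms.hermSesq hF 4 w a = 1 from hwa,
      show Forms.hermSesq hF 4 a a = 0 from haa, show Forms.hermSesq hF 4 w w = 0 from hww]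
    have : x = k * l := by
      rw [eq_mul_inv_iff_mul_eq₀ (pow_ne_zero q hk0)]; exact hk
    rw [this]; ring
  · obtain ⟨co, rfl⟩ := (Submodule.mem_span_range_iff_exists_fun F).1 hv
    refine (Submodule.mem_span_range_iff_exists_fun F).2 ⟨![k * co 0, co 1], ?_⟩
    have hp0 : planeVec c 0 = w := rfl
    have h1 : B w (planeVec c 1) = 0 := planeVec_gram hF hc 0 1
    have h2 : B a (planeVec c 1) = 0 := by
      simp [B, ha, planeVec, Forms.hermSesq_apply, Cfsg.hermForm, Fin.sum_univ_four, hqz]
    simp only [Fin.sum_univ_two, map_add, map_smul, hp0, Matrix.cons_val_zero, Matrix.cons_val_one]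
    simp only [D, Forms.pairScaling_apply, hww, h1, h2, haw]
    simp
    module

theorem exists_move_plane (hF : Fintype.card F = q ^ 2) {c : F} (hc : c ^ (q + 1) = -1)
    {W : Submodule F (Fin 4 → F)} (hdim : Module.finrank F W = 2)
    (hW : ∀ x ∈ W, ∀ y ∈ W, Forms.hermSesq hF 4 x y = 0) :
    ∃ k : Cfsg.SU 4 F q, W.map (suAct k) = planeStd c := by
  let b := Module.finBasisOfFinrankEq F W hdim
  obtain ⟨g, hg, hgb⟩ := (Forms.hermSesq_goodForm hF).witt_family (fun i => (b i : Fin 4 → F))
    (planeVec c) (b.linearIndependent.map' W.subtype W.ker_subtype) (planeVec_indep c)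
    (fun i j => (hW _ (b i).2 _ (b j).2).trans (planeVec_gram hF hc i j).symm)
  refine exists_su_move (detFix_plane hF hc) (T := g.toLinearMap) hg ?_
  have e : W = Submodule.span F (Set.range fun i => (b i : Fin 4 → F)) := by
    rw [show Set.range (fun i => (b i : Fin 4 → F)) = W.subtype '' Set.range b from Set.range_comp W.subtype b,
      Submodule.span_image, b.span_eq, Submodule.map_top, Submodule.range_subtype]
  rw [e, Submodule.map_span, ← Set.range_comp]
  exact congrArg (Submodule.span F) (congrArg Set.range (funext hgb))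

theorem covered_psu_four (hF : Fintype.card F = q ^ 2) : Covered (Cfsg.PSU 4 F q) := by
  classical
  have hq := Forms.two_le_of_card_sq hF
  have hqz : (0 : F) ^ q = 0 := zero_pow (by omega)
  obtain ⟨c, -, hc⟩ := exists_norm_eq hF (μ := (-1 : F)) (neg_ne_zero.2 one_ne_zero)
    (by rw [← Forms.qPowHom_apply hF, map_neg, map_one])
  have hc' : c * c ^ q = -1 := by rw [← pow_succ', hc]
  refine covered_quotient (center_le_suStab hF 0 (pointStd 3 F)) (center_le_suStab hF 0 (planeStd c))
    (point_ne_top hF (by omega)) ?_ fun g => ?_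
  · let u : Fin 2 → (Fin 4 → F) := ![![1, 0, c, 0], ![0, 1, 0, c]]
    have hli : LinearIndependent F u := by
      rw [Fintype.linearIndependent_iff]
      intro g hg i
      have h0 := congrFun hg 0
      have h1 := congrFun hg 1
      simp [u, Fin.sum_univ_two] at h0 h1
      fin_cases i <;> assumption
    have hu : ∀ i j, Forms.hermSesq hF 4 (u i) (u j) = 0 := fun i j => by
      fin_cases i <;> fin_cases j <;>
        simp [u, Forms.hermSesq_apply, Cfsg.hermForm, Fin.sum_univ_four, hqz, hc']
    refine suStab_ne_top hF (W := Submodule.span F (Set.range u)) ?_ (exists_move_plane hF hc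
      ((finrank_span_eq_card hli).trans (Fintype.card_fin 2)) ?_)
    · intro h
      obtain ⟨co, hco⟩ := (Submodule.mem_span_range_iff_exists_fun F).1
        (show u 0 ∈ planeStd c from h ▸ Submodule.subset_span ⟨0, rfl⟩)
      have h0 := congrFun hco 0
      have h1 := congrFun hco 1
      simp [u, planeVec, Fin.sum_univ_two] at h0 h1
      rw [h0] at h1
      simp at h1
      rw [h1] at hc'
      simp at hc'
    · intro x hx y hy
      obtain ⟨cx, rfl⟩ := (Submodule.mem_span_range_iff_exists_fun F).1 hx
      obtain ⟨cy, rfl⟩ := (Submodule.mem_span_range_iff_exists_fun F).1 hy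
      simp [-Forms.hermSesq_apply, Fin.sum_univ_two, map_smulₛₗ, hu]
  · rcases point_or_plane (suAct_pres hF g) with ⟨v, hv, hgv⟩ | ⟨W, hdim, hW, hgW⟩
    · obtain ⟨k, hk⟩ := exists_move_point hF hv
      exact ⟨k, Or.inl (conj_mem_suStab hgv hk)⟩
    · obtain ⟨k, hk⟩ := exists_move_plane hF hc hdim hW
      exact ⟨k, Or.inr (conj_mem_suStab hgW hk)⟩

end Cfsg.Agent.Lib.CoverTwo
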