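import Mathlib
import Cfsg.Agent.Lib.CoverTwo.UFour
import Cfsg.Agent.Lib.CoverTwo.PolyRoot
import Cfsg.Agent.S0755
import Cfsg.Agent.S2643

/-!
# `PSU₃(q)`, `q = 3^a`: every element fixes a non-degenerate point or normalises a cubic field
-/

set_option autoImplicit false

namespace Cfsg.Agent.Lib.CoverTwo

open Matrix Polynomial

variable {F : Type*} [Field F] [Fintype F] {q : ℕ} {hF : Fintype.card F = q ^ 2}

local notation "V" => (Fin 3 → F)
local notation "B[" hF "]" => Forms.hermSesq hF 3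

section Model

variable {E : Type*} [Field E] [Algebra F E] [Fintype E]

/-- transport of a multiplication to the natural module -/
def fldMul (e : (Fin 3 → F) ≃ₗ[F] E) : E →ₐ[F] Module.End F (Fin 3 → F) :=
  (e.symm.conjAlgEquiv F).toAlgHom.comp (Algebra.lmul F E)

theorem fldMul_apply (e : (Fin 3 → F) ≃ₗ[F] E) (r : E) (v : Fin 3 → F) :
    fldMul e r v = e.symm (r * e v) := rfl

/-- the normaliser of the field inside `SU₃` -/
def fldNorm (e : (Fin 3 → F) ≃ₗ[F] E) : Subgroup (Cfsg.SU 3 F q) where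
  carrier := {g | ∃ φ : E ≃+* E, ∀ r, suAct g ∘ₗ fldMul e r = fldMul e (φ r) ∘ₗ suAct g}
  one_mem' := ⟨RingEquiv.refl E, fun r => by simp [suAct_one]⟩
  mul_mem' {a b} := by
    rintro ⟨φ, hφ⟩ ⟨ψ, hψ⟩
    refine ⟨ψ.trans φ, fun r => ?_⟩
    rw [suAct_mul, LinearMap.comp_assoc, hψ, ← LinearMap.comp_assoc, hφ, LinearMap.comp_assoc]
    rfl
  inv_mem' {a} := by
    rintro ⟨φ, hφ⟩
    refine ⟨φ.symm, fun r => ?_⟩
    have h := hφ (φ.symm r)
    rw [RingEquiv.apply_symm_apply] at h
    have e1 : suAct a⁻¹ ∘ₗ suAct a = LinearMap.id := by rw [← suAct_mul, inv_mul_cancel, suAct_one]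
    have e2 : suAct a ∘ₗ suAct a⁻¹ = LinearMap.id := by rw [← suAct_mul, mul_inv_cancel, suAct_one]
    calc suAct a⁻¹ ∘ₗ fldMul e r
        = suAct a⁻¹ ∘ₗ (fldMul e r ∘ₗ suAct a) ∘ₗ suAct a⁻¹ := by
          rw [LinearMap.comp_assoc, e2, LinearMap.comp_id]
      _ = suAct a⁻¹ ∘ₗ (suAct a ∘ₗ fldMul e (φ.symm r)) ∘ₗ suAct a⁻¹ := by rw [h]
      _ = fldMul e (φ.symm r) ∘ₗ suAct a⁻¹ := by
          simp only [← LinearMap.comp_assoc, e1, LinearMap.id_comp]

theorem center_le_fldNorm (hF : Fintype.card F = q ^ 2) (e : (Fin 3 → F) ≃ₗ[F] E) :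
    Subgroup.center (Cfsg.SU 3 F q) ≤ fldNorm e := by
  intro g hg
  refine ⟨RingEquiv.refl E, fun r => LinearMap.ext fun v => ?_⟩
  have h := Classical.center_SU_scalar hF g hg 0
  have he : ∀ x, suAct g x = g.1.1 0 0 • x := fun x => by
    show g.1.1 *ᵥ x = _
    funext i
    conv_lhs => rw [h]
    rw [Matrix.mulVec_diagonal]
    rfl
  show suAct g (fldMul e r v) = fldMul e r (suAct g v)
  rw [he, he, map_smul]

theorem fldMul_algebraMap (e : (Fin 3 → F) ≃ₗ[F] E) (c : F) (v : Fin 3 → F) :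
    fldMul e (algebraMap F E c) v = c • v := by
  rw [AlgHom.commutes, Module.algebraMap_end_apply]

theorem fldNorm_ne_top [CharP F 3] (hF : Fintype.card F = q ^ 2) (hE : Module.finrank F E = 3)
    (e : (Fin 3 → F) ≃ₗ[F] E) : fldNorm (q := q) e ≠ ⊤ := by
  classical
  haveI : Fact (Nat.Prime 3) := ⟨by norm_num⟩
  obtain ⟨a, ha, ha2⟩ := Classical.exists_norm_one_sq_ne_one hF
  have ha0 : a ≠ 0 := fun e0 => by rw [e0, zero_pow (by omega)] at ha; exact zero_ne_one ha
  let d : Fin 3 → F := ![a, a⁻¹, 1]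
  have hd : ∀ i, d i ^ (q + 1) = 1 := fun i => by fin_cases i <;> simp [d, ha]
  have hdet : (Matrix.diagonal d).det = 1 := by simp [Matrix.det_diagonal, Fin.prod_univ_three, d, ha0]
  let g : Cfsg.SU 3 F q := Classical.suMk (Matrix.diagonal d) hdet (Classical.diagonal_mem_GU hF d hd)
  intro htop
  have hg : g ∈ fldNorm e := htop ▸ Subgroup.mem_top g
  obtain ⟨φ, hφ⟩ := hg
  have hg_eig : suAct g (Pi.single 2 1) = Pi.single 2 1 := by
    show Matrix.diagonal d *ᵥ Pi.single 2 1 = _
    funext i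
    rw [Matrix.mulVec_diagonal]
    fin_cases i <;> simp [d]
  set x : Fin 3 → F := Pi.single 2 1
  have hx : e x ≠ 0 := by simp [x]
  have hφF : ∀ c : F, φ (algebraMap F E c) = algebraMap F E c := by
    intro c
    have h := LinearMap.congr_fun (hφ (algebraMap F E c)) x
    rw [LinearMap.comp_apply, LinearMap.comp_apply, fldMul_algebraMap, map_smul, hg_eig,
      fldMul_apply] at h
    exact mul_right_cancel₀ hx (by
      rw [← LinearEquiv.apply_symm_apply e (φ _ * e x), ← h, map_smul, Algebra.smul_def])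
  haveI : FiniteDimensional F E := Module.finite_of_finrank_pos (by omega)
  haveI : IsGalois F E := inferInstance
  let φA : E ≃ₐ[F] E := AlgEquiv.ofRingEquiv (f := φ) hφF
  have h3 : φA ^ 3 = 1 := by
    have h := pow_card_eq_one' (x := φA)
    rwa [IsGalois.card_aut_eq_finrank, hE] at h
  have key : ∀ r, suAct g (fldMul e r x) = fldMul e (φ r) x := fun r => by
    rw [← LinearMap.comp_apply, hφ, LinearMap.comp_apply, hg_eig]
  have hcube : ∀ v, suAct g (suAct g (suAct g v)) = v := by
    intro v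
    obtain ⟨r, rfl⟩ : ∃ r, fldMul e r x = v :=
      ⟨e v * (e x)⁻¹, by rw [fldMul_apply, inv_mul_cancel_right₀ hx, LinearEquiv.symm_apply_apply]⟩
    rw [key, key, key]
    exact congrArg (fun z => fldMul e z x) (AlgEquiv.congr_fun h3 r)
  have h0 := congrFun (hcube (Pi.single 0 1)) 0
  change (Matrix.diagonal d *ᵥ (Matrix.diagonal d *ᵥ (Matrix.diagonal d *ᵥ Pi.single 0 1))) 0 = _ at h0
  rw [Matrix.mulVec_diagonal, Matrix.mulVec_diagonal, Matrix.mulVec_diagonal] at h0
  simp [d] at h0
  have h1 : (a - 1) ^ 3 = 0 := by rw [sub_pow_char, one_pow]; linear_combination h0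
  exact ha2 (by rw [sub_eq_zero.1 (pow_eq_zero_iff (by norm_num) |>.1 h1), mul_one])

end Model

/-- the data of the cubic extension with its Hermitian trace form -/
structure CubicModel (hF : Fintype.card F = q ^ 2) (E : Type*) [Field E] [Algebra F E] [Fintype E] where
  finrank_eq : Module.finrank F E = 3
  conj : E →+* E
  conj_apply : ∀ x, conj x = x ^ q ^ 3
  equiv : (Fin 3 → F) ≃ₗ[F] E
  equiv_form : ∀ x y, B[hF] x y = Algebra.trace F E (conj (equiv x) * equiv y)

section Trace

variable {E : Type*} [Field E] [Algebra F E] [Fintype E]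

theorem card_cubic (hF : Fintype.card F = q ^ 2) (hE : Module.finrank F E = 3) :
    Fintype.card E = (q ^ 3) ^ 2 := by
  haveI : FiniteDimensional F E := Module.finite_of_finrank_pos (by omega)
  rw [(Module.card_eq_pow_finrank : Fintype.card E = Fintype.card F ^ Module.finrank F E), hF, hE, ← pow_mul, ← pow_mul]

theorem pow_cube_eq (hF : Fintype.card F = q ^ 2) (a : F) : a ^ q ^ 3 = a ^ q := by
  rw [pow_succ q 2, pow_mul, ← hF, FiniteField.pow_card]

theorem trace_conj (hF : Fintype.card F = q ^ 2) (hE : Module.finrank F E = 3) (z : E) :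
    Algebra.trace F E (z ^ q ^ 3) = (Algebra.trace F E z) ^ q := by
  let e₁ : F ≃+* F := RingEquiv.ofBijective (Forms.qPowHom hF)
    (Function.Involutive.bijective (Forms.qPowHom_qPowHom hF))
  let s := Forms.qPowHom (card_cubic hF hE)
  let e₂ : E ≃+* E := RingEquiv.ofBijective s
    (Function.Involutive.bijective (Forms.qPowHom_qPowHom (card_cubic hF hE)))
  have he : RingHom.comp (algebraMap F E) ↑e₁ = RingHom.comp ↑e₂ (algebraMap F E) := by
    refine RingHom.ext fun a => ?_
    show algebraMap F E (Forms.qPowHom hF a) = s (algebraMap F E a)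
    rw [Forms.qPowHom_apply, Forms.qPowHom_apply, ← map_pow, pow_cube_eq hF]
  have h := Algebra.trace_eq_of_equiv_equiv e₁ e₂ he z
  have h2 := congrArg e₁ h
  rw [RingEquiv.apply_symm_apply] at h2
  show Algebra.trace F E (z ^ q ^ 3) = _
  rw [← Forms.qPowHom_apply (card_cubic hF hE), ← Forms.qPowHom_apply hF]
  exact h2.symm

theorem exists_cubicModel (hF : Fintype.card F = q ^ 2) (hE : Module.finrank F E = 3) :
    Nonempty (CubicModel hF E) := by
  classical
  haveI : FiniteDimensional F E := Module.finite_of_finrank_pos (by omega)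
  have hcE := card_cubic hF hE
  let s := Forms.qPowHom hcE
  have hs : ∀ x, s x = x ^ q ^ 3 := fun x => Forms.qPowHom_apply hcE x
  let Bm : E →ₛₗ[Forms.qPowHom hF] E →ₗ[F] F :=
    LinearMap.mk₂'ₛₗ (Forms.qPowHom hF) (RingHom.id F) (fun x y => Algebra.trace F E (s x * y))
      (fun x x' y => by rw [map_add, add_mul, map_add])
      (fun c x y => by
        rw [Algebra.smul_def, map_mul s, mul_assoc, hs (algebraMap F E c), ← map_pow, pow_cube_eq hF,
          ← Algebra.smul_def, map_smul]; simp)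
      (fun x y y' => by rw [mul_add, map_add])
      (fun c x y => by rw [mul_smul_comm, map_smul, RingHom.id_apply, smul_eq_mul])
  have hBm : ∀ x y, Bm x y = Algebra.trace F E (s x * y) := fun _ _ => rfl
  have hS : Bm.IsSymm := ⟨fun x y => by
    rw [hBm, hBm, Forms.qPowHom_apply, ← trace_conj hF hE, ← hs, map_mul, Forms.qPowHom_qPowHom,
      mul_comm]⟩
  have hnd : ∀ x, (∀ y, Bm x y = 0) → x = 0 := by
    intro x hx
    have h := (traceForm_nondegenerate F E).1 (s x) fun y => hx y
    exact s.injective (h.trans (map_zero s).symm)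
  have hN : Bm.Nondegenerate := ⟨hnd, fun y hy => hnd y fun x => by
    have := hS.eq x y
    rw [hy x, map_zero] at this
    exact this.symm⟩
  obtain ⟨b, hb⟩ := S0755.result (Forms.qPowHom hF) (Forms.qPowHom_ne_id hF)
    (Forms.qPowHom_qPowHom hF) Bm hS hN
  let b' := b.reindex (finCongr hE)
  refine ⟨⟨hE, s, hs, b'.equivFun.symm, fun x y => ?_⟩⟩
  rw [← hBm, Module.Basis.equivFun_symm_apply, Module.Basis.equivFun_symm_apply,
    Forms.hermSesq_apply, Cfsg.hermForm]
  simp only [map_sum, map_smulₛₗ, LinearMap.sum_apply, LinearMap.smul_apply, smul_eq_mul,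
    RingHom.id_apply]
  have hb' : ∀ i j, Bm (b' i) (b' j) = if i = j then 1 else 0 := fun i j => by
    simp only [b', Module.Basis.reindex_apply, hb]
    simp
  simp [hb', mul_comm]

end Trace

section Classify

variable [CharP F 3]

theorem exists_cube_norm_one {x : F} (hx : x ^ (q + 1) = 1) : ∃ a : F, a ^ (q + 1) = 1 ∧ a ^ 3 = x := by
  haveI : Fact (Nat.Prime 3) := ⟨by norm_num⟩
  obtain ⟨a, ha⟩ := surjective_frobenius F 3 x
  rw [frobenius_def] at ha
  refine ⟨a, frobenius_inj F 3 ?_, ha⟩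
  rw [frobenius_def, frobenius_def, one_pow, ← pow_mul, mul_comm, pow_mul, ha, hx]

/-- an isometry carrying `g` to a field element gives a conjugate in the field normaliser -/
theorem conj_mem_fldNorm {E : Type*} [Field E] [Algebra F E] [Fintype E] (M : CubicModel hF E)
    {g : Cfsg.SU 3 F q} {T : V →ₗ[F] V} (hT : UPres hF T) {r : E}
    (h : T ∘ₗ suAct g = fldMul M.equiv r ∘ₗ T) : ∃ x, x * g * x⁻¹ ∈ fldNorm M.equiv := by
  have hdx := hT.det_norm
  have hd0 : LinearMap.det T ≠ 0 := fun e => by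
    rw [e, zero_pow (by omega)] at hdx; exact zero_ne_one hdx
  obtain ⟨a, ha, ha3⟩ := exists_cube_norm_one (q := q) (x := (LinearMap.det T)⁻¹)
    (by rw [inv_pow, hdx, inv_one])
  have hD : UPres hF (a • T) := fun u v => by
    rw [LinearMap.smul_apply, LinearMap.smul_apply, LinearMap.map_smulₛₗ₂, map_smul, hT, smul_eq_mul,
      smul_eq_mul, Forms.qPowHom_apply, ← mul_assoc, ← pow_succ, ha, one_mul]
  have hdet : (LinearMap.toMatrix' (a • T)).det = 1 := by
    rw [LinearMap.det_toMatrix', LinearMap.det_smul, Module.finrank_fin_fun, ha3, inv_mul_cancel₀ hd0]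
  let k : Cfsg.SU 3 F q := Classical.suMk _ hdet fun u v => by
    rw [LinearMap.toMatrix'_mulVec, LinearMap.toMatrix'_mulVec]
    exact hD v u
  have hk : suAct k = a • T := LinearMap.ext fun v => LinearMap.toMatrix'_mulVec (a • T) v
  have hconj : suAct (k * g * k⁻¹) = fldMul M.equiv r := by
    have e2 : suAct k ∘ₗ suAct k⁻¹ = LinearMap.id := by rw [← suAct_mul, mul_inv_cancel, suAct_one]
    rw [suAct_mul, suAct_mul]
    conv_lhs => rw [hk, LinearMap.smul_comp, h, ← LinearMap.comp_smul, ← hk, LinearMap.comp_assoc, e2]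
    exact LinearMap.comp_id _
  refine ⟨k, RingEquiv.refl E, fun s => ?_⟩
  rw [hconj]
  show fldMul M.equiv r * fldMul M.equiv s = fldMul M.equiv s * fldMul M.equiv r
  rw [← map_mul, ← map_mul, mul_comm]

theorem adjoint_polyRoot {E : Type*} [Field E] [Algebra F E] [Fintype E]
    (hF : Fintype.card F = q ^ 2) (s : E →+* E) (hs : ∀ x, s x = x ^ q ^ 3) {r : E}
    (hr : s r = r⁻¹) (P : F[X]) : s (aeval r P) = aeval r⁻¹ (P.map (Forms.qPowHom hF)) := by
  rw [aeval_def, aeval_def, hom_eval₂, eval₂_map, hr]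
  congr 1
  refine RingHom.ext fun a => ?_
  rw [RingHom.comp_apply, RingHom.comp_apply, hs, ← map_pow, pow_cube_eq hF, Forms.qPowHom_apply]

/-- irreducible case -/
theorem conj_fldNorm_of_irreducible {E : Type*} [Field E] [Algebra F E] [Fintype E] (M : CubicModel hF E)
    (g : Cfsg.SU 3 F q) (hirr : Irreducible (LinearMap.toMatrix' (suAct g)).charpoly) :
    ∃ x, x * g * x⁻¹ ∈ fldNorm M.equiv := by
  classical
  set T := suAct g with hTdef
  have hT : UPres hF T := suAct_pres hF g
  set p := (LinearMap.toMatrix' T).charpoly with hp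
  haveI := Fact.mk hirr
  have hdeg : p.natDegree = 3 := by rw [hp, Matrix.charpoly_natDegree_eq_dim, Fintype.card_fin]
  have hp0 : p ≠ 0 := hirr.ne_zero
  haveI : Module.Finite F (AdjoinRoot p) := (AdjoinRoot.powerBasis hp0).finite
  haveI : FiniteDimensional F E := Module.finite_of_finrank_pos (by have := M.finrank_eq; omega)
  have hfr : Module.finrank F (AdjoinRoot p) = 3 := by
    rw [(AdjoinRoot.powerBasis hp0).finrank, AdjoinRoot.powerBasis_dim, hdeg]
  obtain ⟨ι⟩ := FiniteField.nonempty_algHom_of_finrank_dvd (F := F) (K := AdjoinRoot p) (L := E)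
    (by rw [hfr, M.finrank_eq])
  have hι : Function.Bijective ι :=
    ⟨ι.toRingHom.injective, (LinearMap.injective_iff_surjective_of_finrank_eq_finrank
      (by rw [hfr, M.finrank_eq]) (f := ι.toLinearMap)).1 ι.toRingHom.injective⟩
  let ιe := AlgEquiv.ofBijective ι hι
  obtain ⟨φ₀, hφ₀⟩ := exists_algHom_of_root p (E := Module.End F V) (J := T) (aeval_charpoly_toMatrix T)
  let Φ : E →ₐ[F] Module.End F V := φ₀.comp ιe.symm.toAlgHom
  set r : E := ι (AdjoinRoot.root p)
  have hΦr : Φ r = T := by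
    show φ₀ (ιe.symm r) = T
    rw [show ιe.symm r = AdjoinRoot.root p from ιe.symm_apply_apply _, hφ₀]
  have hΦinj : Function.Injective Φ := Φ.toRingHom.injective
  have hroot : aeval r p = 0 := by
    rw [aeval_algHom_apply, AdjoinRoot.aeval_eq, AdjoinRoot.mk_self, map_zero]
  have hr0 : r ≠ 0 := by
    intro e0
    have h1 := LinearMap.congr_fun (hΦr.symm.trans ((congrArg Φ e0).trans (map_zero Φ))) (Pi.single 0 1)
    exact (show (Pi.single 0 1 : V) ≠ 0 by simp) (hT.injective (h1.trans (map_zero T).symm))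
  have hS : T * Φ r⁻¹ = 1 := by rw [← hΦr, ← map_mul, mul_inv_cancel₀ hr0, map_one]
  have hinv : aeval r⁻¹ (p.map (Forms.qPowHom hF)) = 0 := by
    apply hΦinj
    rw [map_zero, ← aeval_algHom_apply]
    refine LinearMap.ext fun y => (Forms.hermSesq_goodForm hF).nondeg_right _ fun x => ?_
    rw [← hT.adjoint_aeval hS, aeval_charpoly_toMatrix]
    simp
  have hconj : M.conj r = r⁻¹ := by
    -- the root `r⁻¹ ^ q` is a conjugate of `r`
    haveI := ringChar.charP F
    obtain ⟨m, hpr, hm⟩ := FiniteField.card F (ringChar F)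
    haveI := Fact.mk hpr
    obtain ⟨f, -, hf⟩ := (Nat.dvd_prime_pow hpr).mp
      (show q ∣ ringChar F ^ (m : ℕ) by rw [← hm, hF]; exact dvd_pow_self q (by norm_num))
    haveI : CharP E (ringChar F) :=
      charP_of_injective_algebraMap (algebraMap F E).injective (ringChar F)
    haveI : ExpChar E (ringChar F) := ExpChar.prime hpr
    let s : E →+* E := iterateFrobenius E (ringChar F) f
    have hs : ∀ x, s x = x ^ q := fun x => by rw [hf]; exact iterateFrobenius_def _ _ x
    have hrq : aeval ((r⁻¹) ^ q) p = 0 := by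
      have h1 := congrArg s hinv
      rw [map_zero, aeval_def, eval₂_map, hom_eval₂, hs] at h1
      have e : s.comp ((algebraMap F E).comp (Forms.qPowHom hF)) = algebraMap F E :=
        RingHom.ext fun a => by
          rw [RingHom.comp_apply, RingHom.comp_apply, hs, ← map_pow, Forms.qPowHom_apply,
            Forms.pow_q_pow_q hF]
      rw [e] at h1
      rw [aeval_def]
      exact h1
    let ψ₀ : AdjoinRoot p →ₐ[F] E := Ideal.Quotient.liftₐ (Ideal.span {p}) (aeval ((r⁻¹) ^ q))
      fun a ha => by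
        obtain ⟨c, rfl⟩ := Ideal.mem_span_singleton'.1 ha
        rw [map_mul, hrq, mul_zero]
    let ψ : E →ₐ[F] E := ψ₀.comp ιe.symm.toAlgHom
    have hψ : ψ r = (r⁻¹) ^ q := by
      show ψ₀ (ιe.symm r) = _
      rw [show ιe.symm r = AdjoinRoot.root p from ιe.symm_apply_apply _]
      exact aeval_X _
    obtain ⟨i, hi⟩ := (FiniteField.bijective_frobeniusAlgHom_pow F E).2 ψ
    dsimp only at hi
    have hi3 : i.1 < 3 := M.finrank_eq ▸ i.2
    have hord : orderOf (FiniteField.frobeniusAlgHom F E) = 3 := by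
      rw [FiniteField.orderOf_frobeniusAlgHom, M.finrank_eq]
    have hψr : ψ (ψ r) = FiniteField.frobeniusAlgHom F E r := by
      rw [hψ, map_pow, map_inv₀, hψ, FiniteField.coe_frobeniusAlgHom]
      show (((r⁻¹) ^ q)⁻¹) ^ q = r ^ Fintype.card F
      simp only [inv_pow, inv_inv, ← pow_mul, hF, sq]
    have hψ2 : ψ * ψ = FiniteField.frobeniusAlgHom F E := by
      refine AlgHom.ext fun z => ?_
      obtain ⟨z, rfl⟩ := hι.2 z
      obtain ⟨P, rfl⟩ := AdjoinRoot.mk_surjective z
      rw [← AdjoinRoot.aeval_eq, ← aeval_algHom_apply]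
      show ψ (ψ (aeval r P)) = FiniteField.frobeniusAlgHom F E (aeval r P)
      rw [← aeval_algHom_apply, ← aeval_algHom_apply, ← aeval_algHom_apply, hψr]
    rw [← hi, ← pow_add] at hψ2
    nth_rewrite 2 [← pow_one (FiniteField.frobeniusAlgHom F E)] at hψ2
    have hfo : IsOfFinOrder (FiniteField.frobeniusAlgHom F E) := orderOf_pos_iff.1 (by rw [hord]; norm_num)
    have h2 := hfo.pow_eq_pow_iff_modEq.1 hψ2
    rw [hord] at h2
    unfold Nat.ModEq at h2
    have hi2 : i.1 = 2 := by omega
    rw [← hi, hi2, AlgHom.coe_pow, FiniteField.coe_frobeniusAlgHom, pow_iterate] at hψ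
    have h3 := congrArg (fun z : E => z ^ (q ^ 2)) hψ
    simp only [← pow_mul, hF] at h3
    rw [show q ^ (2 * 2) * q ^ 2 = Fintype.card E by rw [card_cubic hF M.finrank_eq]; ring,
      FiniteField.pow_card, show q * q ^ 2 = q ^ 3 by ring, inv_pow] at h3
    rw [M.conj_apply]
    conv_rhs => rw [h3, inv_inv]
  -- the cyclic coordinates
  obtain ⟨x, hx0⟩ : ∃ x : V, x ≠ 0 := ⟨Pi.single 0 1, by simp⟩
  let τ : E →ₗ[F] V := (LinearMap.applyₗ x).comp Φ.toLinearMap
  have hτ : ∀ s, τ s = Φ s x := fun _ => rfl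
  have hτinj : Function.Injective τ := by
    rw [← LinearMap.ker_eq_bot, LinearMap.ker_eq_bot']
    intro s hs
    by_contra hs0
    apply hx0
    have : Φ (s⁻¹ * s) x = 0 := by rw [map_mul, Module.End.mul_apply, ← hτ, hs, map_zero]
    rwa [inv_mul_cancel₀ hs0, map_one, Module.End.one_apply] at this
  let τe : E ≃ₗ[F] V := LinearEquiv.ofBijective τ ⟨hτinj,
    (LinearMap.injective_iff_surjective_of_finrank_eq_finrank
      (by rw [M.finrank_eq, Module.finrank_fin_fun])).1 hτinj⟩
  have hgen : ∀ s : E, ∃ P : F[X], aeval r P = s := by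
    intro s
    obtain ⟨z, rfl⟩ := hι.2 s
    obtain ⟨P, rfl⟩ := AdjoinRoot.mk_surjective z
    exact ⟨P, by rw [← AdjoinRoot.aeval_eq, ← aeval_algHom_apply]⟩
  have hadj : ∀ (s : E) (u w : V), B[hF] (Φ s u) w = B[hF] u (Φ (M.conj s) w) := by
    intro s u w
    obtain ⟨P, rfl⟩ := hgen s
    rw [adjoint_polyRoot hF M.conj M.conj_apply hconj, ← aeval_algHom_apply, ← aeval_algHom_apply, hΦr]
    exact hT.adjoint_aeval hS P u w
  have hnd := traceForm_nondegenerate F E
  obtain ⟨ρ, hρ⟩ : ∃ ρ, ∀ t, Algebra.trace F E (ρ * t) = B[hF] x (Φ t x) := by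
    let ℓ : Module.Dual F E := (B[hF] x).comp τ
    exact ⟨((Algebra.traceForm F E).toDual hnd).symm ℓ, fun t =>
      LinearMap.BilinForm.apply_toDual_symm_apply (hB := hnd) ℓ t⟩
  have hconj2 : ∀ z, M.conj (M.conj z) = z := fun z => by
    rw [M.conj_apply, M.conj_apply, ← pow_mul, ← sq, ← card_cubic hF M.finrank_eq, FiniteField.pow_card]
  have hρfix : M.conj ρ = ρ := by
    refine sub_eq_zero.1 (hnd.1 _ fun t => ?_)
    show Algebra.trace F E ((M.conj ρ - ρ) * t) = 0
    rw [sub_mul, map_sub, sub_eq_zero, hρ]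
    have h1 : B[hF] x (Φ t x) = (B[hF] x (Φ (M.conj t) x)) ^ q := by
      rw [(Forms.hermSesq_goodForm hF).herm (Φ t x) x, hadj, Forms.qPowHom_apply, one_mul]
    rw [h1, ← hρ, ← trace_conj hF M.finrank_eq, ← M.conj_apply, map_mul M.conj, hconj2]
  have hρ0 : ρ ≠ 0 := by
    intro e0
    apply hx0
    refine (Forms.hermSesq_goodForm hF).nondeg x fun y => ?_
    obtain ⟨s, rfl⟩ := τe.surjective y
    show B[hF] x (Φ s x) = 0
    rw [← hρ, e0, zero_mul, map_zero]
  obtain ⟨c, hc0, hc⟩ := exists_norm_eq (card_cubic hF M.finrank_eq) hρ0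
    (by rw [← M.conj_apply, hρfix])
  let T' : V →ₗ[F] V := M.equiv.symm.toLinearMap ∘ₗ (LinearMap.mulLeft F c) ∘ₗ τe.symm.toLinearMap
  have hT' : UPres hF T' := by
    intro u w
    obtain ⟨s, rfl⟩ := τe.surjective u
    obtain ⟨t, rfl⟩ := τe.surjective w
    rw [M.equiv_form]
    simp only [T', LinearMap.comp_apply, LinearEquiv.coe_coe, LinearEquiv.apply_symm_apply,
      LinearEquiv.symm_apply_apply, LinearMap.mulLeft_apply]
    show _ = B[hF] (Φ s x) (Φ t x)
    rw [hadj, ← Module.End.mul_apply, ← map_mul, ← hρ, map_mul M.conj, show M.conj c * M.conj s * (c * t) =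
      (c ^ (q ^ 3) * c) * (M.conj s * t) by rw [← M.conj_apply]; ring, ← pow_succ, hc]
  refine conj_mem_fldNorm M hT' (r := r) ?_
  refine LinearMap.ext fun u => ?_
  obtain ⟨s, rfl⟩ := τe.surjective u
  have e1 : T (τe s) = τe (r * s) := by
    show T (Φ s x) = Φ (r * s) x
    rw [map_mul, hΦr]; rfl
  simp only [LinearMap.comp_apply, T', LinearEquiv.coe_coe, LinearEquiv.symm_apply_apply,
    LinearMap.mulLeft_apply, fldMul_apply, LinearEquiv.apply_symm_apply]
  rw [show suAct g (τe s) = τe (r * s) from e1, LinearEquiv.symm_apply_apply, mul_left_comm]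

omit [CharP F 3] in
theorem nilpotent_rank {N : V →ₗ[F] V} (h3 : ∀ v, N (N (N v)) = 0) {v : V} (h2 : N (N v) ≠ 0) :
    Module.finrank F (LinearMap.range N) = 2 := by
  have hge : 2 ≤ Module.finrank F (LinearMap.range N) := by
    have hli : LinearIndependent F ![(⟨N v, ⟨v, rfl⟩⟩ : LinearMap.range N), ⟨N (N v), ⟨N v, rfl⟩⟩] := by
      rw [LinearIndependent.pair_iff]
      intro s t hst
      have h1 : s • N v + t • N (N v) = 0 := congrArg Subtype.val hst
      have h4 : s • N (N v) = 0 := by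
        have := congrArg N h1
        rwa [map_add, map_smul, map_smul, h3, smul_zero, add_zero, map_zero] at this
      have hs : s = 0 := (smul_eq_zero.1 h4).resolve_right h2
      rw [hs, zero_smul, zero_add] at h1
      exact ⟨hs, (smul_eq_zero.1 h1).resolve_right h2⟩
    simpa using hli.fintype_card_le_finrank
  have hk : 1 ≤ Module.finrank F (LinearMap.ker N) := Submodule.one_le_finrank_iff.2 fun hb => h2 (by
    have hmem : N (N v) ∈ LinearMap.ker N := LinearMap.mem_ker.2 (h3 v)
    rw [hb] at hmem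
    exact hmem)
  have := LinearMap.finrank_range_add_finrank_ker N
  rw [Module.finrank_fin_fun] at this
  omega

/-- what is needed of a regular unipotent element -/
def IsRegUni (g : Cfsg.SU 3 F q) : Prop :=
  (∀ v, suAct g (suAct g (suAct g v)) = v) ∧
    ∃ v, suAct g (suAct g v) + suAct g v + v ≠ 0

theorem regUni_mem_class {g : Cfsg.SU 3 F q} (hg : IsRegUni g) :
    (((g.1 : SpecialLinearGroup (Fin 3) F) : Matrix (Fin 3) (Fin 3) F) - 1) ^ 3 = 0 ∧
    (((g.1 : SpecialLinearGroup (Fin 3) F) : Matrix (Fin 3) (Fin 3) F) - 1).rank = 3 - 1 := by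
  set M : Matrix (Fin 3) (Fin 3) F := ((g.1 : SpecialLinearGroup (Fin 3) F) : Matrix (Fin 3) (Fin 3) F)
  obtain ⟨h3, v, h2⟩ := hg
  have h3z : (3 : F) = 0 := by exact_mod_cast (CharP.cast_eq_zero F 3)
  have hN : ∀ u, (M - 1).mulVecLin u = suAct g u - u := fun u => by
    simp [Matrix.sub_mulVec, suAct, M]
  have hN3 : ∀ u, (M - 1).mulVecLin ((M - 1).mulVecLin ((M - 1).mulVecLin u)) = 0 := fun u => by
    rw [hN, hN, hN]
    simp only [map_sub, h3]
    funext i
    simp only [Pi.sub_apply, Pi.zero_apply]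
    linear_combination ((suAct g u) i - (suAct g (suAct g u)) i) * h3z
  refine ⟨Matrix.toLin'.injective (LinearMap.ext fun u => ?_), nilpotent_rank hN3 (v := v) ?_⟩
  · rw [map_zero, LinearMap.zero_apply, Matrix.toLin'_apply, show (M - 1) ^ 3 = (M - 1) * ((M - 1) * (M - 1)) by
      rw [pow_succ', sq]]
    rw [← Matrix.mulVec_mulVec, ← Matrix.mulVec_mulVec]
    exact hN3 u
  · rw [hN, hN]
    simp only [map_sub]
    intro h
    apply h2
    rw [← h]
    funext i
    simp only [Pi.sub_apply, Pi.add_apply]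
    linear_combination (suAct g v i) * h3z

theorem regUni_conj (hF : Fintype.card F = q ^ 2) {g g' : Cfsg.SU 3 F q} (hg : IsRegUni g)
    (hg' : IsRegUni g') : ∃ x, x * g * x⁻¹ = g' := by
  classical
  have hgcd : Nat.gcd 3 (q + 1) = 1 := by
    have h3 : 3 ∣ q := by
      have h : 3 ∣ q ^ 2 := by
        rw [← hF, ← CharP.cast_eq_zero_iff F 3]
        exact FiniteField.cast_card_eq_zero F
      exact Nat.Prime.dvd_of_dvd_pow (by norm_num) h
    exact (Nat.Prime.coprime_iff_not_dvd (by norm_num)).2 (by omega)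
  have hcard := S2643.result hF (show 2 ≤ 3 by norm_num)
  rw [hgcd] at hcard
  obtain ⟨hsub, -⟩ := Nat.card_eq_one_iff_unique.1 hcard
  have h := hsub.elim ⟨ConjClasses.mk g, g, rfl, regUni_mem_class hg⟩
    ⟨ConjClasses.mk g', g', rfl, regUni_mem_class hg'⟩
  exact isConj_iff.1 (ConjClasses.mk_eq_mk_iff_isConj.1 (congrArg Subtype.val h))

/-- the Frobenius automorphism of the field is a regular unipotent element of the normaliser -/
theorem exists_regUni_mem_fldNorm {E : Type*} [Field E] [Algebra F E] [Fintype E] (M : CubicModel hF E) :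
    ∃ u : Cfsg.SU 3 F q, IsRegUni u ∧ u ∈ fldNorm M.equiv := by
  haveI : Fact (Nat.Prime 3) := ⟨by norm_num⟩
  haveI : FiniteDimensional F E := Module.finite_of_finrank_pos (by have := M.finrank_eq; omega)
  let σA := FiniteField.frobeniusAlgEquivOfAlgebraic F E
  have hσ : ∀ z, σA z = z ^ Fintype.card F := fun z => rfl
  let Tσ : V →ₗ[F] V := M.equiv.symm.toLinearMap ∘ₗ σA.toLinearMap ∘ₗ M.equiv.toLinearMap
  have hTσ : ∀ v, Tσ v = M.equiv.symm (σA (M.equiv v)) := fun _ => rfl
  have hpres : UPres hF Tσ := fun u w => by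
    rw [M.equiv_form, M.equiv_form, hTσ, hTσ, LinearEquiv.apply_symm_apply, LinearEquiv.apply_symm_apply,
      show M.conj (σA (M.equiv u)) = σA (M.conj (M.equiv u)) by rw [hσ, map_pow, ← hσ],
      ← map_mul σA, Algebra.trace_eq_of_algEquiv]
  have hcube : ∀ z, σA (σA (σA z)) = z := fun z => by
    have h : σA ^ 3 = 1 := by
      rw [show 3 = orderOf σA by rw [FiniteField.orderOf_frobeniusAlgEquivOfAlgebraic, M.finrank_eq]]
      exact pow_orderOf_eq_one σA
    exact AlgEquiv.congr_fun h z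
  have hT3 : ∀ v, Tσ (Tσ (Tσ v)) = v := fun v => by
    simp only [hTσ, LinearEquiv.apply_symm_apply, hcube, LinearEquiv.symm_apply_apply]
  have hdet : (LinearMap.toMatrix' Tσ).det = 1 := by
    rw [LinearMap.det_toMatrix']
    refine frobenius_inj F 3 ?_
    rw [frobenius_def, frobenius_def, one_pow, pow_succ, pow_two, ← LinearMap.det_comp,
      ← LinearMap.det_comp, show (Tσ ∘ₗ Tσ) ∘ₗ Tσ = LinearMap.id from LinearMap.ext hT3, LinearMap.det_id]
  let u : Cfsg.SU 3 F q := Classical.suMk _ hdet fun x y => by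
    rw [LinearMap.toMatrix'_mulVec, LinearMap.toMatrix'_mulVec]
    exact hpres y x
  have hu : ∀ v, suAct u v = Tσ v := fun v => LinearMap.toMatrix'_mulVec Tσ v
  refine ⟨u, ⟨fun v => by rw [hu, hu, hu, hT3], ?_⟩, σA.toRingEquiv, fun r => LinearMap.ext fun v => ?_⟩
  · obtain ⟨z, hz⟩ := Algebra.trace_surjective F E 1
    refine ⟨M.equiv.symm z, fun h => ?_⟩
    have h1 := congrArg M.equiv h
    simp only [hu, hTσ, map_add, LinearEquiv.apply_symm_apply, map_zero, hσ, ← pow_mul] at h1
    have h2 := FiniteField.algebraMap_trace_eq_sum_pow F E z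
    rw [hz, map_one, M.finrank_eq, Finset.sum_range_succ, Finset.sum_range_succ, Finset.sum_range_one,
      Nat.card_eq_fintype_card] at h2
    refine one_ne_zero (α := E) (h2.trans ?_)
    rw [← h1]
    simp only [pow_two, pow_zero, pow_one]
    ring
  · rw [LinearMap.comp_apply, LinearMap.comp_apply, hu, hu, hTσ, hTσ, fldMul_apply, fldMul_apply,
      LinearEquiv.apply_symm_apply, LinearEquiv.apply_symm_apply, map_mul σA]
    rfl

/-- every element fixes a non-degenerate point, is field-like, or is regular unipotent -/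
theorem point_or_regUni (hF : Fintype.card F = q ^ 2) (g : Cfsg.SU 3 F q) :
    HasPoint hF (suAct g) ∨ Irreducible (LinearMap.toMatrix' (suAct g)).charpoly ∨ IsRegUni g := by
  classical
  haveI : Fact (Nat.Prime 3) := ⟨by norm_num⟩
  have h3z : (3 : F) = 0 := by exact_mod_cast (CharP.cast_eq_zero F 3)
  set T := suAct g with hTdef
  have hT : UPres hF T := suAct_pres hF g
  set p := (LinearMap.toMatrix' T).charpoly
  have hp : p.natDegree = 3 := by rw [Matrix.charpoly_natDegree_eq_dim, Fintype.card_fin]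
  by_cases hex : ∀ a, ¬ p.IsRoot a
  · exact Or.inr (Or.inl (Polynomial.irreducible_of_degree_le_three_of_not_isRoot
      (by rw [hp]; decide) hex))
  push Not at hex
  obtain ⟨a₀, ha₀⟩ := hex
  obtain ⟨v, lam, hv0, hv⟩ := exists_eigvec_of_dvd T (Polynomial.irreducible_X_sub_C a₀)
    (Polynomial.natDegree_X_sub_C a₀) (Polynomial.dvd_iff_isRoot.2 ha₀)
  by_cases hvv : B[hF] v v = 0
  swap
  · exact Or.inl (hasPoint_of_eig hT hvv hv)
  have hgood := Forms.hermSesq_goodForm (n := 3) hF
  set L := F ∙ v with hL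
  have hLinv : ∀ x ∈ L, T x ∈ L := fun x hx => by
    obtain ⟨c, rfl⟩ := Submodule.mem_span_singleton.1 hx
    rw [map_smul, hv]
    exact L.smul_mem c (L.smul_mem lam (Submodule.mem_span_singleton_self v))
  set P := Forms.perp B[hF] L
  have hPinv : ∀ x ∈ P, T x ∈ P := hT.perp_invariant hLinv
  have hPrank : Module.finrank F P = 2 := by
    have h1 : Module.finrank F L = 1 := by rw [hL, finrank_span_singleton hv0]
    have h2 : Module.finrank F L + Module.finrank F P = 3 :=
      (hgood.finrank_add_finrank_perp L).trans (Module.finrank_fin_fun F)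
    omega
  have hvP : v ∈ P := fun x hx => by
    obtain ⟨s, rfl⟩ := Submodule.mem_span_singleton.1 hx
    rw [LinearMap.map_smulₛₗ₂, hvv, smul_zero]
  obtain ⟨w, hwP, hwL⟩ : ∃ w ∈ P, w ∉ L := by
    by_contra hc
    push Not at hc
    have := Submodule.finrank_mono (show P ≤ L from hc)
    rw [hPrank, hL, finrank_span_singleton hv0] at this
    omega
  have hvw : B[hF] v w = 0 := hwP v (Submodule.mem_span_singleton_self v)
  have hwv : B[hF] w v = 0 := hgood.eq_zero_symm hvw
  have hli : LinearIndependent F ![v, w] := by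
    rw [LinearIndependent.pair_iff' hv0]
    exact fun t e => hwL (e ▸ Submodule.smul_mem _ t (Submodule.mem_span_singleton_self v))
  have hspanP : Submodule.span F (Set.range ![v, w]) = P := by
    refine Submodule.eq_of_le_of_finrank_le (Submodule.span_le.2 ?_) ?_
    · rintro _ ⟨i, rfl⟩
      fin_cases i
      · exact hvP
      · exact hwP
    · rw [finrank_span_eq_card hli, hPrank, Fintype.card_fin]
  have hPmem : ∀ x ∈ P, ∃ a b : F, x = a • w + b • v := fun x hx => by
    rw [← hspanP] at hx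
    obtain ⟨co, rfl⟩ := (Submodule.mem_span_range_iff_exists_fun F).1 hx
    exact ⟨co 1, co 0, by rw [Fin.sum_univ_two]; simp [add_comm]⟩
  obtain ⟨α, c, hTw⟩ := hPmem (T w) (hPinv w hwP)
  have hww : B[hF] w w ≠ 0 := by
    intro hww
    obtain ⟨W, hW2, hWiso, -⟩ := hasPlane_of_pair hT hv0 hwL hvv hvw hww hv hTw
    have := finrank_isotropic_le hWiso
    omega
  by_cases hne : α = lam
  swap
  · refine Or.inl (hasPoint_of_eig hT (v := w + (c / (α - lam)) • v) (a := α) ?_ ?_)
    · rw [herm_add_add hF (by rw [map_smul, smul_eq_mul, hwv, mul_zero]), herm_smul_smul, hvv, mul_zero,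
        add_zero]
      exact hww
    · rw [map_add, map_smul, hTw, hv, smul_add, smul_smul, smul_smul, add_assoc, ← add_smul]
      congr 2
      field_simp [sub_ne_zero.2 hne]
      ring
  subst hne
  have hnorm : α ^ q * α = 1 := by
    have h := hT w w
    rw [hTw] at h
    simp [-Forms.hermSesq_apply, map_smulₛₗ, hvv, hvw, hwv] at h
    exact mul_right_cancel₀ hww (by linear_combination h)
  obtain ⟨z, hz⟩ : ∃ z, B[hF] v z ≠ 0 := by
    by_contra hc
    push Not at hc
    exact hv0 (hgood.nondeg v hc)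
  have hα0 : α ≠ 0 := right_ne_zero_of_mul_eq_one hnorm
  have hzP : T z - α • z ∈ P := fun x hx => by
    obtain ⟨s, rfl⟩ := Submodule.mem_span_singleton.1 hx
    have h : α ^ q * B[hF] v (T z) = B[hF] v z := by
      rw [← hT v z, hv, LinearMap.map_smulₛₗ₂, smul_eq_mul, Forms.qPowHom_apply]
    rw [LinearMap.map_smulₛₗ₂, map_sub, map_smul, smul_eq_mul, smul_eq_mul]
    have h' : B[hF] v (T z) = α * B[hF] v z := by
      linear_combination α * h - B[hF] v (T z) * hnorm
    rw [h', sub_self, mul_zero]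
  obtain ⟨a, b, hTz⟩ := hPmem _ hzP
  rw [sub_eq_iff_eq_add] at hTz
  have hdecomp : ∀ x, ∃ r s t : F, x = r • z + s • w + t • v := fun x => by
    obtain ⟨s, t, hst⟩ := hPmem (x - (B[hF] v x / B[hF] v z) • z) fun y hy => by
      obtain ⟨d, rfl⟩ := Submodule.mem_span_singleton.1 hy
      rw [LinearMap.map_smulₛₗ₂, map_sub, map_smul, smul_eq_mul, smul_eq_mul, div_mul_cancel₀ _ hz,
        sub_self, mul_zero]
    exact ⟨_, s, t, by rw [sub_eq_iff_eq_add] at hst; rw [hst]; abel⟩
  have hcube : ∀ x, T (T (T x)) = α ^ 3 • x := fun x => by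
    obtain ⟨r, s, t, rfl⟩ := hdecomp x
    simp only [map_add, map_smul, hTz, hTw, hv]
    funext i
    simp only [Pi.add_apply, Pi.smul_apply, smul_eq_mul]
    linear_combination (r * (a * α ^ 2 * w i + b * α ^ 2 * v i + a * c * α * v i)
      + s * c * α ^ 2 * v i) * h3z
  have hα1 : α = 1 := by
    have hd : LinearMap.det T = 1 := by
      rw [← LinearMap.det_toMatrix', show LinearMap.toMatrix' T = g.1.1 from
        LinearMap.toMatrix'_toLin' _]
      exact g.1.2
    have h1 : LinearMap.det (T ∘ₗ T ∘ₗ T) = LinearMap.det (α ^ 3 • (LinearMap.id : V →ₗ[F] V)) :=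
      congrArg LinearMap.det (LinearMap.ext hcube)
    rw [LinearMap.det_comp, LinearMap.det_comp, hd, LinearMap.det_smul, Module.finrank_fin_fun,
      LinearMap.det_id] at h1
    refine frobenius_inj F 3 (frobenius_inj F 3 ?_)
    simp only [map_one, frobenius_def]
    linear_combination -h1
  subst hα1
  by_cases hc : c = 0
  · exact Or.inl (hasPoint_of_eig hT hww (a := 1) (by rw [hTw, hc, zero_smul, add_zero]))
  refine Or.inr (Or.inr ⟨fun x => by rw [hcube, one_pow, one_smul], z, fun h => ?_⟩)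
  have hTz' : T z = z + (a • w + b • v) := by rw [hTz, one_smul]; abel
  have hTw' : T w = w + c • v := by rw [hTw, one_smul]
  have hv' : T v = v := by rw [hv, one_smul]
  have ha : a = 0 := by
    have h1 : T (T z) + T z + z = (a * c) • v := by
      simp only [hTz', map_add, map_smul, hTw', hv']
      funext i
      simp only [Pi.add_apply, Pi.smul_apply, smul_eq_mul]
      linear_combination (z i + a * w i + b * v i) * h3z
    rw [h] at h1
    exact (mul_eq_zero.1 ((smul_eq_zero.1 h1.symm).resolve_right hv0)).resolve_right hc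
  have h1 := hT w z
  rw [hTw', hTz', ha] at h1
  simp [-Forms.hermSesq_apply, map_smulₛₗ, hvv, hwv] at h1
  rcases h1 with h1 | h1
  · exact hc h1.1
  · exact hz h1

theorem covered_psu_three (hF : Fintype.card F = q ^ 2) : Covered (Cfsg.PSU 3 F q) := by
  classical
  obtain ⟨h, hirr, hdeg⟩ := exists_irreducible_degree (F := F) (d := 3) (by norm_num)
  haveI := Fact.mk hirr
  haveI : Module.Finite F (AdjoinRoot h) := (AdjoinRoot.powerBasis hirr.ne_zero).finite
  haveI : Finite (AdjoinRoot h) := Module.finite_of_finite F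
  haveI := Fintype.ofFinite (AdjoinRoot h)
  have hE : Module.finrank F (AdjoinRoot h) = 3 := by
    rw [(AdjoinRoot.powerBasis hirr.ne_zero).finrank, AdjoinRoot.powerBasis_dim, hdeg]
  obtain ⟨M⟩ := exists_cubicModel hF hE
  refine covered_quotient (center_le_suStab hF 0 (pointStd 2 F)) (center_le_fldNorm hF M.equiv)
    (point_ne_top hF (by omega)) (fldNorm_ne_top hF hE M.equiv) fun g => ?_
  rcases point_or_regUni hF g with ⟨v, hv, hgv⟩ | hi | hr
  · obtain ⟨k, hk⟩ := exists_move_point hF hv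
    exact ⟨k, Or.inl (conj_mem_suStab hgv hk)⟩
  · obtain ⟨x, hx⟩ := conj_fldNorm_of_irreducible M g hi
    exact ⟨x, Or.inr hx⟩
  · obtain ⟨u, hu, huK⟩ := exists_regUni_mem_fldNorm M
    obtain ⟨x, hx⟩ := regUni_conj hF hr hu
    exact ⟨x, Or.inr (hx ▸ huK)⟩

end Classify

end Cfsg.Agent.Lib.CoverTwo
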